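import Mathlib
import Groth.Prelude.Def_CAlgX

/-!
# Quasi-regular sequences (`CAlgX.IsQuasiRegular`)

* `eval_mem_mul_pow`: a homogeneous polynomial of degree `n` with coefficients in `K`, evaluated at
  `f`, lies in `K * (f)^n`.
* `exists_isHomogeneous_of_mem_pow_succ`: every element of `(f)^(n+1)` is the value at `f` of a
  homogeneous polynomial of degree `n` with coefficients in `(f)`.
* `isQuasiRegular_iff_eval_eq_zero`: quasi-regularity may be tested on homogeneous relations.
* `mem_pow_of_mul_mem_pow`: Matsumura 16.2 (i): `(J^ν : x) = J^ν` when `(J : x) = J`, `J`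
  generated by a quasi-regular sequence.
* `isQuasiRegular_cons`: Matsumura 16.2 (ii), inductive step.
* `isQuasiRegular_comp_equiv`: invariance under permutation.
* `isQuasiRegular_of_isWeaklyRegular`: regular sequences are quasi-regular.
-/

universe u

namespace Groth.Agent.Lib.Helper77.QuasiReg

open MvPolynomial

variable {A : Type u} [CommRing A]

theorem eval_mem_mul_pow {c : ℕ} (f : Fin c → A) (K : Ideal A) {n : ℕ}
    (P : MvPolynomial (Fin c) A) (hP : P.IsHomogeneous n) (hK : ∀ d, P.coeff d ∈ K) :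
    eval f P ∈ K * Ideal.span (Set.range f) ^ n := by
  rw [eval_eq']
  refine Ideal.sum_mem _ fun d hd => Ideal.mul_mem_mul (hK d) ?_
  have hdeg : d.degree = n := by
    by_contra hne
    exact (mem_support_iff.1 hd) (hP.coeff_eq_zero hne)
  have h := (Ideal.mem_span_pow_iff_exists_isHomogeneous f
    (eval f (monomial d (1 : A)))).2 ⟨monomial d 1, isHomogeneous_monomial _ hdeg, rfl⟩
  rw [eval_monomial, one_mul, Finsupp.prod_fintype _ _ (fun i => pow_zero _)] at h
  exact h

theorem exists_isHomogeneous_of_mem_pow_succ {c : ℕ} (f : Fin c → A) {n : ℕ} {x : A}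
    (hx : x ∈ Ideal.span (Set.range f) ^ (n + 1)) :
    ∃ Q : MvPolynomial (Fin c) A, Q.IsHomogeneous n ∧
      (∀ d, Q.coeff d ∈ Ideal.span (Set.range f)) ∧ eval f Q = x := by
  rw [pow_succ'] at hx
  refine Submodule.mul_induction_on hx ?_ ?_
  · intro z hz y hy
    obtain ⟨P, hP, rfl⟩ := (Ideal.mem_span_pow_iff_exists_isHomogeneous f y).1 hy
    refine ⟨C z * P, hP.C_mul z, fun d => ?_, by simp⟩
    rw [coeff_C_mul]
    exact Ideal.mul_mem_right _ _ hz
  · rintro _ _ ⟨Q₁, h₁, h₁', rfl⟩ ⟨Q₂, h₂, h₂', rfl⟩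
    exact ⟨Q₁ + Q₂, h₁.add h₂, fun d => by rw [coeff_add]; exact add_mem (h₁' d) (h₂' d), by simp⟩

theorem isQuasiRegular_iff_eval_eq_zero {c : ℕ} (f : Fin c → A) :
    CAlgX.IsQuasiRegular f ↔ ∀ (n : ℕ) (P : MvPolynomial (Fin c) A), P.IsHomogeneous n →
      eval f P = 0 → ∀ d, P.coeff d ∈ Ideal.span (Set.range f) := by
  constructor
  · intro h n P hP h0 d
    exact h n P hP (by rw [h0]; exact zero_mem _) d
  · intro h n P hP hmem d
    obtain ⟨Q, hQ, hQ', hQe⟩ := exists_isHomogeneous_of_mem_pow_succ f hmem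
    have h1 := h n (P - Q) (hP.sub hQ) (by rw [map_sub, hQe, sub_self]) d
    rw [coeff_sub] at h1
    have := add_mem h1 (hQ' d)
    rwa [sub_add_cancel] at this

/-- Matsumura 16.2 (i). -/
theorem mem_pow_of_mul_mem_pow {c : ℕ} (f : Fin c → A) (hf : CAlgX.IsQuasiRegular f) (x : A)
    (hx : ∀ ξ, x * ξ ∈ Ideal.span (Set.range f) → ξ ∈ Ideal.span (Set.range f)) :
    ∀ (ν : ℕ) (ξ : A), x * ξ ∈ Ideal.span (Set.range f) ^ ν → ξ ∈ Ideal.span (Set.range f) ^ ν := by
  intro ν
  induction ν with
  | zero => intro ξ _; simp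
  | succ ν ih =>
    intro ξ hξ
    have h1 : ξ ∈ Ideal.span (Set.range f) ^ ν :=
      ih ξ (Ideal.pow_le_pow_right (Nat.le_succ ν) hξ)
    obtain ⟨F, hF, rfl⟩ := (Ideal.mem_span_pow_iff_exists_isHomogeneous f ξ).1 h1
    have h2 : ∀ d, F.coeff d ∈ Ideal.span (Set.range f) := by
      intro d
      apply hx
      have := hf ν (C x * F) (hF.C_mul x) (by simpa using hξ) d
      rwa [coeff_C_mul] at this
    rw [pow_succ']
    exact eval_mem_mul_pow f _ F hF h2

section Cons

variable {c : ℕ} (f : Fin c → A) (x : A)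

theorem span_le_span_cons : Ideal.span (Set.range f) ≤ Ideal.span (Set.range (Fin.cons x f : Fin (c + 1) → A)) := by
  apply Ideal.span_mono
  rintro _ ⟨i, rfl⟩
  exact ⟨i.succ, by simp⟩

theorem mem_span_cons : x ∈ Ideal.span (Set.range (Fin.cons x f : Fin (c + 1) → A)) :=
  Ideal.subset_span ⟨0, by simp⟩

/-- the value of a homogeneous polynomial in `c + 1` variables at `(x, f)` in terms of its
coefficients with respect to the first variable. -/
theorem eval_cons_eq_sum {n : ℕ} (P : MvPolynomial (Fin (c + 1)) A) (hP : P.IsHomogeneous n) :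
    eval (Fin.cons x f : Fin (c + 1) → A) P =
      ∑ k ∈ Finset.range (n + 1), eval f ((finSuccEquiv A c P).coeff k) * x ^ k := by
  rw [eval_eq_eval_mv_eval']
  have hdeg : (Polynomial.map (eval f) (finSuccEquiv A c P)).natDegree < n + 1 := by
    refine lt_of_le_of_lt (Polynomial.natDegree_map_le) ?_
    rw [natDegree_finSuccEquiv]
    exact Nat.lt_succ_of_le ((degreeOf_le_totalDegree P 0).trans hP.totalDegree_le)
  rw [Polynomial.eval_eq_sum_range' hdeg]
  refine Finset.sum_congr rfl fun k _ => ?_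
  rw [Polynomial.coeff_map]

variable {f x}

theorem key_zero (hf : CAlgX.IsQuasiRegular f)
    (hx : ∀ ξ, x * ξ ∈ Ideal.span (Set.range f) → ξ ∈ Ideal.span (Set.range f))
    (n : ℕ) (q0 : MvPolynomial (Fin c) A) (hq0 : q0.IsHomogeneous n) (η : A)
    (h : eval f q0 + x * η = 0) :
    η ∈ Ideal.span (Set.range f) ^ n ∧
      ∀ d, q0.coeff d ∈ Ideal.span (Set.range (Fin.cons x f : Fin (c + 1) → A)) := by
  have h1 : x * η ∈ Ideal.span (Set.range f) ^ n := by
    have : x * η = - eval f q0 := by linear_combination h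
    rw [this]
    exact neg_mem ((Ideal.mem_span_pow_iff_exists_isHomogeneous f _).2 ⟨q0, hq0, rfl⟩)
  have h2 := mem_pow_of_mul_mem_pow f hf x hx n η h1
  refine ⟨h2, fun d => ?_⟩
  obtain ⟨h', hh', hh'e⟩ := (Ideal.mem_span_pow_iff_exists_isHomogeneous f η).1 h2
  have h3 := (isQuasiRegular_iff_eval_eq_zero f).1 hf n (q0 + C x * h') (hq0.add (hh'.C_mul x))
    (by rw [map_add, map_mul, eval_C, hh'e]; exact h) d
  rw [coeff_add, coeff_C_mul] at h3
  have h4 : q0.coeff d = (q0.coeff d + x * h'.coeff d) - x * h'.coeff d := by ring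
  rw [h4]
  exact sub_mem (span_le_span_cons f x h3) (Ideal.mul_mem_right _ _ (mem_span_cons f x))

theorem key (hf : CAlgX.IsQuasiRegular f)
    (hx : ∀ ξ, x * ξ ∈ Ideal.span (Set.range f) → ξ ∈ Ideal.span (Set.range f)) :
    ∀ (n : ℕ) (q : ℕ → MvPolynomial (Fin c) A), (∀ k ≤ n, (q k).IsHomogeneous (n - k)) →
      (∑ k ∈ Finset.range (n + 1), eval f (q k) * x ^ k) ∈
        Ideal.span (Set.range (Fin.cons x f : Fin (c + 1) → A)) ^ (n + 1) →
      ∀ k ≤ n, ∀ d, (q k).coeff d ∈ Ideal.span (Set.range (Fin.cons x f : Fin (c + 1) → A)) := by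
  -- reduction to the case of a relation
  have red : ∀ n : ℕ, (∀ (q : ℕ → MvPolynomial (Fin c) A), (∀ k ≤ n, (q k).IsHomogeneous (n - k)) →
      (∑ k ∈ Finset.range (n + 1), eval f (q k) * x ^ k) = 0 →
      ∀ k ≤ n, ∀ d, (q k).coeff d ∈ Ideal.span (Set.range (Fin.cons x f : Fin (c + 1) → A))) →
      (∀ (q : ℕ → MvPolynomial (Fin c) A), (∀ k ≤ n, (q k).IsHomogeneous (n - k)) →
      (∑ k ∈ Finset.range (n + 1), eval f (q k) * x ^ k) ∈
        Ideal.span (Set.range (Fin.cons x f : Fin (c + 1) → A)) ^ (n + 1) →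
      ∀ k ≤ n, ∀ d, (q k).coeff d ∈ Ideal.span (Set.range (Fin.cons x f : Fin (c + 1) → A))) := by
    intro n h0 q hq hmem k hk d
    obtain ⟨Q, hQ, hQ', hQe⟩ := exists_isHomogeneous_of_mem_pow_succ _ hmem
    rw [eval_cons_eq_sum f x Q hQ] at hQe
    have h1 := h0 (fun k => q k - (finSuccEquiv A c Q).coeff k)
      (fun k hk => (hq k hk).sub
        (IsHomogeneous.finSuccEquiv_coeff_isHomogeneous hQ k (n - k) (by omega)))
      (by
        simp only [map_sub, sub_mul, Finset.sum_sub_distrib]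
        rw [hQe, sub_self]) k hk d
    simp only [coeff_sub] at h1
    have h2 : ((finSuccEquiv A c Q).coeff k).coeff d ∈
        Ideal.span (Set.range (Fin.cons x f : Fin (c + 1) → A)) := by
      rw [finSuccEquiv_coeff_coeff]
      exact hQ' _
    have := add_mem h1 h2
    rwa [sub_add_cancel] at this
  intro n
  induction n with
  | zero =>
    apply red
    intro q hq h0 k hk d
    obtain rfl : k = 0 := by omega
    have := key_zero hf hx 0 (q 0) (hq 0 le_rfl) 0 (by simpa using h0)
    exact this.2 d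
  | succ n ih =>
    apply red
    intro q hq h0 k hk d
    rw [Finset.sum_range_succ'] at h0
    have hη : eval f (q 0) + x * (∑ k ∈ Finset.range (n + 1), eval f (q (k + 1)) * x ^ k) = 0 := by
      rw [← h0, Finset.mul_sum, pow_zero, mul_one, add_comm]
      congr 1
      refine Finset.sum_congr rfl fun k _ => ?_
      ring
    have h1 := key_zero hf hx (n + 1) (q 0) (hq 0 (Nat.zero_le _)) _ hη
    rcases k with _ | j
    · exact h1.2 d
    · refine ih (fun k => q (k + 1)) (fun k hk' => ?_) ?_ j (by omega) d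
      · have := hq (k + 1) (by omega)
        rwa [show n + 1 - (k + 1) = n - k by omega] at this
      · exact Ideal.pow_right_mono (span_le_span_cons f x) _ h1.1

/-- Matsumura 16.2 (ii), inductive step. -/
theorem isQuasiRegular_cons (hf : CAlgX.IsQuasiRegular f)
    (hx : ∀ ξ, x * ξ ∈ Ideal.span (Set.range f) → ξ ∈ Ideal.span (Set.range f)) :
    CAlgX.IsQuasiRegular (Fin.cons x f : Fin (c + 1) → A) := by
  intro n P hP hmem d
  by_cases hd : P.coeff d = 0
  · rw [hd]; exact zero_mem _
  have hdeg : d.degree = n := by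
    by_contra hne
    exact hd (hP.coeff_eq_zero hne)
  rw [eval_cons_eq_sum f x P hP] at hmem
  have h1 := key hf hx n (fun k => (finSuccEquiv A c P).coeff k)
    (fun k hk => IsHomogeneous.finSuccEquiv_coeff_isHomogeneous hP k (n - k) (by omega)) hmem
    (d 0) ?_ d.tail
  · rw [finSuccEquiv_coeff_coeff, Finsupp.cons_tail] at h1
    exact h1
  · rw [← hdeg, Finsupp.degree_eq_sum]
    exact Finset.single_le_sum (f := fun i => d i) (fun _ _ => Nat.zero_le _) (Finset.mem_univ 0)

end Cons

theorem isQuasiRegular_comp_equiv {c : ℕ} (f : Fin c → A) (e : Fin c ≃ Fin c)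
    (hf : CAlgX.IsQuasiRegular f) : CAlgX.IsQuasiRegular (f ∘ e) := by
  intro n P hP hmem d
  have hr : Set.range (f ∘ e) = Set.range f := e.surjective.range_comp f
  rw [hr] at hmem ⊢
  have h1 := hf n (rename e P) hP.rename_isHomogeneous (by rwa [eval_rename]) (d.mapDomain e)
  rwa [coeff_rename_mapDomain e e.injective] at h1

theorem ofList_ofFn {c : ℕ} (f : Fin c → A) :
    Ideal.ofList (List.ofFn f) = Ideal.span (Set.range f) := by
  unfold Ideal.ofList
  congr 1
  ext r
  simp [List.mem_ofFn]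

/-- unpacking the last step of a weakly regular sequence. -/
theorem colon_of_isWeaklyRegular {c : ℕ} (f : Fin (c + 1) → A)
    (hf : RingTheory.Sequence.IsWeaklyRegular A (List.ofFn f)) :
    RingTheory.Sequence.IsWeaklyRegular A (List.ofFn fun i : Fin c => f i.castSucc) ∧
      ∀ ξ, f (Fin.last c) * ξ ∈ Ideal.span (Set.range fun i : Fin c => f i.castSucc) →
        ξ ∈ Ideal.span (Set.range fun i : Fin c => f i.castSucc) := by
  rw [List.ofFn_succ', List.concat_eq_append, RingTheory.Sequence.isWeaklyRegular_append_iff,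
    RingTheory.Sequence.isWeaklyRegular_singleton_iff] at hf
  refine ⟨hf.1, fun ξ hξ => ?_⟩
  have h2 := hf.2
  rw [ofList_ofFn] at h2
  have hI : (Ideal.span (Set.range fun i : Fin c => f i.castSucc) • ⊤ : Submodule A A) =
      Ideal.span (Set.range fun i : Fin c => f i.castSucc) := by
    rw [smul_eq_mul, Ideal.mul_top]
  have h3 : f (Fin.last c) • (Submodule.Quotient.mk ξ : A ⧸ (Ideal.span (Set.range fun i : Fin c => f i.castSucc) • ⊤ : Submodule A A)) =
      f (Fin.last c) • 0 := by
    rw [smul_zero, ← Submodule.Quotient.mk_smul, Submodule.Quotient.mk_eq_zero, hI, smul_eq_mul]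
    exact hξ
  have h4 := h2 h3
  rw [Submodule.Quotient.mk_eq_zero, hI] at h4
  exact h4

/-- Matsumura 16.2 (ii): a (weakly) regular sequence in a ring is quasi-regular. -/
theorem isQuasiRegular_of_isWeaklyRegular : ∀ (c : ℕ) (f : Fin c → A),
    RingTheory.Sequence.IsWeaklyRegular A (List.ofFn f) → CAlgX.IsQuasiRegular f := by
  intro c
  induction c with
  | zero =>
    intro f _ n P hP hmem d
    have hr : Set.range f = ∅ := Set.range_eq_empty f
    rw [hr, Ideal.span_empty] at hmem ⊢
    rw [← Ideal.zero_eq_bot, zero_pow (Nat.succ_ne_zero n), Ideal.zero_eq_bot, Ideal.mem_bot] at hmem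
    rw [eq_C_of_isEmpty P, eval_C] at hmem
    rw [Ideal.mem_bot, Subsingleton.elim d 0, hmem]
  | succ c ih =>
    intro f hf
    obtain ⟨h1, h2⟩ := colon_of_isWeaklyRegular f hf
    have h3 := isQuasiRegular_cons (ih _ h1) h2
    have h4 := isQuasiRegular_comp_equiv _ (finRotate (c + 1)) h3
    have h5 : (Fin.cons (f (Fin.last c)) (fun i : Fin c => f i.castSucc) : Fin (c + 1) → A) ∘
        (finRotate (c + 1)) = f := by
      funext i
      rw [Function.comp_apply]
      refine Fin.lastCases ?_ (fun j => ?_) i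
      · rw [finRotate_last]; simp
      · rw [finRotate_of_lt (by simp)]
        have : (⟨(j.castSucc : ℕ) + 1, by simp⟩ : Fin (c + 1)) = j.succ := by
          ext; simp
        rw [this, Fin.cons_succ]
    rwa [h5] at h4

end Groth.Agent.Lib.Helper77.QuasiReg
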