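import Mathlib
import Groth.Prelude.Def_CAlgX
import Groth.Agent.Lib.Helper77.QuasiReg

/-!
# Quasi-regularity depends only on the ideal and the number of generators

`isQuasiRegular_of_span_eq`: if `f` is quasi-regular and `f'` has the same length and generates the
same ideal, then `f'` is quasi-regular.  Also the degree-one consequence
`mem_of_sum_mul_eq_zero` (relations have coefficients in the ideal).
-/

universe u

namespace Groth.Agent.Lib.Helper77.QuasiReg

open MvPolynomial

variable {A : Type u} [CommRing A]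

/-- quasi-regularity in degree one: coefficients of a linear relation modulo `J^2` lie in `J`. -/
theorem mem_of_sum_mul_mem_sq {n : ℕ} (f : Fin n → A) (hf : CAlgX.IsQuasiRegular f) (a : Fin n → A)
    (h : ∑ k, a k * f k ∈ Ideal.span (Set.range f) ^ 2) (k : Fin n) :
    a k ∈ Ideal.span (Set.range f) := by
  classical
  have h1 := hf 1 (∑ j, C (a j) * X j)
    (IsHomogeneous.sum _ _ _ fun j _ => isHomogeneous_C_mul_X (a j) j)
    (by simpa using h) (Finsupp.single k 1)
  rw [coeff_sum] at h1
  have h2 : ∀ j, coeff (Finsupp.single k 1) (C (a j) * X j : MvPolynomial (Fin n) A) =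
      if j = k then a k else 0 := by
    intro j
    rw [coeff_C_mul, coeff_X]
    by_cases hjk : j = k
    · subst hjk; simp
    · rw [if_neg hjk, if_neg (by rwa [Finsupp.single_left_inj one_ne_zero]), mul_zero]
  simp only [h2, Finset.sum_ite_eq', Finset.mem_univ, if_true] at h1
  exact h1

theorem mem_of_sum_mul_eq_zero {n : ℕ} (f : Fin n → A) (hf : CAlgX.IsQuasiRegular f) (a : Fin n → A)
    (h : ∑ k, a k * f k = 0) (k : Fin n) : a k ∈ Ideal.span (Set.range f) :=
  mem_of_sum_mul_mem_sq f hf a (by rw [h]; exact zero_mem _) k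

/-- the linear substitution `X_i ↦ Σ_j M i j X_j`. -/
noncomputable def subst {n : ℕ} (M : Matrix (Fin n) (Fin n) A) :
    MvPolynomial (Fin n) A →ₐ[A] MvPolynomial (Fin n) A :=
  aeval fun i => ∑ j, C (M i j) * X j

theorem subst_isHomogeneous {n : ℕ} (M : Matrix (Fin n) (Fin n) A) {m : ℕ}
    (P : MvPolynomial (Fin n) A) (hP : P.IsHomogeneous m) : (subst M P).IsHomogeneous m := by
  have := hP.aeval (fun i => ∑ j, C (M i j) * X j) (n := 1)
    (fun i => IsHomogeneous.sum _ _ _ fun j _ => isHomogeneous_C_mul_X (M i j) j)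
  rwa [one_mul] at this

theorem eval_subst {n : ℕ} (M : Matrix (Fin n) (Fin n) A) (f : Fin n → A)
    (P : MvPolynomial (Fin n) A) : eval f (subst M P) = eval (fun i => ∑ j, M i j * f j) P := by
  have h := comp_aeval_apply (f := fun i => ∑ j, C (M i j) * X j) (aeval f : MvPolynomial (Fin n) A →ₐ[A] A) P
  have h2 : (fun i => (aeval f : MvPolynomial (Fin n) A →ₐ[A] A) (∑ j, C (M i j) * X j)) =
      fun i => ∑ j, M i j * f j := by
    funext i
    simp
  rw [h2] at h
  exact h

theorem subst_mem_map_C {n : ℕ} (M : Matrix (Fin n) (Fin n) A) (J : Ideal A)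
    (P : MvPolynomial (Fin n) A) (hP : P ∈ Ideal.map (C : A →+* MvPolynomial (Fin n) A) J) :
    subst M P ∈ Ideal.map (C : A →+* MvPolynomial (Fin n) A) J := by
  have hle : Ideal.map (C : A →+* MvPolynomial (Fin n) A) J ≤
      Ideal.comap (subst M).toRingHom (Ideal.map (C : A →+* MvPolynomial (Fin n) A) J) := by
    rw [Ideal.map_le_iff_le_comap]
    intro a ha
    rw [Ideal.mem_comap, Ideal.mem_comap]
    have : (subst M).toRingHom (C a) = C a := by
      show subst M (C a) = C a
      unfold subst
      rw [aeval_C]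
      rfl
    rw [this]
    exact Ideal.mem_map_of_mem _ ha
  exact hle hP

/-- if `M * N ≡ 1` modulo `J`, then `subst N ∘ subst M` is the identity modulo `J[X]`. -/
theorem subst_subst_sub_mem {n : ℕ} (M N : Matrix (Fin n) (Fin n) A) (J : Ideal A)
    (hMN : ∀ i k, (M * N) i k - (1 : Matrix (Fin n) (Fin n) A) i k ∈ J)
    (P : MvPolynomial (Fin n) A) :
    subst N (subst M P) - P ∈ Ideal.map (C : A →+* MvPolynomial (Fin n) A) J := by
  classical
  set 𝔞 := Ideal.map (C : A →+* MvPolynomial (Fin n) A) J with h𝔞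
  have key : (Ideal.Quotient.mkₐ A 𝔞).comp ((subst N).comp (subst M)) = Ideal.Quotient.mkₐ A 𝔞 := by
    apply MvPolynomial.algHom_ext
    intro i
    rw [AlgHom.comp_apply, AlgHom.comp_apply]
    show Ideal.Quotient.mk 𝔞 _ = Ideal.Quotient.mk 𝔞 _
    rw [Ideal.Quotient.eq]
    have h1 : subst N (subst M (X i)) = ∑ k, C ((M * N) i k) * X k := by
      unfold subst
      rw [aeval_X, map_sum]
      simp only [map_mul, aeval_C, aeval_X, algebraMap_eq, Finset.mul_sum]
      rw [Finset.sum_comm]
      refine Finset.sum_congr rfl fun k _ => ?_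
      rw [Matrix.mul_apply, map_sum, Finset.sum_mul]
      refine Finset.sum_congr rfl fun j _ => ?_
      rw [map_mul]; ring
    have h2 : (X i : MvPolynomial (Fin n) A) = ∑ k, C ((1 : Matrix (Fin n) (Fin n) A) i k) * X k := by
      simp [Matrix.one_apply]
    rw [h1, h2, ← Finset.sum_sub_distrib]
    refine Ideal.sum_mem _ fun k _ => ?_
    rw [← sub_mul, ← map_sub]
    exact Ideal.mul_mem_right _ _ (Ideal.mem_map_of_mem _ (hMN i k))
  have := AlgHom.congr_fun key P
  rw [AlgHom.comp_apply, AlgHom.comp_apply] at this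
  exact Ideal.Quotient.eq.1 this

/-- quasi-regularity depends only on the ideal and the number of generators. -/
theorem isQuasiRegular_of_span_eq {n : ℕ} (f f' : Fin n → A) (hf : CAlgX.IsQuasiRegular f)
    (h : Ideal.span (Set.range f') = Ideal.span (Set.range f)) : CAlgX.IsQuasiRegular f' := by
  classical
  have hM : ∀ i, ∃ c : Fin n → A, ∑ j, c j * f j = f' i := fun i =>
    Ideal.mem_span_range_iff_exists_fun.1 (h ▸ Ideal.subset_span ⟨i, rfl⟩)
  have hN : ∀ i, ∃ c : Fin n → A, ∑ j, c j * f' j = f i := fun i =>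
    Ideal.mem_span_range_iff_exists_fun.1 (h.symm ▸ Ideal.subset_span ⟨i, rfl⟩)
  choose M hM using hM
  choose N hN using hN
  let M' : Matrix (Fin n) (Fin n) A := Matrix.of M
  let N' : Matrix (Fin n) (Fin n) A := Matrix.of N
  -- `N * M ≡ 1`
  have hNM : ∀ i k, (N' * M') i k - (1 : Matrix (Fin n) (Fin n) A) i k ∈ Ideal.span (Set.range f) := by
    intro i
    apply mem_of_sum_mul_eq_zero f hf
    simp only [sub_mul, Finset.sum_sub_distrib, Matrix.mul_apply, Matrix.one_apply, ite_mul, one_mul,
      zero_mul, Finset.sum_ite_eq, Finset.mem_univ, if_true, Finset.sum_mul]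
    rw [Finset.sum_comm, sub_eq_zero, ← hN i]
    refine Finset.sum_congr rfl fun j _ => ?_
    rw [← hM j, Finset.mul_sum]
    refine Finset.sum_congr rfl fun k _ => ?_
    simp only [M', N', Matrix.of_apply]
    ring
  -- hence `M * N ≡ 1`
  have hMN : ∀ i k, (M' * N') i k - (1 : Matrix (Fin n) (Fin n) A) i k ∈ Ideal.span (Set.range f) := by
    have h1 : (N'.map (Ideal.Quotient.mk (Ideal.span (Set.range f)))) *
        (M'.map (Ideal.Quotient.mk (Ideal.span (Set.range f)))) = 1 := by
      rw [← Matrix.map_mul]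
      ext i k
      rw [Matrix.map_apply, Matrix.one_apply]
      have := Ideal.Quotient.eq.2 (hNM i k)
      rw [this, Matrix.one_apply]
      split_ifs <;> simp
    have h2 := mul_eq_one_comm.1 h1
    rw [← Matrix.map_mul] at h2
    intro i k
    have h3 := congrFun (congrFun h2 i) k
    rw [Matrix.map_apply] at h3
    rw [← Ideal.Quotient.eq, h3, Matrix.one_apply, Matrix.one_apply]
    split_ifs <;> simp
  intro m P' hP' hmem d
  rw [h] at hmem ⊢
  have hev : eval f (subst M' P') = eval f' P' := by
    rw [eval_subst]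
    have : (fun i => ∑ j, M' i j * f j) = f' := funext hM
    rw [this]
  have h1 : subst M' P' ∈ Ideal.map (C : A →+* MvPolynomial (Fin n) A) (Ideal.span (Set.range f)) := by
    rw [mem_map_C_iff]
    exact hf m _ (subst_isHomogeneous M' P' hP') (by rw [hev]; exact hmem)
  have h2 := subst_mem_map_C N' _ _ h1
  have h3 := subst_subst_sub_mem M' N' _ hMN P'
  have h4 := sub_mem h2 h3
  rw [sub_sub_cancel, mem_map_C_iff] at h4
  exact h4 d

end Groth.Agent.Lib.Helper77.QuasiReg
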