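import Mathlib
import Groth.Prelude.Def_CAlgX
import Groth.Agent.Lib.Helper77.QuasiRegGen

/-!
# Quasi-regular sequences and the conormal module `I/I²`

* `cotangent_basis_of_isQuasiRegular`: a quasi-regular sequence generating `I` gives a basis of
  `I/I²` over `A/I`.
* `span_eq_of_cotangent_span`: Nakayama: elements of `I` spanning `I/I²` generate `I`
  (`I` finitely generated, inside the Jacobson radical).
-/

universe u

namespace Groth.Agent.Lib.Helper77.QuasiReg

variable {A : Type u} [CommRing A]

theorem cotangent_basis_of_isQuasiRegular (I : Ideal A) {m : ℕ} (f : Fin m → I)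
    (hq : CAlgX.IsQuasiRegular (fun i => (f i : A)))
    (hs : Ideal.span (Set.range fun i => (f i : A)) = I) :
    LinearIndependent (A ⧸ I) (fun i => I.toCotangent (f i)) ∧
      Submodule.span (A ⧸ I) (Set.range fun i => I.toCotangent (f i)) = ⊤ := by
  constructor
  · rw [Fintype.linearIndependent_iff]
    intro g hg i
    choose a ha using fun i => Ideal.Quotient.mk_surjective (g i)
    have h1 : I.toCotangent (∑ i, a i • f i) = 0 := by
      rw [map_sum, ← hg]
      refine Finset.sum_congr rfl fun i _ => ?_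
      rw [map_smul, ← ha i]
      exact (algebraMap_smul (A ⧸ I) (a i) _).symm
    rw [Ideal.toCotangent_eq_zero] at h1
    have h2 : ∑ k, a k * (f k : A) ∈ Ideal.span (Set.range fun i => (f i : A)) ^ 2 := by
      rw [hs]
      have : ((∑ i, a i • f i : I) : A) = ∑ k, a k * (f k : A) := by
        rw [Submodule.coe_sum]
        rfl
      rw [← this]
      exact h1
    have h3 := mem_of_sum_mul_mem_sq _ hq a h2 i
    rw [hs] at h3
    rw [← ha i]
    exact Ideal.Quotient.eq_zero_iff_mem.2 h3
  · rw [eq_top_iff]
    rintro x -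
    obtain ⟨y, rfl⟩ := I.toCotangent_surjective x
    have hy : (y : A) ∈ Ideal.span (Set.range fun i => (f i : A)) := by rw [hs]; exact y.2
    obtain ⟨c, hc⟩ := Ideal.mem_span_range_iff_exists_fun.1 hy
    have hy' : y = ∑ i, c i • f i := by
      apply Subtype.ext
      rw [Submodule.coe_sum, ← hc]
      rfl
    rw [hy', map_sum]
    refine Submodule.sum_mem _ fun i _ => ?_
    rw [map_smul, ← algebraMap_smul (A ⧸ I) (c i)]
    exact Submodule.smul_mem _ _ (Submodule.subset_span ⟨i, rfl⟩)

theorem span_eq_of_cotangent_span (I : Ideal A) (hI : I ≤ Ideal.jacobson ⊥) (hfg : I.FG) {m : ℕ}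
    (f : Fin m → I)
    (hspan : Submodule.span (A ⧸ I) (Set.range fun i => I.toCotangent (f i)) = ⊤) :
    Ideal.span (Set.range fun i => (f i : A)) = I := by
  apply le_antisymm
  · rw [Ideal.span_le]
    rintro _ ⟨i, rfl⟩
    exact (f i).2
  · refine Submodule.le_of_le_smul_of_le_jacobson_bot hfg hI ?_
    intro y hy
    have hx : I.toCotangent ⟨y, hy⟩ ∈
        Submodule.span (A ⧸ I) (Set.range fun i => I.toCotangent (f i)) := by
      rw [hspan]; exact Submodule.mem_top
    obtain ⟨c, hc⟩ := (Submodule.mem_span_range_iff_exists_fun (A ⧸ I)).1 hx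
    choose a ha using fun i => Ideal.Quotient.mk_surjective (c i)
    have h1 : I.toCotangent (∑ i, a i • f i) = I.toCotangent ⟨y, hy⟩ := by
      rw [map_sum, ← hc]
      refine Finset.sum_congr rfl fun i _ => ?_
      rw [map_smul, ← ha i]
      exact (algebraMap_smul (A ⧸ I) (a i) _).symm
    rw [Ideal.toCotangent_eq] at h1
    have h2 : ((∑ i, a i • f i : I) : A) = ∑ k, a k * (f k : A) := by
      rw [Submodule.coe_sum]
      rfl
    rw [h2] at h1
    have h3 : y = ∑ k, a k * (f k : A) - (∑ k, a k * (f k : A) - y) := by ring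
    rw [h3]
    refine Submodule.sub_mem _ (Submodule.mem_sup_left ?_) (Submodule.mem_sup_right ?_)
    · exact Ideal.sum_mem _ fun k _ => Ideal.mul_mem_left _ _ (Ideal.subset_span ⟨k, rfl⟩)
    · rw [smul_eq_mul, ← sq]
      exact h1

end Groth.Agent.Lib.Helper77.QuasiReg
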