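import Mathlib
import Groth.Prelude.Def_GrLC

/-!
GLC0 (helper77): bridge from a graded ring / graded module whose pieces live in an arbitrary
`SetLike` type (`Submodule k R`, …) to the same objects with `AddSubgroup` pieces (`flat`), so that
libraries written for `𝒜 : ι → AddSubgroup R` apply.  Also the elementwise vanishing predicate `HV`
for the graded local cohomology computed from a `GrLC.StarInjRes`.
-/

set_option autoImplicit false
universe u

namespace Groth.Agent.Lib.Helper77.GLC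

open GrLC DirectSum

section decomp

variable {ι : Type} [DecidableEq ι] {M : Type u} [AddCommGroup M]
  {τ : Type u} [SetLike τ M] [AddSubgroupClass τ M] (ℳ : ι → τ)
  {τ' : Type u} [SetLike τ' M] [AddSubgroupClass τ' M] (ℳ' : ι → τ')

/-- the identity map between pieces with the same elements -/
def convPiece (h : ∀ i x, x ∈ ℳ' i ↔ x ∈ ℳ i) (i : ι) : ℳ i →+ ℳ' i where
  toFun x := ⟨x.1, (h i x.1).2 x.2⟩
  map_zero' := rfl
  map_add' _ _ := rfl

theorem coe_map_convPiece (h : ∀ i x, x ∈ ℳ' i ↔ x ∈ ℳ i) (z : ⨁ i, ℳ i) :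
    DirectSum.coeAddMonoidHom ℳ' (DirectSum.map (convPiece ℳ ℳ' h) z) =
      DirectSum.coeAddMonoidHom ℳ z := by
  induction z using DirectSum.induction_on with
  | zero => simp
  | of i x => rw [DirectSum.map_of, DirectSum.coeAddMonoidHom_of, DirectSum.coeAddMonoidHom_of]; rfl
  | add z w hz hw => rw [map_add, map_add, map_add, hz, hw]

/-- transport a decomposition to a family with the same elements -/
@[reducible] noncomputable def decompOfIff [Decomposition ℳ] (h : ∀ i x, x ∈ ℳ' i ↔ x ∈ ℳ i) :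
    Decomposition ℳ' :=
  Decomposition.ofAddHom ℳ'
    ((DirectSum.map (convPiece ℳ ℳ' h)).comp (decomposeAddEquiv ℳ).toAddMonoidHom)
    (by
      ext x
      change DirectSum.coeAddMonoidHom ℳ' (DirectSum.map (convPiece ℳ ℳ' h) (decompose ℳ x)) = x
      rw [coe_map_convPiece]
      exact (decompose ℳ).symm_apply_apply x)
    (by
      apply DirectSum.addHom_ext
      intro i x
      change DirectSum.map (convPiece ℳ ℳ' h)
        (decompose ℳ (DirectSum.coeAddMonoidHom ℳ' (DirectSum.of (fun i => ℳ' i) i x))) = _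
      rw [DirectSum.coeAddMonoidHom_of, DirectSum.decompose_of_mem ℳ ((h i x.1).1 x.2),
        DirectSum.map_of]
      rfl)

theorem coe_decompOfIff [Decomposition ℳ] (h : ∀ i x, x ∈ ℳ' i ↔ x ∈ ℳ i) (x : M) (i : ι) :
    letI := decompOfIff ℳ ℳ' h
    ((decompose ℳ' x) i : M) = (decompose ℳ x i : M) := by
  change ((DirectSum.map (convPiece ℳ ℳ' h) (decompose ℳ x)) i : M) = _
  rw [DirectSum.map_apply]
  rfl

end decomp

section flat

variable {ι : Type} [AddCommGroup ι] [DecidableEq ι]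
variable {R : Type u} [CommRing R] {σ : Type u} [SetLike σ R] [AddSubgroupClass σ R]

/-- the same family of pieces, as additive subgroups -/
def flat {M : Type u} [AddCommGroup M] {τ : Type u} [SetLike τ M] [AddSubgroupClass τ M]
    (ℳ : ι → τ) : ι → AddSubgroup M := fun g => AddSubgroup.ofClass (ℳ g)

omit [AddCommGroup ι] [DecidableEq ι] in
theorem mem_flat {M : Type u} [AddCommGroup M] {τ : Type u} [SetLike τ M] [AddSubgroupClass τ M]
    (ℳ : ι → τ) (g : ι) (x : M) : x ∈ flat ℳ g ↔ x ∈ ℳ g := Iff.rfl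

noncomputable instance flatDecomposition {M : Type u} [AddCommGroup M] {τ : Type u} [SetLike τ M]
    [AddSubgroupClass τ M] (ℳ : ι → τ) [Decomposition ℳ] : Decomposition (flat ℳ) :=
  decompOfIff ℳ (flat ℳ) (fun _ _ => Iff.rfl)

omit [AddCommGroup ι] in
theorem coe_decompose_flat {M : Type u} [AddCommGroup M] {τ : Type u} [SetLike τ M]
    [AddSubgroupClass τ M] (ℳ : ι → τ) [Decomposition ℳ] (x : M) (i : ι) :
    (decompose (flat ℳ) x i : M) = (decompose ℳ x i : M) :=
  coe_decompOfIff ℳ (flat ℳ) (fun _ _ => Iff.rfl) x i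

variable (𝒜 : ι → σ) [GradedRing 𝒜]

noncomputable instance flatGradedRing : GradedRing (flat 𝒜) where
  one_mem := SetLike.GradedOne.one_mem (A := 𝒜)
  mul_mem := fun _ _ _ _ hi hj => SetLike.GradedMul.mul_mem (A := 𝒜) hi hj
  toDecomposition := flatDecomposition 𝒜

instance flatGradedSMul {M : Type u} [AddCommGroup M] [Module R M] {τ : Type u} [SetLike τ M]
    [AddSubgroupClass τ M] (ℳ : ι → τ) [SetLike.GradedSMul 𝒜 ℳ] :
    SetLike.GradedSMul (flat 𝒜) (flat ℳ) where
  smul_mem := fun _ _ _ _ hi hj => SetLike.GradedSMul.smul_mem (A := 𝒜) (B := ℳ) hi hj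

instance flatGradedSMul' {M : Type u} [AddCommGroup M] [Module R M]
    (ℳ : ι → AddSubgroup M) [SetLike.GradedSMul 𝒜 ℳ] :
    SetLike.GradedSMul (flat 𝒜) ℳ where
  smul_mem := fun _ _ _ _ hi hj => SetLike.GradedSMul.smul_mem (A := 𝒜) (B := ℳ) hi hj

/-- a graded module over `𝒜` as a graded module over `flat 𝒜` -/
noncomputable def flatGMod (X : GMod.{u} 𝒜) : GMod.{u} (flat 𝒜) :=
  { carrier := X.carrier, gr := X.gr }

/-- and back -/
noncomputable def unflatGMod (X : GMod.{u} (flat 𝒜)) : GMod.{u} 𝒜 :=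
  { carrier := X.carrier, gr := X.gr
    gsmul := ⟨fun _ _ _ _ hi hj => SetLike.GradedSMul.smul_mem (A := flat 𝒜) (B := X.gr) hi hj⟩ }

theorem isStarInj_flat {X : GMod.{u} 𝒜} (hX : IsStarInj 𝒜 X.gr) :
    IsStarInj (flat 𝒜) (flatGMod 𝒜 X).gr := by
  intro A B f hf hinj g hg
  exact hX (unflatGMod 𝒜 A) (unflatGMod 𝒜 B) f hf hinj g hg

theorem isStarInj_unflat {X : GMod.{u} (flat 𝒜)} (hX : IsStarInj (flat 𝒜) X.gr) :
    IsStarInj 𝒜 (unflatGMod 𝒜 X).gr := by
  intro A B f hf hinj g hg
  exact hX (flatGMod 𝒜 A) (flatGMod 𝒜 B) f hf hinj g hg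

/-- a homogeneous ideal of `𝒜` as a homogeneous ideal of `flat 𝒜` -/
noncomputable def flatIdeal (a : HomogeneousIdeal 𝒜) : HomogeneousIdeal (flat 𝒜) :=
  ⟨a.toIdeal, fun i r hr => by
    have h := a.isHomogeneous i hr
    rw [coe_decompose_flat 𝒜 r i]
    exact h⟩

theorem flatIdeal_toIdeal (a : HomogeneousIdeal 𝒜) : (flatIdeal 𝒜 a).toIdeal = a.toIdeal := rfl

variable {M : Type u} [AddCommGroup M] [Module R M] {τ : Type u} [SetLike τ M] [AddSubgroupClass τ M]
  {ℳ : ι → τ} [Decomposition ℳ] [SetLike.GradedSMul 𝒜 ℳ]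

/-- a *injective resolution over `𝒜` as one over `flat 𝒜` (same modules and maps) -/
noncomputable def flatRes (E : StarInjRes 𝒜 ℳ) : StarInjRes (flat 𝒜) (flat ℳ) where
  X n := flatGMod 𝒜 (E.X n)
  d := E.d
  ε := E.ε
  d_grHom := E.d_grHom
  ε_grHom := E.ε_grHom
  ε_injective := E.ε_injective
  exact_zero := E.exact_zero
  exact_succ := E.exact_succ
  starInj n := isStarInj_flat 𝒜 (E.starInj n)

end flat

end Groth.Agent.Lib.Helper77.GLC
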