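import Mathlib
import Groth.Prelude.Def_GrLC
import Groth.Agent.Lib.Helper66.Graded
import Groth.Agent.Lib.Helper66.GradedSub
import Groth.Agent.Lib.Helper66.GradedQuot
import Groth.Agent.Lib.Helper66.GradedShift
import Groth.Agent.Lib.Helper66.GradedCoh
import Groth.Agent.Lib.Helper77.GLC0

/-!
GLC1 (helper77): basic tools for graded local cohomology computed from *injective resolutions:
the extension lemma `exists_ext`, binary products of graded modules, shifts of *injectives,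
the elementwise vanishing predicate `HV` and its relation to `StarInjRes.Hcomp`.
-/

set_option autoImplicit false
universe u

namespace Groth.Agent.Lib.Helper77.GLC

open GrLC DirectSum

variable {ι : Type} [AddCommGroup ι] [DecidableEq ι] {R : Type u} [CommRing R]

section ext

variable (𝒜 : ι → AddSubgroup R) [GradedRing 𝒜]

/-- extension lemma: a graded map `w : A → I` into a *injective which kills `ker u` extends along
the graded map `u : A → B`. -/
theorem exists_ext {A B I : GMod.{u} 𝒜} (u : A.carrier →ₗ[R] B.carrier) (hu : IsGrHom A.gr B.gr u)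
    (w : A.carrier →ₗ[R] I.carrier) (hw : IsGrHom A.gr I.gr w) (hI : IsStarInj 𝒜 I.gr)
    (hk : LinearMap.ker u ≤ LinearMap.ker w) :
    ∃ θ : B.carrier →ₗ[R] I.carrier, IsGrHom B.gr I.gr θ ∧ θ ∘ₗ u = w := by
  have hK : (LinearMap.ker u).IsHomogeneous A.gr :=
    Helper66.Graded.ker_isHomogeneous A.gr B.gr u hu
  have hinj : Function.Injective ((LinearMap.ker u).liftQ u le_rfl) := by
    rw [← LinearMap.ker_eq_bot]
    exact Submodule.ker_liftQ_eq_bot _ _ _ le_rfl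
  obtain ⟨θ, hθ, hθc⟩ := hI (Helper66.GradedQuot.quotGMod 𝒜 A.gr (LinearMap.ker u) hK) B
    ((LinearMap.ker u).liftQ u le_rfl)
    (by
      rintro g _ ⟨y, hy, rfl⟩
      exact hu g y hy)
    hinj
    ((LinearMap.ker u).liftQ w hk)
    (by
      rintro g _ ⟨y, hy, rfl⟩
      exact hw g y hy)
  refine ⟨θ, hθ, ?_⟩
  ext x
  have := LinearMap.congr_fun hθc (Submodule.Quotient.mk x)
  exact this

/-- `exists_ext` for unbundled source and middle modules -/
theorem exists_ext' {A : Type u} [AddCommGroup A] [Module R A] {𝒜A : ι → AddSubgroup A}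
    [Decomposition 𝒜A] [SetLike.GradedSMul 𝒜 𝒜A]
    {B : Type u} [AddCommGroup B] [Module R B] {𝒜B : ι → AddSubgroup B}
    [Decomposition 𝒜B] [SetLike.GradedSMul 𝒜 𝒜B] {I : GMod.{u} 𝒜}
    (u : A →ₗ[R] B) (hu : IsGrHom 𝒜A 𝒜B u)
    (w : A →ₗ[R] I.carrier) (hw : IsGrHom 𝒜A I.gr w) (hI : IsStarInj 𝒜 I.gr)
    (hk : LinearMap.ker u ≤ LinearMap.ker w) :
    ∃ θ : B →ₗ[R] I.carrier, IsGrHom 𝒜B I.gr θ ∧ θ ∘ₗ u = w :=
  exists_ext 𝒜 (A := GMod.of 𝒜 A 𝒜A) (B := GMod.of 𝒜 B 𝒜B) u hu w hw hI hk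

end ext

section prod

variable (𝒜 : ι → AddSubgroup R) [GradedRing 𝒜] (X Y : GMod.{u} 𝒜)

/-- pieces of the product -/
def prodGr (g : ι) : AddSubgroup (X.carrier × Y.carrier) := (X.gr g).prod (Y.gr g)

theorem mem_prodGr {g : ι} {z : X.carrier × Y.carrier} :
    z ∈ prodGr 𝒜 X Y g ↔ z.1 ∈ X.gr g ∧ z.2 ∈ Y.gr g := AddSubgroup.mem_prod

/-- left inclusion on pieces -/
def inlPiece (g : ι) : X.gr g →+ prodGr 𝒜 X Y g where
  toFun x := ⟨((x : X.carrier), 0), ⟨x.2, zero_mem _⟩⟩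
  map_zero' := rfl
  map_add' _ _ := Subtype.ext (Prod.ext rfl (add_zero 0).symm)

/-- right inclusion on pieces -/
def inrPiece (g : ι) : Y.gr g →+ prodGr 𝒜 X Y g where
  toFun y := ⟨(0, (y : Y.carrier)), ⟨zero_mem _, y.2⟩⟩
  map_zero' := rfl
  map_add' _ _ := Subtype.ext (Prod.ext (add_zero 0).symm rfl)

theorem coe_map_inl (z : ⨁ g, X.gr g) :
    DirectSum.coeAddMonoidHom (prodGr 𝒜 X Y) (DirectSum.map (inlPiece 𝒜 X Y) z) =
      (DirectSum.coeAddMonoidHom X.gr z, 0) := by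
  induction z using DirectSum.induction_on with
  | zero => rw [map_zero, map_zero, map_zero]; rfl
  | of i x => rw [DirectSum.map_of, DirectSum.coeAddMonoidHom_of, DirectSum.coeAddMonoidHom_of]; rfl
  | add z w hz hw => rw [map_add, map_add, map_add, hz, hw]; simp

theorem coe_map_inr (z : ⨁ g, Y.gr g) :
    DirectSum.coeAddMonoidHom (prodGr 𝒜 X Y) (DirectSum.map (inrPiece 𝒜 X Y) z) =
      (0, DirectSum.coeAddMonoidHom Y.gr z) := by
  induction z using DirectSum.induction_on with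
  | zero => rw [map_zero, map_zero, map_zero]; rfl
  | of i x => rw [DirectSum.map_of, DirectSum.coeAddMonoidHom_of, DirectSum.coeAddMonoidHom_of]; rfl
  | add z w hz hw => rw [map_add, map_add, map_add, hz, hw]; simp

/-- decomposition map of the product -/
noncomputable def prodDecomp : X.carrier × Y.carrier →+ ⨁ g, prodGr 𝒜 X Y g :=
  ((DirectSum.map (inlPiece 𝒜 X Y)).comp
      ((decomposeAddEquiv X.gr).toAddMonoidHom.comp (AddMonoidHom.fst _ _))) +
    ((DirectSum.map (inrPiece 𝒜 X Y)).comp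
      ((decomposeAddEquiv Y.gr).toAddMonoidHom.comp (AddMonoidHom.snd _ _)))

theorem prodDecomp_apply (z : X.carrier × Y.carrier) :
    prodDecomp 𝒜 X Y z = DirectSum.map (inlPiece 𝒜 X Y) (decompose X.gr z.1) +
      DirectSum.map (inrPiece 𝒜 X Y) (decompose Y.gr z.2) := rfl

@[reducible] noncomputable def prodDecomposition : Decomposition (prodGr 𝒜 X Y) :=
  Decomposition.ofAddHom (prodGr 𝒜 X Y) (prodDecomp 𝒜 X Y)
    (by
      refine AddMonoidHom.ext fun z => ?_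
      change DirectSum.coeAddMonoidHom (prodGr 𝒜 X Y) (prodDecomp 𝒜 X Y z) = z
      rw [prodDecomp_apply, map_add, coe_map_inl, coe_map_inr]
      have h1 : DirectSum.coeAddMonoidHom X.gr (decompose X.gr z.1) = z.1 :=
        (decompose X.gr).symm_apply_apply z.1
      have h2 : DirectSum.coeAddMonoidHom Y.gr (decompose Y.gr z.2) = z.2 :=
        (decompose Y.gr).symm_apply_apply z.2
      rw [h1, h2]
      ext <;> simp)
    (by
      apply DirectSum.addHom_ext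
      intro g z
      change prodDecomp 𝒜 X Y
        (DirectSum.coeAddMonoidHom (prodGr 𝒜 X Y) (DirectSum.of (fun i => prodGr 𝒜 X Y i) g z)) = _
      rw [DirectSum.coeAddMonoidHom_of, prodDecomp_apply,
        DirectSum.decompose_of_mem X.gr ((mem_prodGr 𝒜 X Y).1 z.2).1,
        DirectSum.decompose_of_mem Y.gr ((mem_prodGr 𝒜 X Y).1 z.2).2,
        DirectSum.map_of, DirectSum.map_of, ← map_add]
      refine congrArg (DirectSum.of (fun i => prodGr 𝒜 X Y i) g) ?_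
      apply Subtype.ext
      apply Prod.ext
      · change (z : X.carrier × Y.carrier).1 + 0 = _
        rw [add_zero]
      · change 0 + (z : X.carrier × Y.carrier).2 = _
        rw [zero_add])

theorem prodGradedSMul : SetLike.GradedSMul 𝒜 (prodGr 𝒜 X Y) where
  smul_mem := by
    intro i j a z ha hz
    rw [mem_prodGr] at hz ⊢
    exact ⟨SetLike.GradedSMul.smul_mem (A := 𝒜) (B := X.gr) ha hz.1,
      SetLike.GradedSMul.smul_mem (A := 𝒜) (B := Y.gr) ha hz.2⟩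

/-- The product of two graded modules. -/
noncomputable def prodGMod : GMod.{u} 𝒜 :=
  letI := prodDecomposition 𝒜 X Y
  letI := prodGradedSMul 𝒜 X Y
  GMod.of 𝒜 (X.carrier × Y.carrier) (prodGr 𝒜 X Y)

theorem isStarInj_prod (hX : IsStarInj 𝒜 X.gr) (hY : IsStarInj 𝒜 Y.gr) :
    IsStarInj 𝒜 (prodGMod 𝒜 X Y).gr := by
  intro A B f hf hinj g hg
  obtain ⟨h1, hh1, e1⟩ := hX A B f hf hinj ((LinearMap.fst R _ _) ∘ₗ g)
    (fun k m hm => ((mem_prodGr 𝒜 X Y).1 (hg k m hm)).1)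
  obtain ⟨h2, hh2, e2⟩ := hY A B f hf hinj ((LinearMap.snd R _ _) ∘ₗ g)
    (fun k m hm => ((mem_prodGr 𝒜 X Y).1 (hg k m hm)).2)
  refine ⟨h1.prod h2, fun k m hm => (mem_prodGr 𝒜 X Y).2 ⟨hh1 k m hm, hh2 k m hm⟩, ?_⟩
  refine LinearMap.ext fun x => Prod.ext ?_ ?_
  · exact LinearMap.congr_fun e1 x
  · exact LinearMap.congr_fun e2 x

end prod

section shift

variable (𝒜 : ι → AddSubgroup R) [GradedRing 𝒜]

/-- the shift `X(s)`: `X(s)_k = X_{s+k}` -/
noncomputable abbrev sh (X : GMod.{u} 𝒜) (s : ι) : GMod.{u} 𝒜 :=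
  Helper66.GradedShift.shiftGMod 𝒜 X.gr s

theorem mem_sh (X : GMod.{u} 𝒜) (s k : ι) (x : X.carrier) :
    x ∈ (sh 𝒜 X s).gr k ↔ x ∈ X.gr (s + k) := Iff.rfl

theorem isStarInj_sh {X : GMod.{u} 𝒜} (hX : IsStarInj 𝒜 X.gr) (s : ι) :
    IsStarInj 𝒜 (sh 𝒜 X s).gr := by
  intro A B f hf hinj g hg
  obtain ⟨h, hh, e⟩ := hX (sh 𝒜 A (-s)) (sh 𝒜 B (-s)) f
    (fun k m hm => hf _ m hm) hinj g
    (fun k m hm => by
      have h := hg (-s + k) m hm
      change g m ∈ X.gr (s + (-s + k)) at h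
      rwa [add_neg_cancel_left] at h)
  refine ⟨h, fun k m hm => ?_, e⟩
  change h m ∈ X.gr (s + k)
  apply hh (s + k) m
  change m ∈ B.gr (-s + (s + k))
  rw [neg_add_cancel_left]
  exact hm

end shift

section gam

variable {M N : Type u} [AddCommGroup M] [Module R M] [AddCommGroup N] [Module R N]

theorem map_mem_gam (f : M →ₗ[R] N) {a : Ideal R} {x : M} (hx : x ∈ gam a M) : f x ∈ gam a N := by
  obtain ⟨n, hn⟩ := hx
  exact ⟨n, fun r hr => by rw [← map_smul, hn r hr, map_zero]⟩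

theorem exists_pow_smul_eq_zero {a : Ideal R} {x : M} (hx : x ∈ gam a M) {r : R} (hr : r ∈ a) :
    ∃ n : ℕ, r ^ n • x = 0 := by
  obtain ⟨n, hn⟩ := hx
  exact ⟨n, hn _ (Ideal.pow_mem_pow hr n)⟩

end gam

section HV

variable {σ : Type u} [SetLike σ R] [AddSubgroupClass σ R] {𝒜 : ι → σ} [GradedRing 𝒜]
variable {M : Type u} [AddCommGroup M] [Module R M] {τ : Type u} [SetLike τ M] [AddSubgroupClass τ M]
  {ℳ : ι → τ} [Decomposition ℳ] [SetLike.GradedSMul 𝒜 ℳ]

/-- `z` lies in the degree-`g` part of `Γ_a(E^i)` -/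
def Gm (E : StarInjRes 𝒜 ℳ) (a : Ideal R) (i : ℕ) (g : ι) (z : (E.X i).carrier) : Prop :=
  z ∈ gam a (E.X i).carrier ∧ z ∈ (E.X i).gr g

/-- `z` is a coboundary of `Γ_a(E^•)_g` -/
def IsBd (E : StarInjRes 𝒜 ℳ) (a : Ideal R) : (i : ℕ) → (g : ι) → (E.X i).carrier → Prop
  | 0, _, z => z = 0
  | (i + 1), g, z => ∃ y, Gm E a i g y ∧ E.d i y = z

/-- the graded local cohomology `H^i_a` computed from `E` vanishes in degree `g` -/
def HV (E : StarInjRes 𝒜 ℳ) (a : Ideal R) (i : ℕ) (g : ι) : Prop :=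
  ∀ z, Gm E a i g z → E.d i z = 0 → IsBd E a i g z

theorem Gm.add {E : StarInjRes 𝒜 ℳ} {a : Ideal R} {i : ℕ} {g : ι} {z w : (E.X i).carrier}
    (hz : Gm E a i g z) (hw : Gm E a i g w) : Gm E a i g (z + w) :=
  ⟨add_mem hz.1 hw.1, add_mem hz.2 hw.2⟩

theorem Gm.sub {E : StarInjRes 𝒜 ℳ} {a : Ideal R} {i : ℕ} {g : ι} {z w : (E.X i).carrier}
    (hz : Gm E a i g z) (hw : Gm E a i g w) : Gm E a i g (z - w) :=
  ⟨sub_mem hz.1 hw.1, sub_mem hz.2 hw.2⟩

theorem Gm.neg {E : StarInjRes 𝒜 ℳ} {a : Ideal R} {i : ℕ} {g : ι} {z : (E.X i).carrier}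
    (hz : Gm E a i g z) : Gm E a i g (-z) :=
  ⟨neg_mem hz.1, neg_mem hz.2⟩

theorem Gm.zero (E : StarInjRes 𝒜 ℳ) (a : Ideal R) (i : ℕ) (g : ι) : Gm E a i g 0 :=
  ⟨zero_mem _, zero_mem _⟩

theorem d_comp_d (E : StarInjRes 𝒜 ℳ) (n : ℕ) (x : (E.X n).carrier) : E.d (n + 1) (E.d n x) = 0 := by
  have : E.d n x ∈ LinearMap.ker (E.d (n + 1)) := by
    rw [E.exact_succ]; exact ⟨x, rfl⟩
  exact this

theorem d_comp_ε (E : StarInjRes 𝒜 ℳ) (m : M) : E.d 0 (E.ε m) = 0 := by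
  have : E.ε m ∈ LinearMap.ker (E.d 0) := by
    rw [E.exact_zero]; exact ⟨m, rfl⟩
  exact this

theorem IsBd.add {E : StarInjRes 𝒜 ℳ} {a : Ideal R} {i : ℕ} {g : ι} {z w : (E.X i).carrier}
    (hz : IsBd E a i g z) (hw : IsBd E a i g w) : IsBd E a i g (z + w) := by
  cases i with
  | zero =>
    change z = 0 at hz
    change w = 0 at hw
    change z + w = 0
    rw [hz, hw, add_zero]
  | succ i =>
    obtain ⟨y, hy, rfl⟩ := hz
    obtain ⟨y', hy', rfl⟩ := hw
    exact ⟨y + y', hy.add hy', map_add _ _ _⟩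

theorem IsBd.neg {E : StarInjRes 𝒜 ℳ} {a : Ideal R} {i : ℕ} {g : ι} {z : (E.X i).carrier}
    (hz : IsBd E a i g z) : IsBd E a i g (-z) := by
  cases i with
  | zero =>
    change z = 0 at hz
    change -z = 0
    rw [hz, neg_zero]
  | succ i =>
    obtain ⟨y, hy, rfl⟩ := hz
    exact ⟨-y, hy.neg, map_neg _ _⟩

theorem IsBd.sub {E : StarInjRes 𝒜 ℳ} {a : Ideal R} {i : ℕ} {g : ι} {z w : (E.X i).carrier}
    (hz : IsBd E a i g z) (hw : IsBd E a i g w) : IsBd E a i g (z - w) := by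
  rw [sub_eq_add_neg]; exact hz.add hw.neg

theorem IsBd.zero (E : StarInjRes 𝒜 ℳ) (a : Ideal R) (i : ℕ) (g : ι) : IsBd E a i g 0 := by
  cases i with
  | zero => rfl
  | succ i => exact ⟨0, Gm.zero E a i g, map_zero _⟩

/-- a coboundary is a cocycle in `Γ_a(E^i)_g` -/
theorem IsBd.gm {E : StarInjRes 𝒜 ℳ} {a : Ideal R} {i : ℕ} {g : ι} {z : (E.X i).carrier}
    (hz : IsBd E a i g z) : Gm E a i g z ∧ E.d i z = 0 := by
  cases i with
  | zero =>
    change z = 0 at hz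
    subst hz
    exact ⟨Gm.zero E a 0 g, map_zero _⟩
  | succ i =>
    obtain ⟨y, hy, rfl⟩ := hz
    exact ⟨⟨map_mem_gam (E.d i) hy.1, E.d_grHom i g y hy.2⟩, d_comp_d E i y⟩

theorem HV_flatRes_iff (E : StarInjRes 𝒜 ℳ) (a : Ideal R) (i : ℕ) (g : ι) :
    HV (flatRes 𝒜 E) a i g ↔ HV E a i g := by
  cases i with
  | zero => exact Iff.rfl
  | succ i => exact Iff.rfl

end HV

section bridge

variable {σ : Type u} [SetLike σ R] [AddSubgroupClass σ R] {𝒜 : ι → σ} [GradedRing 𝒜]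
variable {M : Type u} [AddCommGroup M] [Module R M] {τ : Type u} [SetLike τ M] [AddSubgroupClass τ M]
  {ℳ : ι → τ} [Decomposition ℳ] [SetLike.GradedSMul 𝒜 ℳ]

/-- a coboundary of `Γ_a(E^•)` which is homogeneous of degree `g` is a coboundary of the degree
`g` strand. -/
theorem isBd_of_mem_cobdy (E : StarInjRes 𝒜 ℳ) (a : HomogeneousIdeal 𝒜) (i : ℕ) (g : ι)
    (z : (E.X i).carrier) (hzg : z ∈ (E.X i).gr g) (hz : z ∈ E.cobdy a i) :
    IsBd E a.toIdeal i g z := by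
  cases i with
  | zero => exact (Submodule.mem_bot R).1 hz
  | succ i =>
    obtain ⟨y, hy, rfl⟩ := hz
    have hy' : y ∈ gam (flatIdeal 𝒜 a).toIdeal (E.X i).carrier := hy
    have hgam := Helper66.GradedCoh.gam_isHomogeneous (flat 𝒜) (E.X i).gr (flatIdeal 𝒜 a) g hy'
    refine ⟨(decompose (E.X i).gr y g : (E.X i).carrier), ⟨hgam, SetLike.coe_mem _⟩, ?_⟩
    rw [← Helper66.Graded.decompose_grHom (E.X i).gr (E.X (i + 1)).gr (E.d i) (E.d_grHom i) y g]
    exact DirectSum.decompose_of_mem_same _ hzg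

theorem Hcomp_eq_bot_iff (E : StarInjRes 𝒜 ℳ) (a : HomogeneousIdeal 𝒜) (i : ℕ) (g : ι) :
    E.Hcomp a i g = ⊥ ↔ HV E a.toIdeal i g := by
  constructor
  · intro h z hz hdz
    have hzc : z ∈ E.cocyc a i := Submodule.mem_inf.2 ⟨hz.1, hdz⟩
    have hmem : E.toH a i ⟨z, hzc⟩ ∈ E.Hcomp a i g := ⟨⟨z, hzc⟩, hz.2, rfl⟩
    rw [h] at hmem
    have h0 : E.toH a i ⟨z, hzc⟩ = 0 := (Submodule.mem_bot _).1 hmem
    have h1 : (⟨z, hzc⟩ : E.cocyc a i) ∈ (E.cobdy a i).comap (E.cocyc a i).subtype :=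
      (Submodule.Quotient.mk_eq_zero _).1 h0
    exact isBd_of_mem_cobdy E a i g z hz.2 h1
  · intro h
    rw [eq_bot_iff]
    rintro x ⟨z, hz, rfl⟩
    rw [Submodule.mem_bot]
    refine (Submodule.Quotient.mk_eq_zero _).2 ?_
    change (z : (E.X i).carrier) ∈ E.cobdy a i
    have hb := h z.1 ⟨(Submodule.mem_inf.1 z.2).1, hz⟩ (Submodule.mem_inf.1 z.2).2
    cases i with
    | zero =>
      change (z : (E.X 0).carrier) = 0 at hb
      rw [hb]; exact zero_mem _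
    | succ i =>
      obtain ⟨y, hy, hyz⟩ := hb
      exact ⟨y, hy.1, hyz⟩

end bridge

section endDeg

theorem add_le_iff' (e : WithBot (WithTop ℤ)) (i d : ℤ) :
    e + ((i : WithTop ℤ) : WithBot (WithTop ℤ)) ≤ ((d : WithTop ℤ) : WithBot (WithTop ℤ)) ↔
      e ≤ (((d - i : ℤ) : WithTop ℤ) : WithBot (WithTop ℤ)) := by
  induction e using WithBot.recBotCoe with
  | bot => simp
  | coe e =>
    induction e using WithTop.recTopCoe with
    | top =>
      rw [← WithBot.coe_add, WithTop.top_add, WithBot.coe_le_coe, WithBot.coe_le_coe]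
      simp
    | coe n =>
      norm_cast
      omega

theorem endDeg_le_iff {M : Type*} [AddCommGroup M] (ℳ : ℤ → AddSubgroup M) (d : ℤ) :
    endDeg ℳ ≤ ((d : WithTop ℤ) : WithBot (WithTop ℤ)) ↔ ∀ n, d < n → ℳ n = ⊥ := by
  unfold endDeg
  rw [iSup_le_iff]
  constructor
  · intro h n hn
    by_contra hne
    have := (iSup_le_iff.1 (h n)) hne
    norm_cast at this
    omega
  · intro h n
    rw [iSup_le_iff]
    intro hne
    norm_cast
    by_contra hlt
    exact hne (h n (by omega))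

variable {σ : Type u} [SetLike σ R] [AddSubgroupClass σ R] {𝒜 : ℤ → σ} [GradedRing 𝒜]
variable {M : Type u} [AddCommGroup M] [Module R M] {τ : Type u} [SetLike τ M] [AddSubgroupClass τ M]
  {ℳ : ℤ → τ} [Decomposition ℳ] [SetLike.GradedSMul 𝒜 ℳ]

theorem Hgr_eq_bot_iff (E : StarInjRes 𝒜 ℳ) (a : HomogeneousIdeal 𝒜) (i : ℕ) (g : ℤ) :
    E.Hgr a i g = ⊥ ↔ HV E a.toIdeal i g := by
  rw [← Hcomp_eq_bot_iff]
  constructor
  · intro h
    rw [eq_bot_iff]
    intro x hx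
    have : x ∈ E.Hgr a i g := hx
    rw [h] at this
    exact this
  · intro h
    rw [eq_bot_iff]
    intro x hx
    have : x ∈ E.Hcomp a i g := hx
    rw [h] at this
    exact this

/-- `end(H^i) + i ≤ d` iff `H^i` vanishes in all degrees `> d - i`. -/
theorem endDeg_Hgr_add_le_iff (E : StarInjRes 𝒜 ℳ) (a : HomogeneousIdeal 𝒜) (i : ℕ) (d : ℤ) :
    endDeg (E.Hgr a i) + (((i : ℤ) : WithTop ℤ) : WithBot (WithTop ℤ)) ≤
        ((d : WithTop ℤ) : WithBot (WithTop ℤ)) ↔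
      ∀ g : ℤ, d - i < g → HV E a.toIdeal i g := by
  rw [add_le_iff', endDeg_le_iff]
  exact forall_congr' fun g => imp_congr Iff.rfl (Hgr_eq_bot_iff E a i g)

end endDeg

end Groth.Agent.Lib.Helper77.GLC
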