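import Mathlib
import Groth.Prelude.Def_GrSyz

/-!
# Degree strands of a graded free resolution

For a graded `k`-algebra `R` (grading `𝒜 : ℤ → Submodule k R`), a graded module `M` and
`F : GrSyz.FreeRes 𝒜 ℳ`, the degree-`d` strand `strand F i d ⊆ F_i` consists of the column vectors
whose `b`-th entry is homogeneous of degree `d - deg i b`.  The differentials and the augmentation
restrict to the strands and the restricted sequence is exact.  Over a field, with finite-dimensional
pieces, this gives the Euler characteristic formula for `dim M_d`.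
-/

universe u

namespace Groth.Agent.Lib.Helper77.GrStrand

open GrSyz DirectSum

section General

variable {k R : Type u} [CommRing k] [CommRing R] [Algebra k R]
  {𝒜 : ℤ → Submodule k R} [GradedAlgebra 𝒜]
  {M : Type u} [AddCommGroup M] [Module k M] [Module R M] [IsScalarTower k R M]
  {ℳ : ℤ → Submodule k M} [DirectSum.Decomposition ℳ] [SetLike.GradedSMul 𝒜 ℳ]

/-- module version of `DirectSum.coe_decompose_mul_add_of_left_mem`. -/
theorem coe_decompose_smul_add_of_left_mem {a : R} {i : ℤ} (ha : a ∈ 𝒜 i) (m : M) (j : ℤ) :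
    (decompose ℳ (a • m) (i + j) : M) = a • (decompose ℳ m j : M) := by
  induction m using DirectSum.Decomposition.inductionOn ℳ with
  | zero => simp
  | @homogeneous n m =>
    have hmem : a • (m : M) ∈ ℳ (i + n) := SetLike.GradedSMul.smul_mem ha m.2
    by_cases hn : n = j
    · subst hn
      rw [decompose_of_mem_same ℳ hmem, decompose_of_mem_same ℳ m.2]
    · rw [decompose_of_mem_ne ℳ hmem (by intro h; exact hn (by linarith)),
        decompose_of_mem_ne ℳ m.2 hn, smul_zero]
  | add m m' h h' =>
    simp only [smul_add, decompose_add, DirectSum.add_apply, Submodule.coe_add, h, h']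

variable (F : FreeRes 𝒜 ℳ)

/-- the degree-`d` strand of the `i`-th term of the resolution. -/
def strand (i : ℕ) (d : ℤ) : Submodule k (Fin (F.rk i) → R) :=
  Submodule.pi Set.univ (fun b => 𝒜 (d - F.deg i b))

theorem mem_strand {i : ℕ} {d : ℤ} {v : Fin (F.rk i) → R} :
    v ∈ strand F i d ↔ ∀ b, v b ∈ 𝒜 (d - F.deg i b) := by
  simp [strand, Submodule.mem_pi]

/-- the projection of the `i`-th term onto its degree-`d` strand. -/
noncomputable def compProj (i : ℕ) (d : ℤ) : (Fin (F.rk i) → R) →ₗ[k] (Fin (F.rk i) → R) :=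
  LinearMap.pi (fun b => (GradedAlgebra.proj 𝒜 (d - F.deg i b)).comp (LinearMap.proj b))

@[simp] theorem compProj_apply (i : ℕ) (d : ℤ) (v : Fin (F.rk i) → R) (b : Fin (F.rk i)) :
    compProj F i d v b = (decompose 𝒜 (v b) (d - F.deg i b) : R) := by
  simp [compProj, GradedAlgebra.proj_apply]

theorem compProj_mem (i : ℕ) (d : ℤ) (v : Fin (F.rk i) → R) : compProj F i d v ∈ strand F i d := by
  rw [mem_strand]
  intro b
  rw [compProj_apply]
  exact SetLike.coe_mem _

theorem compProj_of_mem {i : ℕ} {d : ℤ} {v : Fin (F.rk i) → R} (hv : v ∈ strand F i d) :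
    compProj F i d v = v := by
  funext b
  rw [compProj_apply, decompose_of_mem_same 𝒜 ((mem_strand F).1 hv b)]

theorem dLin_compProj (i : ℕ) (d : ℤ) (w : Fin (F.rk (i + 1)) → R) :
    F.dLin i (compProj F (i + 1) d w) = compProj F i d (F.dLin i w) := by
  funext a
  rw [compProj_apply]
  simp only [Matrix.mulVecLin_apply, Matrix.mulVec, dotProduct, compProj_apply]
  rw [decompose_sum, DFinsupp.finsetSum_apply, AddSubmonoidClass.coe_finsetSum]
  refine Finset.sum_congr rfl fun b _ => ?_
  have h := DirectSum.coe_decompose_mul_add_of_left_mem 𝒜 (b := w b)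
    (j := d - F.deg (i + 1) b) (F.d_mem i a b)
  have hidx : F.deg (i + 1) b - F.deg i a + (d - F.deg (i + 1) b) = d - F.deg i a := by ring
  rw [hidx] at h
  rw [h]

theorem augLin_compProj (d : ℤ) (w : Fin (F.rk 0) → R) :
    F.augLin (compProj F 0 d w) = (decompose ℳ (F.augLin w) d : M) := by
  simp only [Fintype.linearCombination_apply, compProj_apply]
  rw [decompose_sum, DFinsupp.finsetSum_apply, AddSubmonoidClass.coe_finsetSum]
  refine Finset.sum_congr rfl fun b _ => ?_
  -- reduce to homogeneous coefficients by linearity in `w b`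
  have key : ∀ x : R, (decompose 𝒜 x (d - F.deg 0 b) : R) • F.aug b =
      (decompose ℳ (x • F.aug b) d : M) := by
    intro x
    induction x using DirectSum.Decomposition.inductionOn 𝒜 with
    | zero => simp
    | @homogeneous n x =>
      have hmem : (x : R) • F.aug b ∈ ℳ (n + F.deg 0 b) :=
        SetLike.GradedSMul.smul_mem x.2 (F.aug_mem b)
      by_cases hn : n = d - F.deg 0 b
      · subst hn
        rw [decompose_of_mem_same 𝒜 x.2]
        have : d - F.deg 0 b + F.deg 0 b = d := by ring
        rw [this] at hmem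
        rw [decompose_of_mem_same ℳ hmem]
      · rw [decompose_of_mem_ne 𝒜 x.2 hn, zero_smul,
          decompose_of_mem_ne ℳ hmem (by intro h; exact hn (by linarith))]
    | add x y hx hy =>
      simp only [add_smul, decompose_add, DirectSum.add_apply, Submodule.coe_add, hx, hy]
  exact key (w b)

theorem dLin_mem_strand {i : ℕ} {d : ℤ} {w : Fin (F.rk (i + 1)) → R} (hw : w ∈ strand F (i + 1) d) :
    F.dLin i w ∈ strand F i d := by
  rw [← compProj_of_mem F hw, dLin_compProj]
  exact compProj_mem F i d _

theorem augLin_mem {d : ℤ} {w : Fin (F.rk 0) → R} (hw : w ∈ strand F 0 d) :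
    F.augLin w ∈ ℳ d := by
  rw [← compProj_of_mem F hw, augLin_compProj]
  exact SetLike.coe_mem _

/-- the differential restricted to the degree-`d` strands. -/
noncomputable def dS (i : ℕ) (d : ℤ) : ↥(strand F (i + 1) d) →ₗ[k] ↥(strand F i d) :=
  ((F.dLin i).restrictScalars k).restrict (fun _ hw => dLin_mem_strand F hw)

/-- the augmentation restricted to the degree-`d` strand. -/
noncomputable def augS (d : ℤ) : ↥(strand F 0 d) →ₗ[k] ↥(ℳ d) :=
  ((F.augLin).restrictScalars k).restrict (fun _ hw => augLin_mem F hw)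

@[simp] theorem coe_dS (i : ℕ) (d : ℤ) (w : ↥(strand F (i + 1) d)) :
    ((dS F i d w : ↥(strand F i d)) : Fin (F.rk i) → R) = F.dLin i w := rfl

@[simp] theorem coe_augS (d : ℤ) (w : ↥(strand F 0 d)) :
    ((augS F d w : ↥(ℳ d)) : M) = F.augLin w := rfl

theorem augS_surjective (d : ℤ) : Function.Surjective (augS F d) := by
  intro x
  obtain ⟨w, hw⟩ := F.aug_surjective (x : M)
  refine ⟨⟨compProj F 0 d w, compProj_mem F 0 d w⟩, ?_⟩
  apply Subtype.ext
  rw [coe_augS]
  show F.augLin (compProj F 0 d w) = x
  rw [augLin_compProj]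
  have : F.augLin w = x := hw
  rw [this, decompose_of_mem_same ℳ x.2]

theorem ker_augS (d : ℤ) : LinearMap.ker (augS F d) = LinearMap.range (dS F 0 d) := by
  ext v
  constructor
  · intro hv
    have hv' : F.augLin (v : Fin (F.rk 0) → R) = 0 := by
      have := congrArg Subtype.val (LinearMap.mem_ker.1 hv)
      simpa using this
    have : (v : Fin (F.rk 0) → R) ∈ LinearMap.ker F.augLin := hv'
    rw [F.exact_zero] at this
    obtain ⟨w, hw⟩ := this
    refine ⟨⟨compProj F 1 d w, compProj_mem F 1 d w⟩, ?_⟩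
    apply Subtype.ext
    rw [coe_dS]
    show F.dLin 0 (compProj F (0 + 1) d w) = v
    rw [dLin_compProj]
    have : F.dLin 0 w = v := hw
    rw [this, compProj_of_mem F v.2]
  · rintro ⟨w, rfl⟩
    rw [LinearMap.mem_ker]
    apply Subtype.ext
    rw [coe_augS, coe_dS]
    have : F.dLin 0 (w : Fin (F.rk (0 + 1)) → R) ∈ LinearMap.ker F.augLin := by
      rw [F.exact_zero]; exact ⟨_, rfl⟩
    simpa using this

theorem ker_dS (i : ℕ) (d : ℤ) : LinearMap.ker (dS F i d) = LinearMap.range (dS F (i + 1) d) := by
  ext v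
  constructor
  · intro hv
    have hv' : F.dLin i (v : Fin (F.rk (i + 1)) → R) = 0 := by
      have := congrArg Subtype.val (LinearMap.mem_ker.1 hv)
      simpa using this
    have : (v : Fin (F.rk (i + 1)) → R) ∈ LinearMap.ker (F.dLin i) := hv'
    rw [F.exact_succ] at this
    obtain ⟨w, hw⟩ := this
    refine ⟨⟨compProj F (i + 2) d w, compProj_mem F (i + 2) d w⟩, ?_⟩
    apply Subtype.ext
    rw [coe_dS]
    show F.dLin (i + 1) (compProj F (i + 1 + 1) d w) = v
    rw [dLin_compProj]
    have : F.dLin (i + 1) w = v := hw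
    rw [this, compProj_of_mem F v.2]
  · rintro ⟨w, rfl⟩
    rw [LinearMap.mem_ker]
    apply Subtype.ext
    rw [coe_dS, coe_dS]
    have : F.dLin (i + 1) (w : Fin (F.rk (i + 1 + 1)) → R) ∈ LinearMap.ker (F.dLin i) := by
      rw [F.exact_succ]; exact ⟨_, rfl⟩
    simpa using this

/-- the strand is the product of the pieces. -/
noncomputable def strandEquiv (i : ℕ) (d : ℤ) :
    ↥(strand F i d) ≃ₗ[k] (∀ b : Fin (F.rk i), ↥(𝒜 (d - F.deg i b))) where
  toFun v := fun b => ⟨(v : Fin (F.rk i) → R) b, (mem_strand F).1 v.2 b⟩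
  invFun w := ⟨fun b => (w b : R), (mem_strand F).2 fun b => (w b).2⟩
  map_add' _ _ := rfl
  map_smul' _ _ := rfl
  left_inv _ := rfl
  right_inv _ := rfl

end General

section Euler

variable {k : Type u} [Field k]

/-- Euler characteristic of a finite exact sequence of finite-dimensional vector spaces,
`… → V 2 → V 1 → V 0 → W → 0` with `V i = 0` for `i > m`. -/
theorem finrank_eq_alternating_sum (V : ℕ → Type u) [∀ i, AddCommGroup (V i)] [∀ i, Module k (V i)]
    [∀ i, Module.Finite k (V i)] (W : Type u) [AddCommGroup W] [Module k W]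
    (f : ∀ i, V (i + 1) →ₗ[k] V i) (g : V 0 →ₗ[k] W) (hg : Function.Surjective g)
    (h0 : LinearMap.ker g = LinearMap.range (f 0))
    (hs : ∀ i, LinearMap.ker (f i) = LinearMap.range (f (i + 1)))
    (m : ℕ) (hm : ∀ i, m < i → Module.finrank k (V i) = 0) :
    (Module.finrank k W : ℤ) = ∑ i ∈ Finset.range (m + 1), (-1 : ℤ) ^ i * (Module.finrank k (V i) : ℤ) := by
  -- kernel dimensions
  obtain ⟨c, c0, cs⟩ : ∃ c : ℕ → ℕ, c 0 = Module.finrank k (LinearMap.ker g) ∧
      ∀ j, c (j + 1) = Module.finrank k (LinearMap.ker (f j)) :=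
    ⟨fun i => Nat.rec (Module.finrank k (LinearMap.ker g))
      (fun j _ => Module.finrank k (LinearMap.ker (f j))) i, rfl, fun _ => rfl⟩
  have hV0 : Module.finrank k (V 0) = c 0 + Module.finrank k W := by
    have := LinearMap.finrank_range_add_finrank_ker g
    rw [LinearMap.range_eq_top.2 hg, finrank_top] at this
    rw [c0]; omega
  have hVs : ∀ j, Module.finrank k (V (j + 1)) = c (j + 1) + c j := by
    intro j
    have := LinearMap.finrank_range_add_finrank_ker (f j)
    rw [cs]
    cases j with
    | zero => rw [c0, h0]; omega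
    | succ j => rw [cs, hs j]; omega
  have hcm : c m = 0 := by
    have := hVs m
    rw [hm (m + 1) (Nat.lt_succ_self m)] at this
    omega
  have key : ∀ n, ∑ i ∈ Finset.range (n + 1), (-1 : ℤ) ^ i * (Module.finrank k (V i) : ℤ) =
      (Module.finrank k W : ℤ) + (-1 : ℤ) ^ n * ((c n : ℕ) : ℤ) := by
    intro n
    induction n with
    | zero => simp [hV0]; ring
    | succ n ih =>
      rw [Finset.sum_range_succ, ih, hVs n]
      push_cast
      ring
  rw [key m, hcm]
  simp

end Euler

end Groth.Agent.Lib.Helper77.GrStrand
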