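import Groth.Prelude.Def_GrSyz

/-!
Basic facts about the standard ℤ-grading of a polynomial ring and its irrelevant ideal,
and about minimal graded free resolutions (`GrSyz.FreeRes`).
-/

set_option autoImplicit false
universe u v

namespace Groth.Agent.Lib.Helper77

open GrSyz MvPolynomial

variable (k : Type u) [CommRing k] (σ : Type v)

/-- The weight of a monomial for the constant weight `1 : ℤ` is non-negative. -/
theorem weight_one_nonneg (d : σ →₀ ℕ) : 0 ≤ Finsupp.weight (fun _ : σ => (1 : ℤ)) d := by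
  rw [Finsupp.weight_apply]
  apply Finset.sum_nonneg
  intro i _
  change 0 ≤ (d i) • (1 : ℤ)
  simp

/-- The weight of a monomial for the constant weight `1 : ℤ` vanishes only for the trivial monomial. -/
theorem weight_one_eq_zero_iff (d : σ →₀ ℕ) : Finsupp.weight (fun _ : σ => (1 : ℤ)) d = 0 ↔ d = 0 := by
  constructor
  · intro h
    rw [Finsupp.weight_apply, Finsupp.sum] at h
    ext i
    by_contra hi
    have hi' : i ∈ d.support := Finsupp.mem_support_iff.mpr hi
    have h2 := (Finset.sum_eq_zero_iff_of_nonneg (fun j _ => by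
      change 0 ≤ (d j) • (1 : ℤ)
      simp)).mp h i hi'
    have h3 : (d i) • (1 : ℤ) = 0 := h2
    simp only [nsmul_eq_mul, mul_one, Nat.cast_eq_zero] at h3
    exact hi h3
  · rintro rfl
    simp

/-- The irrelevant ideal of the standard grading lies in the kernel of the constant coefficient. -/
theorem irrel_le_ker_constantCoeff :
    (irrel (stdGr k σ)).toIdeal ≤ RingHom.ker (constantCoeff : MvPolynomial σ k →+* k) := by
  change Ideal.span _ ≤ _
  rw [Ideal.span_le]
  rintro p ⟨n, hn, hp⟩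
  rw [SetLike.mem_coe, RingHom.mem_ker, constantCoeff_eq]
  rw [mem_stdGr_iff] at hp
  by_contra hne
  have := hp hne
  rw [map_zero] at this
  omega

theorem one_notMem_irrel [Nontrivial k] : (1 : MvPolynomial σ k) ∉ (irrel (stdGr k σ)).toIdeal := by
  intro h
  have := irrel_le_ker_constantCoeff k σ h
  rw [RingHom.mem_ker, map_one] at this
  exact one_ne_zero this

/-- A homogeneous element of degree `n ≤ 0` in the irrelevant ideal is zero. -/
theorem eq_zero_of_mem_stdGr_of_mem_irrel {n : ℤ} (hn : n ≤ 0) {p : MvPolynomial σ k}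
    (hp : p ∈ stdGr k σ n) (hp' : p ∈ (irrel (stdGr k σ)).toIdeal) : p = 0 := by
  rw [mem_stdGr_iff] at hp
  ext d
  rw [coeff_zero]
  by_contra hne
  have hw := hp hne
  have h0 := weight_one_nonneg σ d
  have hn0 : n = 0 := by omega
  rw [hn0, weight_one_eq_zero_iff] at hw
  subst hw
  have := irrel_le_ker_constantCoeff k σ hp'
  rw [RingHom.mem_ker, constantCoeff_eq] at this
  exact hne this

/-- A nonzero homogeneous element of the irrelevant ideal has degree `≥ 1`. -/
theorem one_le_of_mem_stdGr_of_mem_irrel {n : ℤ} {p : MvPolynomial σ k} (hp0 : p ≠ 0)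
    (hp : p ∈ stdGr k σ n) (hp' : p ∈ (irrel (stdGr k σ)).toIdeal) : 1 ≤ n := by
  by_contra h
  exact hp0 (eq_zero_of_mem_stdGr_of_mem_irrel k σ (by omega) hp hp')

/-- A homogeneous element of positive degree lies in the irrelevant ideal. -/
theorem mem_irrel_of_mem_stdGr {n : ℤ} (hn : 0 < n) {p : MvPolynomial σ k}
    (hp : p ∈ stdGr k σ n) : p ∈ (irrel (stdGr k σ)).toIdeal :=
  Ideal.subset_span ⟨n, hn, hp⟩

end Groth.Agent.Lib.Helper77

namespace Groth.Agent.Lib.Helper77

open GrSyz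

section FreeRes

variable {R : Type u} [CommRing R] {σ' : Type u} [SetLike σ' R]
variable {𝒜 : ℤ → σ'}
variable {M : Type u} [AddCommGroup M] [Module R M] {τ : Type u} [SetLike τ M] [AddSubgroupClass τ M]
  {ℳ : ℤ → τ} [DirectSum.Decomposition ℳ] [SetLike.GradedSMul 𝒜 ℳ]

/-- Every coordinate of a vector in the range of a matrix with entries in `𝔪` lies in `𝔪`. -/
theorem mulVec_mem_of_entries_mem {m n : ℕ} (A : Matrix (Fin m) (Fin n) R) (𝔪 : Ideal R)
    (hA : ∀ a b, A a b ∈ 𝔪) (v : Fin n → R) (a : Fin m) : (A.mulVec v) a ∈ 𝔪 := by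
  rw [Matrix.mulVec, dotProduct]
  exact Ideal.sum_mem _ fun c _ => Ideal.mul_mem_right _ _ (hA a c)

/-- In a resolution minimal for a proper ideal, no vector with a coordinate equal to `1`
lies in the kernel of a differential. -/
theorem freeRes_not_mem_ker_of_coord_eq_one (F : FreeRes 𝒜 ℳ) {𝔪 : Ideal R} (h𝔪 : (1 : R) ∉ 𝔪)
    (hF : F.IsMinimal 𝔪) (i : ℕ) (v : Fin (F.rk (i + 1)) → R) (b : Fin (F.rk (i + 1)))
    (hv : v b = 1) : v ∉ LinearMap.ker (Matrix.mulVecLin (F.d i)) := by
  intro hker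
  rw [F.exact_succ i] at hker
  obtain ⟨w, hw⟩ := hker
  have h1 : ((F.d (i + 1)).mulVec w) b ∈ 𝔪 :=
    mulVec_mem_of_entries_mem _ 𝔪 (fun a c => hF (i + 1) a c) w b
  rw [Matrix.mulVecLin_apply] at hw
  rw [hw, hv] at h1
  exact h𝔪 h1

/-- Same for the augmentation. -/
theorem freeRes_not_mem_ker_aug_of_coord_eq_one (F : FreeRes 𝒜 ℳ) {𝔪 : Ideal R} (h𝔪 : (1 : R) ∉ 𝔪)
    (hF : F.IsMinimal 𝔪) (v : Fin (F.rk 0) → R) (b : Fin (F.rk 0))
    (hv : v b = 1) : v ∉ LinearMap.ker (Fintype.linearCombination R F.aug) := by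
  intro hker
  rw [F.exact_zero] at hker
  obtain ⟨w, hw⟩ := hker
  have h1 : ((F.d 0).mulVec w) b ∈ 𝔪 :=
    mulVec_mem_of_entries_mem _ 𝔪 (fun a c => hF 0 a c) w b
  rw [Matrix.mulVecLin_apply] at hw
  rw [hw, hv] at h1
  exact h𝔪 h1

/-- In a resolution minimal for a proper ideal, every column of every differential is nonzero. -/
theorem freeRes_exists_entry_ne_zero (F : FreeRes 𝒜 ℳ) {𝔪 : Ideal R} (h𝔪 : (1 : R) ∉ 𝔪)
    (hF : F.IsMinimal 𝔪) (i : ℕ) (b : Fin (F.rk (i + 1))) : ∃ a, F.d i a b ≠ 0 := by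
  by_contra hcon
  push Not at hcon
  refine freeRes_not_mem_ker_of_coord_eq_one F h𝔪 hF i (Pi.single b 1) b (by simp) ?_
  rw [LinearMap.mem_ker, Matrix.mulVecLin_apply]
  ext a
  simp [Matrix.mulVec_single, hcon a]

end FreeRes

end Groth.Agent.Lib.Helper77
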