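import Mathlib
import Groth.Prelude.Def_GrSyz
import Groth.Agent.Lib.Helper77.GrSyzBasic
import Groth.Agent.Lib.Helper77.GrStrand

/-!
# Hilbert function of a graded module over a polynomial ring from a finite graded free resolution
-/

universe u

namespace Groth.Agent.Lib.Helper77.GrHilbert

open GrSyz MvPolynomial Groth.Agent.Lib.Helper77.GrStrand

variable (k : Type u) [Field k] (r : ℕ)

theorem weight_one_eq_sum (d : Fin (r + 1) →₀ ℕ) :
    Finsupp.weight (fun _ : Fin (r + 1) => (1 : ℤ)) d = ((∑ i, d i : ℕ) : ℤ) := by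
  rw [Finsupp.weight_apply, Finsupp.sum_fintype _ _ (by intro i; simp)]
  simp

theorem stdGr_eq (n : ℤ) : stdGr k (Fin (r + 1)) n =
    restrictSupport k {d : Fin (r + 1) →₀ ℕ | Finsupp.weight (fun _ : Fin (r + 1) => (1 : ℤ)) d = n} :=
  weightedHomogeneousSubmodule_eq_finsupp_supported k _ n

theorem finrank_stdGr_neg (n : ℤ) (hn : n < 0) : Module.finrank k ↥(stdGr k (Fin (r + 1)) n) = 0 := by
  rw [stdGr_eq]
  have hempty : IsEmpty ↥{d : Fin (r + 1) →₀ ℕ | Finsupp.weight (fun _ : Fin (r + 1) => (1 : ℤ)) d = n} := by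
    constructor
    rintro ⟨d, hd⟩
    have := Groth.Agent.Lib.Helper77.weight_one_nonneg (Fin (r + 1)) d
    simp only [Set.mem_ofPred_eq] at hd
    omega
  rw [Module.finrank_eq_nat_card_basis (basisRestrictSupport k _)]
  simp

theorem finrank_stdGr_nat (N : ℕ) : Module.finrank k ↥(stdGr k (Fin (r + 1)) (N : ℤ)) = Nat.choose (r + N) r := by
  rw [stdGr_eq, Module.finrank_eq_nat_card_basis (basisRestrictSupport k _)]
  have hset : {d : Fin (r + 1) →₀ ℕ | Finsupp.weight (fun _ : Fin (r + 1) => (1 : ℤ)) d = (N : ℤ)} =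
      ↑((Finset.univ : Finset (Fin (r + 1))).finsuppAntidiag N) := by
    ext d
    simp only [Set.mem_ofPred_eq, Finset.mem_coe, Finset.mem_finsuppAntidiag,
      Finset.subset_univ, and_true]
    rw [weight_one_eq_sum]
    exact_mod_cast Iff.rfl
  rw [hset, Nat.card_coe_set_eq, Set.ncard_coe_finset, Finset.card_finsuppAntidiag_nat_eq_choose]
  simp only [Finset.card_univ, Fintype.card_fin]
  rw [show r + 1 + N - 1 = r + N by omega, add_comm r N, Nat.choose_symm_add]

theorem finrank_stdGr (n : ℤ) : Module.finrank k ↥(stdGr k (Fin (r + 1)) n) =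
    if 0 ≤ n then Nat.choose (r + n.toNat) r else 0 := by
  split_ifs with h
  · obtain ⟨N, rfl⟩ := Int.eq_ofNat_of_zero_le h
    rw [finrank_stdGr_nat]
    simp
  · exact finrank_stdGr_neg k r n (by omega)

instance finite_stdGr (n : ℤ) : Module.Finite k ↥(stdGr k (Fin (r + 1)) n) := by
  rw [stdGr_eq]
  by_cases hn : 0 ≤ n
  · obtain ⟨N, rfl⟩ := Int.eq_ofNat_of_zero_le hn
    have hset : {d : Fin (r + 1) →₀ ℕ | Finsupp.weight (fun _ : Fin (r + 1) => (1 : ℤ)) d = (N : ℤ)} =
        ↑((Finset.univ : Finset (Fin (r + 1))).finsuppAntidiag N) := by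
      ext d
      simp only [Set.mem_ofPred_eq, Finset.mem_coe, Finset.mem_finsuppAntidiag,
        Finset.subset_univ, and_true]
      rw [weight_one_eq_sum]
      exact_mod_cast Iff.rfl
    have : Finite ↥{d : Fin (r + 1) →₀ ℕ | Finsupp.weight (fun _ : Fin (r + 1) => (1 : ℤ)) d = (N : ℤ)} := by
      rw [hset]
      exact Finset.finite_toSet _ |>.to_subtype
    exact Module.Finite.of_basis (basisRestrictSupport k _)
  · have hempty : IsEmpty ↥{d : Fin (r + 1) →₀ ℕ | Finsupp.weight (fun _ : Fin (r + 1) => (1 : ℤ)) d = n} := by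
      constructor
      rintro ⟨d, hd⟩
      have := Groth.Agent.Lib.Helper77.weight_one_nonneg (Fin (r + 1)) d
      simp only [Set.mem_ofPred_eq] at hd
      omega
    exact Module.Finite.of_basis (basisRestrictSupport k _)

variable {k r}
variable {M : Type u} [AddCommGroup M] [Module k M] [Module (MvPolynomial (Fin (r + 1)) k) M]
  [IsScalarTower k (MvPolynomial (Fin (r + 1)) k) M]
  {ℳ : ℤ → Submodule k M} [DirectSum.Decomposition ℳ] [SetLike.GradedSMul (stdGr k (Fin (r + 1))) ℳ]
  (F : FreeRes (stdGr k (Fin (r + 1))) ℳ)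

instance finite_strand (i : ℕ) (d : ℤ) : Module.Finite k ↥(strand F i d) :=
  Module.Finite.equiv (strandEquiv F i d).symm

theorem finrank_strand (i : ℕ) (d : ℤ) : Module.finrank k ↥(strand F i d) =
    ∑ b : Fin (F.rk i), (if F.deg i b ≤ d then Nat.choose (r + (d - F.deg i b).toNat) r else 0) := by
  rw [LinearEquiv.finrank_eq (strandEquiv F i d), Module.finrank_pi_fintype]
  refine Finset.sum_congr rfl fun b _ => ?_
  rw [finrank_stdGr]
  have : (0 ≤ d - F.deg i b) ↔ F.deg i b ≤ d := by omega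
  simp only [this]

/-- the Hilbert function from a finite graded free resolution. -/
theorem finrank_piece (m : ℕ) (hF : F.HasLengthLE m) (d : ℤ) :
    (Module.finrank k ↥(ℳ d) : ℤ) =
      ∑ i ∈ Finset.range (m + 1), (-1 : ℤ) ^ i * ∑ b : Fin (F.rk i),
        (if F.deg i b ≤ d then ((Nat.choose (r + (d - F.deg i b).toNat) r : ℕ) : ℤ) else 0) := by
  rw [finrank_eq_alternating_sum (k := k) (fun i => ↥(strand F i d)) ↥(ℳ d) (fun i => dS F i d)
    (augS F d) (augS_surjective F d) (ker_augS F d) (fun i => ker_dS F i d) m ?_]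
  · refine Finset.sum_congr rfl fun i _ => ?_
    rw [finrank_strand]
    push_cast
    rfl
  · intro i hi
    rw [finrank_strand]
    have : F.rk i = 0 := hF i hi
    have hemp : IsEmpty (Fin (F.rk i)) := by rw [this]; infer_instance
    simp

end Groth.Agent.Lib.Helper77.GrHilbert
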