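import Mathlib
import Groth.Prelude.Def_GrSyz

/-!
# Construction of minimal graded free resolutions (irredundant homogeneous generators at each step)
-/

universe u

namespace Groth.Agent.Lib.Helper77.GrMinRes

open GrSyz DirectSum

/-- A finitely generated submodule spanned by a set `X` has an irredundant finite generating family
with members in `X`. -/
theorem exists_irredundant_family {S N : Type*} [CommRing S] [AddCommGroup N] [Module S N]
    (K : Submodule S N) (hK : K.FG) (X : Set N) (hX : Submodule.span S X = K) :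
    ∃ (n : ℕ) (g : Fin n → N), (∀ b, g b ∈ X) ∧ Submodule.span S (Set.range g) = K ∧
      ∀ b, g b ∉ Submodule.span S (g '' {b' | b' ≠ b}) := by
  classical
  have hex : ∃ n : ℕ, ∃ g : Fin n → N, (∀ b, g b ∈ X) ∧ Submodule.span S (Set.range g) = K := by
    rw [← hX] at hK
    obtain ⟨s', hs'X, hs'⟩ := (Submodule.fg_span_iff_fg_span_finset_subset X).1 hK
    refine ⟨s'.card, fun b => ((s'.equivFin.symm b : s') : N), fun b => hs'X (s'.equivFin.symm b).2, ?_⟩
    rw [← hX, hs']
    congr 1
    ext x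
    constructor
    · rintro ⟨b, rfl⟩
      exact (s'.equivFin.symm b).2
    · intro hx
      exact ⟨s'.equivFin ⟨x, hx⟩, by simp⟩
  obtain ⟨g, hgX, hg⟩ := Nat.find_spec hex
  refine ⟨Nat.find hex, g, hgX, hg, ?_⟩
  intro b hb
  -- remove `b` to get a smaller family
  obtain ⟨m, hm⟩ : ∃ m, Nat.find hex = m + 1 := by
    cases h : Nat.find hex with
    | zero => exact (Fin.elim0 (h ▸ b))
    | succ m => exact ⟨m, rfl⟩
  have hlt : m < Nat.find hex := by omega
  apply Nat.find_min hex hlt
  -- transport along `hm`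
  revert g b
  rw [hm]
  intro g hgX hg b hb
  refine ⟨fun c => g (b.succAbove c), fun c => hgX _, ?_⟩
  rw [← hg]
  apply le_antisymm
  · apply Submodule.span_mono
    rintro _ ⟨c, rfl⟩
    exact ⟨_, rfl⟩
  · rw [Submodule.span_le]
    rintro _ ⟨b', rfl⟩
    have himg : g '' {b' | b' ≠ b} ⊆ Set.range fun c => g (b.succAbove c) := by
      rintro _ ⟨b'', hb'', rfl⟩
      obtain ⟨c, rfl⟩ := Fin.exists_succAbove_eq hb''
      exact ⟨c, rfl⟩
    by_cases hbb : b' = b
    · subst hbb
      exact Submodule.span_mono himg hb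
    · exact Submodule.subset_span (himg ⟨b', hbb, rfl⟩)


section Graded

variable {k R : Type u} [CommRing k] [CommRing R] [Algebra k R]
  {𝒜 : ℤ → Submodule k R} [GradedAlgebra 𝒜]
  {M : Type u} [AddCommGroup M] [Module k M] [Module R M] [IsScalarTower k R M]
  {ℳ : ℤ → Submodule k M} [DirectSum.Decomposition ℳ] [SetLike.GradedSMul 𝒜 ℳ]

/-- the degree-`d` component of a column vector with respect to the basis degrees `dg`. -/
noncomputable def comp {n : ℕ} (dg : Fin n → ℤ) (d : ℤ) (v : Fin n → R) : Fin n → R :=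
  fun a => (decompose 𝒜 (v a) (d - dg a) : R)

/-- homogeneous column vectors of degree `d`. -/
def IsHomVec {n : ℕ} (dg : Fin n → ℤ) (d : ℤ) (v : Fin n → R) : Prop :=
  ∀ a, v a ∈ 𝒜 (d - dg a)

theorem comp_isHomVec {n : ℕ} (dg : Fin n → ℤ) (d : ℤ) (v : Fin n → R) :
    IsHomVec (𝒜 := 𝒜) dg d (comp (𝒜 := 𝒜) dg d v) :=
  fun _ => SetLike.coe_mem _

theorem comp_of_isHomVec {n : ℕ} {dg : Fin n → ℤ} {d : ℤ} {v : Fin n → R}
    (h : IsHomVec (𝒜 := 𝒜) dg d v) : comp (𝒜 := 𝒜) dg d v = v := by
  funext a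
  exact decompose_of_mem_same 𝒜 (h a)

theorem exists_sum_comp {n : ℕ} (dg : Fin n → ℤ) (v : Fin n → R) :
    ∃ D : Finset ℤ, ∑ d ∈ D, comp (𝒜 := 𝒜) dg d v = v := by
  classical
  refine ⟨Finset.univ.biUnion (fun a => (decompose 𝒜 (v a)).support.image (· + dg a)), ?_⟩
  funext a
  rw [Finset.sum_apply]
  simp only [comp]
  set D := Finset.univ.biUnion (fun a => (decompose 𝒜 (v a)).support.image (· + dg a)) with hD
  have hinj : Set.InjOn (fun d : ℤ => d - dg a) (D : Set ℤ) := fun x _ y _ h => by
    simpa using h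
  rw [← Finset.sum_image (f := fun e => ((decompose 𝒜 (v a) e : 𝒜 e) : R)) hinj]
  have hsub : (decompose 𝒜 (v a)).support ⊆ D.image (fun d : ℤ => d - dg a) := by
    intro e he
    rw [Finset.mem_image]
    refine ⟨e + dg a, ?_, by ring⟩
    rw [hD, Finset.mem_biUnion]
    exact ⟨a, Finset.mem_univ _, Finset.mem_image.2 ⟨e, he, rfl⟩⟩
  rw [← Finset.sum_subset hsub, DirectSum.sum_support_decompose]
  intro e _ he
  rw [DFinsupp.notMem_support_iff] at he
  rw [he]; rfl

theorem mulVec_comp {n n' : ℕ} (dg : Fin n → ℤ) (dg' : Fin n' → ℤ) (D : Matrix (Fin n) (Fin n') R)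
    (hD : ∀ a b, D a b ∈ 𝒜 (dg' b - dg a)) (d : ℤ) (w : Fin n' → R) :
    D.mulVec (comp (𝒜 := 𝒜) dg' d w) = comp (𝒜 := 𝒜) dg d (D.mulVec w) := by
  funext a
  simp only [comp, Matrix.mulVec, dotProduct]
  rw [decompose_sum, DFinsupp.finsetSum_apply, AddSubmonoidClass.coe_finsetSum]
  refine Finset.sum_congr rfl fun b _ => ?_
  have h := DirectSum.coe_decompose_mul_add_of_left_mem 𝒜 (b := w b)
    (j := d - dg' b) (hD a b)
  have hidx : dg' b - dg a + (d - dg' b) = d - dg a := by ring
  rw [hidx] at h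
  rw [h]

theorem linearCombination_comp {n : ℕ} (dg : Fin n → ℤ) (aug : Fin n → M)
    (haug : ∀ b, aug b ∈ ℳ (dg b)) (d : ℤ) (w : Fin n → R) :
    Fintype.linearCombination R aug (comp (𝒜 := 𝒜) dg d w) =
      (decompose ℳ (Fintype.linearCombination R aug w) d : M) := by
  simp only [Fintype.linearCombination_apply, comp]
  rw [decompose_sum, DFinsupp.finsetSum_apply, AddSubmonoidClass.coe_finsetSum]
  refine Finset.sum_congr rfl fun b _ => ?_
  have key : ∀ x : R, (decompose 𝒜 x (d - dg b) : R) • aug b =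
      (decompose ℳ (x • aug b) d : M) := by
    intro x
    induction x using DirectSum.Decomposition.inductionOn 𝒜 with
    | zero => simp
    | @homogeneous e x =>
      have hmem : (x : R) • aug b ∈ ℳ (e + dg b) :=
        SetLike.GradedSMul.smul_mem x.2 (haug b)
      by_cases hn : e = d - dg b
      · subst hn
        rw [decompose_of_mem_same 𝒜 x.2]
        have : d - dg b + dg b = d := by ring
        rw [this] at hmem
        rw [decompose_of_mem_same ℳ hmem]
      · rw [decompose_of_mem_ne 𝒜 x.2 hn, zero_smul,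
          decompose_of_mem_ne ℳ hmem (by intro h; exact hn (by linarith))]
    | add x y hx hy =>
      simp only [add_smul, decompose_add, DirectSum.add_apply, Submodule.coe_add, hx, hy]
  exact key (w b)

/-- A graded submodule of a finite free module over a Noetherian graded ring has an irredundant
finite family of homogeneous generators, recorded as the columns of a homogeneous matrix. -/
theorem exists_hom_generators [IsNoetherianRing R] {n : ℕ} (dg : Fin n → ℤ)
    (K : Submodule R (Fin n → R)) (hK : ∀ v ∈ K, ∀ d, comp (𝒜 := 𝒜) dg d v ∈ K) :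
    ∃ (n' : ℕ) (dg' : Fin n' → ℤ) (D : Matrix (Fin n) (Fin n') R),
      (∀ a b, D a b ∈ 𝒜 (dg' b - dg a)) ∧ LinearMap.range (Matrix.mulVecLin D) = K ∧
      ∀ b, (fun a => D a b) ∉ Submodule.span R ((fun b' a => D a b') '' {b' | b' ≠ b}) := by
  have hspan : Submodule.span R {v | v ∈ K ∧ ∃ d, IsHomVec (𝒜 := 𝒜) dg d v} = K := by
    apply le_antisymm
    · rw [Submodule.span_le]
      exact fun v hv => hv.1
    · intro v hv
      obtain ⟨D, hD⟩ := exists_sum_comp (𝒜 := 𝒜) dg v
      rw [← hD]
      refine Submodule.sum_mem _ fun d _ => Submodule.subset_span ⟨hK v hv d, d, comp_isHomVec dg d v⟩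
  obtain ⟨n', g, hgX, hg, hirr⟩ := exists_irredundant_family K (IsNoetherian.noetherian K) _ hspan
  choose hgK dg' hdg' using hgX
  refine ⟨n', dg', Matrix.of (fun a b => g b a), fun a b => hdg' b a, ?_, ?_⟩
  · rw [Matrix.range_mulVecLin, ← hg]
    congr 1
  · intro b
    exact hirr b

/-- A finitely generated graded module has an irredundant finite family of homogeneous generators. -/
theorem exists_hom_generators_module [Module.Finite R M] :
    ∃ (n : ℕ) (dg : Fin n → ℤ) (aug : Fin n → M), (∀ b, aug b ∈ ℳ (dg b)) ∧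
      Function.Surjective (Fintype.linearCombination R aug) ∧
      ∀ b, aug b ∉ Submodule.span R (aug '' {b' | b' ≠ b}) := by
  have hspan : Submodule.span R {m : M | ∃ d, m ∈ ℳ d} = ⊤ := by
    rw [eq_top_iff]
    rintro m -
    induction m using DirectSum.Decomposition.inductionOn ℳ with
    | zero => exact zero_mem _
    | @homogeneous d m => exact Submodule.subset_span ⟨d, m.2⟩
    | add m m' h h' => exact add_mem h h'
  obtain ⟨n, g, hgX, hg, hirr⟩ := exists_irredundant_family (⊤ : Submodule R M)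
    (Module.Finite.fg_top) _ hspan
  choose dg hdg using hgX
  refine ⟨n, dg, g, hdg, ?_, hirr⟩
  rw [← LinearMap.range_eq_top, Fintype.range_linearCombination, hg]

end Graded

section Construction

variable {k R : Type u} [CommRing k] [CommRing R] [Algebra k R]
  (𝒜 : ℤ → Submodule k R) [GradedAlgebra 𝒜]

/-- one stage of the construction: a homogeneous matrix `F_{i+1} → F_i` with irredundant columns. -/
structure Stage where
  n : ℕ
  dg : Fin n → ℤ
  n' : ℕ
  dg' : Fin n' → ℤ
  D : Matrix (Fin n) (Fin n') R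
  hom : ∀ a b, D a b ∈ 𝒜 (dg' b - dg a)
  irr : ∀ b, (fun a => D a b) ∉ Submodule.span R ((fun b' a => D a b') '' {b' | b' ≠ b})

variable {𝒜}

theorem ker_graded (s : Stage 𝒜) : ∀ v ∈ LinearMap.ker (Matrix.mulVecLin s.D), ∀ d,
    comp (𝒜 := 𝒜) s.dg' d v ∈ LinearMap.ker (Matrix.mulVecLin s.D) := by
  intro v hv d
  rw [LinearMap.mem_ker, Matrix.mulVecLin_apply] at hv ⊢
  rw [mulVec_comp s.dg s.dg' s.D s.hom, hv]
  funext a
  simp [comp]

variable [IsNoetherianRing R]

/-- the next stage: irredundant homogeneous generators of the kernel. -/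
noncomputable def step (s : Stage 𝒜) : Stage 𝒜 :=
  let h := exists_hom_generators (𝒜 := 𝒜) s.dg' (LinearMap.ker (Matrix.mulVecLin s.D)) (ker_graded s)
  { n := s.n'
    dg := s.dg'
    n' := h.choose
    dg' := h.choose_spec.choose
    D := h.choose_spec.choose_spec.choose
    hom := h.choose_spec.choose_spec.choose_spec.1
    irr := h.choose_spec.choose_spec.choose_spec.2.2 }

theorem step_range (s : Stage 𝒜) :
    LinearMap.range (Matrix.mulVecLin (step s).D) = LinearMap.ker (Matrix.mulVecLin s.D) :=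
  (exists_hom_generators (𝒜 := 𝒜) s.dg' (LinearMap.ker (Matrix.mulVecLin s.D))
    (ker_graded s)).choose_spec.choose_spec.choose_spec.2.1

/-- the sequence of stages. -/
noncomputable def seq (s₀ : Stage 𝒜) : ℕ → Stage 𝒜
  | 0 => s₀
  | i + 1 => step (seq s₀ i)

variable {M : Type u} [AddCommGroup M] [Module k M] [Module R M] [IsScalarTower k R M]
  {ℳ : ℤ → Submodule k M} [DirectSum.Decomposition ℳ] [SetLike.GradedSMul 𝒜 ℳ]

/-- assemble a graded free resolution from an initial stage resolving the kernel of an augmentation. -/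
noncomputable def mkFreeRes (s₀ : Stage 𝒜) (aug : Fin s₀.n → M) (haug : ∀ b, aug b ∈ ℳ (s₀.dg b))
    (hsurj : Function.Surjective (Fintype.linearCombination R aug))
    (hex : LinearMap.ker (Fintype.linearCombination R aug) = LinearMap.range (Matrix.mulVecLin s₀.D)) :
    FreeRes 𝒜 ℳ where
  rk i := (seq s₀ i).n
  deg i := (seq s₀ i).dg
  d i := (seq s₀ i).D
  aug := aug
  d_mem i a b := (seq s₀ i).hom a b
  aug_mem := haug
  aug_surjective := hsurj
  exact_zero := hex
  exact_succ i := (step_range (seq s₀ i)).symm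


/-- Existence of a graded free resolution with irredundant generators at every step. -/
theorem exists_freeRes_irredundant [Module.Finite R M] :
    ∃ F : FreeRes 𝒜 ℳ, (∀ b : Fin (F.rk 0), F.aug b ∉ Submodule.span R (F.aug '' {b' | b' ≠ b})) ∧
      ∀ (i : ℕ) (b : Fin (F.rk (i + 1))),
        (fun a => F.d i a b) ∉ Submodule.span R ((fun b' a => F.d i a b') '' {b' | b' ≠ b}) := by
  obtain ⟨n, dg, aug, haug, hsurj, hirr⟩ := exists_hom_generators_module (R := R) (ℳ := ℳ)
  have hK : ∀ v ∈ LinearMap.ker (Fintype.linearCombination R aug), ∀ d,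
      comp (𝒜 := 𝒜) dg d v ∈ LinearMap.ker (Fintype.linearCombination R aug) := by
    intro v hv d
    rw [LinearMap.mem_ker] at hv ⊢
    rw [linearCombination_comp (ℳ := ℳ) dg aug haug, hv]
    simp
  obtain ⟨n', dg', D, hom, hrange, hirrD⟩ := exists_hom_generators (𝒜 := 𝒜) dg _ hK
  let s₀ : Stage 𝒜 := ⟨n, dg, n', dg', D, hom, hirrD⟩
  refine ⟨mkFreeRes (ℳ := ℳ) s₀ aug haug hsurj hrange.symm, hirr, fun i b => ?_⟩
  exact (seq s₀ i).irr b

end Construction

end Groth.Agent.Lib.Helper77.GrMinRes
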