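import Mathlib
import Groth.Prelude.Def_GrSyz
import Groth.Agent.Lib.Helper77.GrStrand
import Groth.Agent.Lib.Helper77.GrMinRes
import Groth.Agent.Lib.Helper77.GrSyzBasic
import Groth.Agent.Lib.Helper77.GrHilbert

/-!
# Comparison of graded free resolutions: graded chain maps lifting the identity
-/

universe u

namespace Groth.Agent.Lib.Helper77.GrCompare

open GrSyz DirectSum Groth.Agent.Lib.Helper77.GrStrand Groth.Agent.Lib.Helper77.GrMinRes

/-- dependent recursion with an invariant. -/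
theorem exists_dep_seq {T : ℕ → Type*} (Q : ∀ i, T i → Prop) (P : ∀ i, T i → T (i + 1) → Prop)
    (h0 : ∃ x, Q 0 x) (hs : ∀ i x, Q i x → ∃ y, P i x y ∧ Q (i + 1) y) :
    ∃ f : ∀ i, T i, ∀ i, Q i (f i) ∧ P i (f i) (f (i + 1)) := by
  classical
  let g : ∀ i, {x : T i // Q i x} := fun i =>
    Nat.rec (motive := fun i => {x : T i // Q i x}) ⟨h0.choose, h0.choose_spec⟩
      (fun i x => ⟨(hs i x.1 x.2).choose, (hs i x.1 x.2).choose_spec.2⟩) i
  refine ⟨fun i => (g i).1, fun i => ⟨(g i).2, ?_⟩⟩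
  exact (hs i (g i).1 (g i).2).choose_spec.1

section General

variable {k R : Type u} [CommRing k] [CommRing R] [Algebra k R]
  {𝒜 : ℤ → Submodule k R} [GradedAlgebra 𝒜]
  {M : Type u} [AddCommGroup M] [Module k M] [Module R M] [IsScalarTower k R M]
  {ℳ : ℤ → Submodule k M} [DirectSum.Decomposition ℳ] [SetLike.GradedSMul 𝒜 ℳ]

theorem strand_iff_isHomVec (F : FreeRes 𝒜 ℳ) (i : ℕ) (d : ℤ) (v : Fin (F.rk i) → R) :
    v ∈ strand F i d ↔ IsHomVec (𝒜 := 𝒜) (F.deg i) d v :=
  mem_strand F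

theorem dLin_comp_dLin (F : FreeRes 𝒜 ℳ) (i : ℕ) (w : Fin (F.rk (i + 2)) → R) :
    F.dLin i (F.dLin (i + 1) w) = 0 := by
  have : F.dLin (i + 1) w ∈ LinearMap.ker (F.dLin i) := by
    rw [F.exact_succ]; exact ⟨w, rfl⟩
  exact this

theorem augLin_comp_dLin (F : FreeRes 𝒜 ℳ) (w : Fin (F.rk 1) → R) :
    F.augLin (F.dLin 0 w) = 0 := by
  have : F.dLin 0 w ∈ LinearMap.ker F.augLin := by
    rw [F.exact_zero]; exact ⟨w, rfl⟩
  exact this

/-- the single column vector `e_b` is homogeneous of degree `dg b`. -/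
theorem single_isHomVec {n : ℕ} (dg : Fin n → ℤ) (b : Fin n) :
    IsHomVec (𝒜 := 𝒜) dg (dg b) (Pi.single b (1 : R)) := by
  intro a
  by_cases h : a = b
  · subst h
    simp only [Pi.single_eq_same, sub_self]
    exact SetLike.GradedOne.one_mem
  · rw [Pi.single_eq_of_ne h]
    exact zero_mem _

/-- a homogeneous matrix maps homogeneous vectors to homogeneous vectors. -/
theorem mulVec_isHomVec {n n' : ℕ} (dg : Fin n → ℤ) (dg' : Fin n' → ℤ) (D : Matrix (Fin n) (Fin n') R)
    (hD : ∀ a b, D a b ∈ 𝒜 (dg' b - dg a)) {d : ℤ} {w : Fin n' → R}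
    (hw : IsHomVec (𝒜 := 𝒜) dg' d w) : IsHomVec (𝒜 := 𝒜) dg d (D.mulVec w) := by
  rw [← comp_of_isHomVec hw, mulVec_comp dg dg' D hD]
  exact comp_isHomVec dg d _

/-- lifting homogeneous columns through the augmentation. -/
theorem exists_lift_aug (F : FreeRes 𝒜 ℳ) (d : ℤ) (x : M) (hx : x ∈ ℳ d) :
    ∃ w : Fin (F.rk 0) → R, IsHomVec (𝒜 := 𝒜) (F.deg 0) d w ∧ F.augLin w = x := by
  obtain ⟨w, hw⟩ := augS_surjective F d ⟨x, hx⟩
  exact ⟨w.1, (mem_strand F).1 w.2, congrArg Subtype.val hw⟩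

/-- lifting homogeneous cycles through the first differential. -/
theorem exists_lift_zero (F : FreeRes 𝒜 ℳ) (d : ℤ) (v : Fin (F.rk 0) → R)
    (hv : IsHomVec (𝒜 := 𝒜) (F.deg 0) d v) (h0 : F.augLin v = 0) :
    ∃ w : Fin (F.rk 1) → R, IsHomVec (𝒜 := 𝒜) (F.deg 1) d w ∧ F.dLin 0 w = v := by
  have hmem : (⟨v, (mem_strand F).2 hv⟩ : ↥(strand F 0 d)) ∈ LinearMap.ker (augS F d) := by
    rw [LinearMap.mem_ker]
    apply Subtype.ext
    exact h0
  rw [ker_augS] at hmem
  obtain ⟨w, hw⟩ := hmem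
  exact ⟨w.1, (mem_strand F).1 w.2, congrArg Subtype.val hw⟩

/-- lifting homogeneous cycles through the higher differentials. -/
theorem exists_lift_succ (F : FreeRes 𝒜 ℳ) (i : ℕ) (d : ℤ) (v : Fin (F.rk (i + 1)) → R)
    (hv : IsHomVec (𝒜 := 𝒜) (F.deg (i + 1)) d v) (h0 : F.dLin i v = 0) :
    ∃ w : Fin (F.rk (i + 2)) → R, IsHomVec (𝒜 := 𝒜) (F.deg (i + 2)) d w ∧ F.dLin (i + 1) w = v := by
  have hmem : (⟨v, (mem_strand F).2 hv⟩ : ↥(strand F (i + 1) d)) ∈ LinearMap.ker (dS F i d) := by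
    rw [LinearMap.mem_ker]
    apply Subtype.ext
    exact h0
  rw [ker_dS] at hmem
  obtain ⟨w, hw⟩ := hmem
  exact ⟨w.1, (mem_strand F).1 w.2, congrArg Subtype.val hw⟩

/-- a graded chain map between graded free resolutions of the same module, over the identity. -/
structure GrChainMap (F F' : FreeRes 𝒜 ℳ) where
  Φ : (i : ℕ) → Matrix (Fin (F'.rk i)) (Fin (F.rk i)) R
  hom : ∀ i a b, Φ i a b ∈ 𝒜 (F.deg i b - F'.deg i a)
  aug : ∀ w, F'.augLin ((Φ 0).mulVec w) = F.augLin w
  comm : ∀ i w, F'.dLin i ((Φ (i + 1)).mulVec w) = (Φ i).mulVec (F.dLin i w)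

theorem exists_grChainMap (F F' : FreeRes 𝒜 ℳ) : Nonempty (GrChainMap F F') := by
  classical
  -- invariants
  let T : ℕ → Type u := fun i => Matrix (Fin (F'.rk i)) (Fin (F.rk i)) R
  let Q : ∀ i, T i → Prop := fun i Φ =>
    (∀ a b, Φ a b ∈ 𝒜 (F.deg i b - F'.deg i a)) ∧
      Nat.rec (motive := fun i => T i → Prop)
        (fun Φ => ∀ w, F'.augLin (Φ.mulVec w) = F.augLin w)
        (fun i _ Φ => ∀ w, F'.dLin i (Φ.mulVec (F.dLin (i + 1) w)) = 0) i Φ
  let P : ∀ i, T i → T (i + 1) → Prop := fun i Φ Φ' =>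
    ∀ w, F'.dLin i (Φ'.mulVec w) = Φ.mulVec (F.dLin i w)
  -- a matrix with prescribed homogeneous columns
  have hcols : ∀ (i : ℕ) (c : ∀ b : Fin (F.rk i), Fin (F'.rk i) → R),
      (∀ b, IsHomVec (𝒜 := 𝒜) (F'.deg i) (F.deg i b) (c b)) →
      ∃ Φ : T i, (∀ a b, Φ a b ∈ 𝒜 (F.deg i b - F'.deg i a)) ∧ ∀ b, Φ.mulVec (Pi.single b 1) = c b := by
    intro i c hc
    refine ⟨Matrix.of fun a b => c b a, fun a b => hc b a, fun b => ?_⟩
    funext a
    simp [Matrix.mulVec_single]
  -- two linear maps agreeing on the basis vectors agree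
  have hext : ∀ {n : ℕ} {N : Type u} [AddCommGroup N] [Module R N]
      (f g : (Fin n → R) →ₗ[R] N), (∀ b, f (Pi.single b 1) = g (Pi.single b 1)) → ∀ w, f w = g w := by
    intro n N _ _ f g h w
    have : f = g := by
      apply LinearMap.pi_ext'
      intro b
      ext
      simpa using h b
    rw [this]
  have h0 : ∃ x, Q 0 x := by
    have : ∀ b : Fin (F.rk 0), ∃ w : Fin (F'.rk 0) → R,
        IsHomVec (𝒜 := 𝒜) (F'.deg 0) (F.deg 0 b) w ∧ F'.augLin w = F.aug b :=
      fun b => exists_lift_aug F' (F.deg 0 b) (F.aug b) (F.aug_mem b)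
    choose c hc hc' using this
    obtain ⟨Φ, hΦ, hΦc⟩ := hcols 0 c hc
    refine ⟨Φ, hΦ, ?_⟩
    show ∀ w, F'.augLin (Φ.mulVec w) = F.augLin w
    refine hext (F'.augLin.comp (Matrix.mulVecLin Φ)) F.augLin ?_
    intro b
    simp only [LinearMap.comp_apply, Matrix.mulVecLin_apply, hΦc, hc']
    simp [Fintype.linearCombination_apply_single]
  have hs : ∀ i x, Q i x → ∃ y, P i x y ∧ Q (i + 1) y := by
    intro i Φ hQ
    obtain ⟨hΦ, hkill⟩ := hQ
    -- target columns
    have hcol : ∀ b : Fin (F.rk (i + 1)), ∃ w : Fin (F'.rk (i + 1)) → R,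
        IsHomVec (𝒜 := 𝒜) (F'.deg (i + 1)) (F.deg (i + 1) b) w ∧
          F'.dLin i w = Φ.mulVec (F.dLin i (Pi.single b 1)) := by
      intro b
      have hhom : IsHomVec (𝒜 := 𝒜) (F'.deg i) (F.deg (i + 1) b)
          (Φ.mulVec (F.dLin i (Pi.single b 1))) := by
        apply mulVec_isHomVec (F'.deg i) (F.deg i) Φ hΦ
        exact mulVec_isHomVec (F.deg i) (F.deg (i + 1)) (F.d i) (F.d_mem i)
          (single_isHomVec (F.deg (i + 1)) b)
      cases i with
      | zero =>
        have hk : F'.augLin (Φ.mulVec (F.dLin 0 (Pi.single b 1))) = 0 := by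
          have h1 : ∀ w, F'.augLin (Φ.mulVec w) = F.augLin w := hkill
          rw [h1, augLin_comp_dLin]
        exact exists_lift_zero F' _ _ hhom hk
      | succ j =>
        have hk : F'.dLin j (Φ.mulVec (F.dLin (j + 1) (Pi.single b 1))) = 0 := hkill _
        exact exists_lift_succ F' j _ _ hhom hk
    choose c hc hc' using hcol
    obtain ⟨Φ', hΦ', hΦ'c⟩ := hcols (i + 1) c hc
    have hP : ∀ w, F'.dLin i (Φ'.mulVec w) = Φ.mulVec (F.dLin i w) := by
      refine hext ((F'.dLin i).comp (Matrix.mulVecLin Φ')) ((Matrix.mulVecLin Φ).comp (F.dLin i)) ?_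
      intro b
      simp only [LinearMap.comp_apply, Matrix.mulVecLin_apply, hΦ'c, hc']
    refine ⟨Φ', hP, hΦ', ?_⟩
    show ∀ w, F'.dLin i (Φ'.mulVec (F.dLin (i + 1) w)) = 0
    intro w
    rw [hP, dLin_comp_dLin]
    simp
  obtain ⟨f, hf⟩ := exists_dep_seq Q P h0 hs
  exact ⟨{ Φ := f
           hom := fun i => (hf i).1.1
           aug := (hf 0).1.2
           comm := fun i => (hf i).2 }⟩

end General

open Groth.Agent.Lib.Helper77

section
variable {k R : Type u} [CommRing k] [CommRing R] [Algebra k R]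
  {𝒜 : ℤ → Submodule k R} [GradedAlgebra 𝒜]

theorem comp_sub {n : ℕ} (dg : Fin n → ℤ) (d : ℤ) (v w : Fin n → R) :
    comp (𝒜 := 𝒜) dg d (v - w) = comp (𝒜 := 𝒜) dg d v - comp (𝒜 := 𝒜) dg d w := by
  funext a
  simp [comp, decompose_sub]

end

section Poly

variable (k : Type u) [Field k] (σ : Type)

/-- graded Nakayama for homogeneous endomorphisms of a graded free module over the polynomial ring. -/
theorem mulVec_surjective_of_mod_irrel {n : ℕ} (dg : Fin n → ℤ)
    (Θ : Matrix (Fin n) (Fin n) (MvPolynomial σ k))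
    (hΘ : ∀ a b, Θ a b ∈ stdGr k σ (dg b - dg a))
    (h : ∀ g : Fin n → MvPolynomial σ k, ∃ g' : Fin n → MvPolynomial σ k,
      ∀ a, (Θ.mulVec g' - g) a ∈ (irrel (stdGr k σ)).toIdeal) :
    Function.Surjective Θ.mulVec := by
  classical
  have wf : WellFounded (fun a b : Fin n => dg a < dg b) := by
    have : IsTrans (Fin n) (fun a b : Fin n => dg a < dg b) := ⟨fun a b c => lt_trans⟩
    have : Std.Irrefl (fun a b : Fin n => dg a < dg b) := ⟨fun a => lt_irrefl _⟩
    exact Finite.wellFounded_of_trans_of_irrefl _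
  have hbasis : ∀ b : Fin n, (Pi.single b 1 : Fin n → MvPolynomial σ k) ∈
      LinearMap.range (Matrix.mulVecLin Θ) := by
    intro b
    induction b using wf.induction with
    | _ b ih =>
      obtain ⟨g', hg'⟩ := h (Pi.single b 1)
      set μ := Θ.mulVec g' - Pi.single b 1 with hμ
      have h1 : Θ.mulVec (comp (𝒜 := stdGr k σ) dg (dg b) g') - Pi.single b 1 =
          comp (𝒜 := stdGr k σ) dg (dg b) μ := by
        rw [hμ, comp_sub, mulVec_comp dg dg Θ hΘ,
          comp_of_isHomVec (single_isHomVec (𝒜 := stdGr k σ) dg b)]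
      have h2 : comp (𝒜 := stdGr k σ) dg (dg b) μ ∈ LinearMap.range (Matrix.mulVecLin Θ) := by
        have hsum : comp (𝒜 := stdGr k σ) dg (dg b) μ =
            ∑ a, (comp (𝒜 := stdGr k σ) dg (dg b) μ a) • (Pi.single a 1 : Fin n → MvPolynomial σ k) := by
          funext a'
          simp [Finset.sum_apply, Pi.single_apply]
        rw [hsum]
        refine Submodule.sum_mem _ fun a _ => ?_
        by_cases hz : comp (𝒜 := stdGr k σ) dg (dg b) μ a = 0
        · rw [hz, zero_smul]; exact zero_mem _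
        · refine Submodule.smul_mem _ _ (ih a ?_)
          have hmem : comp (𝒜 := stdGr k σ) dg (dg b) μ a ∈ (irrel (stdGr k σ)).toIdeal :=
            (irrel (stdGr k σ)).isHomogeneous _ (hg' a)
          have hhom : comp (𝒜 := stdGr k σ) dg (dg b) μ a ∈ stdGr k σ (dg b - dg a) :=
            comp_isHomVec dg (dg b) μ a
          have := one_le_of_mem_stdGr_of_mem_irrel k σ hz hhom hmem
          omega
      have h3 : Θ.mulVec (comp (𝒜 := stdGr k σ) dg (dg b) g') ∈
          LinearMap.range (Matrix.mulVecLin Θ) := ⟨_, rfl⟩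
      have : (Pi.single b 1 : Fin n → MvPolynomial σ k) =
          Θ.mulVec (comp (𝒜 := stdGr k σ) dg (dg b) g') - comp (𝒜 := stdGr k σ) dg (dg b) μ := by
        rw [← h1]; abel
      rw [this]
      exact Submodule.sub_mem _ h3 h2
  intro v
  have hv : v ∈ LinearMap.range (Matrix.mulVecLin Θ) := by
    have hsum : v = ∑ a, v a • (Pi.single a 1 : Fin n → MvPolynomial σ k) := by
      funext a'
      simp [Finset.sum_apply, Pi.single_apply]
    rw [hsum]
    exact Submodule.sum_mem _ fun a _ => Submodule.smul_mem _ _ (hbasis a)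
  obtain ⟨w, hw⟩ := hv
  exact ⟨w, hw⟩


variable {k} {r : ℕ}
variable {M : Type u} [AddCommGroup M] [Module k M] [Module (MvPolynomial (Fin (r + 1)) k) M]
  [IsScalarTower k (MvPolynomial (Fin (r + 1)) k) M]
  {ℳ : ℤ → Submodule k M} [DirectSum.Decomposition ℳ] [SetLike.GradedSMul (stdGr k (Fin (r + 1))) ℳ]

/-- every level of a graded chain endomorphism (over the identity) of a minimal resolution is
bijective. -/
theorem grChainMap_self_bijective (F : FreeRes (stdGr k (Fin (r + 1))) ℳ)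
    (hF : F.IsMinimal (irrel (stdGr k (Fin (r + 1)))).toIdeal) (Θ : GrChainMap F F) (i : ℕ) :
    Function.Bijective (Θ.Φ i).mulVec := by
  -- surjective endomorphisms are bijective
  have hbij : ∀ j, Function.Surjective (Θ.Φ j).mulVec → Function.Bijective (Θ.Φ j).mulVec := by
    intro j hs
    refine ⟨?_, hs⟩
    exact OrzechProperty.injective_of_surjective_endomorphism (Matrix.mulVecLin (Θ.Φ j)) hs
  have hmin : ∀ j (w : Fin (F.rk (j + 1)) → MvPolynomial (Fin (r + 1)) k) (a : Fin (F.rk j)),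
      (F.dLin j w) a ∈ (irrel (stdGr k (Fin (r + 1)))).toIdeal := fun j w a =>
    mulVec_mem_of_entries_mem _ _ (fun a c => hF j a c) w a
  have h0 : Function.Bijective (Θ.Φ 0).mulVec := by
    apply hbij
    apply mulVec_surjective_of_mod_irrel k (Fin (r + 1)) (F.deg 0) (Θ.Φ 0) (Θ.hom 0)
    intro g
    refine ⟨g, ?_⟩
    have hker : (Θ.Φ 0).mulVec g - g ∈ LinearMap.ker F.augLin := by
      rw [LinearMap.mem_ker, map_sub, Θ.aug, sub_self]
    rw [F.exact_zero] at hker
    obtain ⟨w, hw⟩ := hker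
    intro a
    rw [← hw]
    exact hmin 0 w a
  have h1 : Function.Bijective (Θ.Φ 1).mulVec := by
    apply hbij
    apply mulVec_surjective_of_mod_irrel k (Fin (r + 1)) (F.deg 1) (Θ.Φ 1) (Θ.hom 1)
    intro g
    obtain ⟨y, hy⟩ := h0.2 (F.dLin 0 g)
    have hy0 : y ∈ LinearMap.ker F.augLin := by
      rw [LinearMap.mem_ker, ← Θ.aug, hy, augLin_comp_dLin]
    rw [F.exact_zero] at hy0
    obtain ⟨g', hg'⟩ := hy0
    refine ⟨g', ?_⟩
    have hker : (Θ.Φ 1).mulVec g' - g ∈ LinearMap.ker (F.dLin 0) := by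
      rw [LinearMap.mem_ker, map_sub, Θ.comm 0]
      have : F.dLin 0 g' = y := hg'
      rw [this, hy, sub_self]
    rw [F.exact_succ] at hker
    obtain ⟨w, hw⟩ := hker
    intro a
    rw [← hw]
    exact hmin 1 w a
  have hstep : ∀ j, Function.Bijective (Θ.Φ j).mulVec → Function.Bijective (Θ.Φ (j + 1)).mulVec →
      Function.Bijective (Θ.Φ (j + 2)).mulVec := by
    intro j hj hj1
    apply hbij
    apply mulVec_surjective_of_mod_irrel k (Fin (r + 1)) (F.deg (j + 2)) (Θ.Φ (j + 2)) (Θ.hom (j + 2))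
    intro g
    obtain ⟨y, hy⟩ := hj1.2 (F.dLin (j + 1) g)
    have hy0 : y ∈ LinearMap.ker (F.dLin j) := by
      rw [LinearMap.mem_ker]
      apply hj.1
      show (Θ.Φ j).mulVec (F.dLin j y) = (Θ.Φ j).mulVec 0
      rw [← Θ.comm j, hy, dLin_comp_dLin]
      simp
    rw [F.exact_succ] at hy0
    obtain ⟨g', hg'⟩ := hy0
    refine ⟨g', ?_⟩
    have hker : (Θ.Φ (j + 2)).mulVec g' - g ∈ LinearMap.ker (F.dLin (j + 1)) := by
      rw [LinearMap.mem_ker, map_sub, Θ.comm (j + 1)]
      have : F.dLin (j + 1) g' = y := hg'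
      rw [this, hy, sub_self]
    rw [F.exact_succ] at hker
    obtain ⟨w, hw⟩ := hker
    intro a
    rw [← hw]
    exact hmin (j + 2) w a
  have hall : ∀ j, Function.Bijective (Θ.Φ j).mulVec ∧ Function.Bijective (Θ.Φ (j + 1)).mulVec := by
    intro j
    induction j with
    | zero => exact ⟨h0, h1⟩
    | succ j ih => exact ⟨ih.2, hstep j ih.1 ih.2⟩
  exact (hall i).1

end Poly


section
variable {k R : Type u} [CommRing k] [CommRing R] [Algebra k R]
  {𝒜 : ℤ → Submodule k R} [GradedAlgebra 𝒜]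
  {M : Type u} [AddCommGroup M] [Module k M] [Module R M] [IsScalarTower k R M]
  {ℳ : ℤ → Submodule k M} [DirectSum.Decomposition ℳ] [SetLike.GradedSMul 𝒜 ℳ]

/-- composition of graded chain maps. -/
def GrChainMap.comp' {F F' F'' : FreeRes 𝒜 ℳ} (Ψ : GrChainMap F' F'') (Φ : GrChainMap F F') :
    GrChainMap F F'' where
  Φ i := Ψ.Φ i * Φ.Φ i
  hom i a b := by
    rw [Matrix.mul_apply]
    refine Submodule.sum_mem _ fun c _ => ?_
    have h := SetLike.GradedMul.mul_mem (Ψ.hom i a c) (Φ.hom i c b)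
    have hidx : F'.deg i c - F''.deg i a + (F.deg i b - F'.deg i c) = F.deg i b - F''.deg i a := by ring
    rw [hidx] at h
    exact h
  aug w := by
    rw [← Matrix.mulVec_mulVec, Ψ.aug, Φ.aug]
  comm i w := by
    rw [← Matrix.mulVec_mulVec, Ψ.comm, Φ.comm, Matrix.mulVec_mulVec]

end


section Poly
variable {k : Type u} [Field k] {r : ℕ}
variable {M : Type u} [AddCommGroup M] [Module k M] [Module (MvPolynomial (Fin (r + 1)) k) M]
  [IsScalarTower k (MvPolynomial (Fin (r + 1)) k) M]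
  {ℳ : ℤ → Submodule k M} [DirectSum.Decomposition ℳ] [SetLike.GradedSMul (stdGr k (Fin (r + 1))) ℳ]

/-- a graded chain map (over the identity) from a minimal resolution to a minimal resolution is
injective in every degree. -/
theorem grChainMap_injective (F F' : FreeRes (stdGr k (Fin (r + 1))) ℳ)
    (hF : F.IsMinimal (irrel (stdGr k (Fin (r + 1)))).toIdeal)
    (Φ : GrChainMap F F') (Ψ : GrChainMap F' F) (i : ℕ) : Function.Injective (Φ.Φ i).mulVec := by
  have hb := grChainMap_self_bijective F hF (Ψ.comp' Φ) i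
  intro v w hvw
  apply hb.1
  show (Ψ.Φ i * Φ.Φ i).mulVec v = (Ψ.Φ i * Φ.Φ i).mulVec w
  rw [← Matrix.mulVec_mulVec, ← Matrix.mulVec_mulVec, hvw]

theorem finrank_strand_le (F F' : FreeRes (stdGr k (Fin (r + 1))) ℳ)
    (hF : F.IsMinimal (irrel (stdGr k (Fin (r + 1)))).toIdeal)
    (Φ : GrChainMap F F') (Ψ : GrChainMap F' F) (i : ℕ) (d : ℤ) :
    Module.finrank k ↥(strand F i d) ≤ Module.finrank k ↥(strand F' i d) := by
  let f : ↥(strand F i d) →ₗ[k] ↥(strand F' i d) :=
    ((Matrix.mulVecLin (Φ.Φ i)).restrictScalars k).restrict (fun w hw => by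
      rw [strand_iff_isHomVec] at hw ⊢
      exact mulVec_isHomVec (F'.deg i) (F.deg i) (Φ.Φ i) (Φ.hom i) hw)
  have hf : Function.Injective f := by
    intro v w hvw
    apply Subtype.ext
    apply grChainMap_injective F F' hF Φ Ψ i
    exact congrArg Subtype.val hvw
  have _ : Module.Finite k ↥(strand F' i d) := GrHilbert.finite_strand F' i d
  exact LinearMap.finrank_le_finrank_of_injective hf

theorem finrank_strand_eq (F F' : FreeRes (stdGr k (Fin (r + 1))) ℳ)
    (hF : F.IsMinimal (irrel (stdGr k (Fin (r + 1)))).toIdeal)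
    (hF' : F'.IsMinimal (irrel (stdGr k (Fin (r + 1)))).toIdeal) (i : ℕ) (d : ℤ) :
    Module.finrank k ↥(strand F i d) = Module.finrank k ↥(strand F' i d) := by
  obtain ⟨Φ⟩ := exists_grChainMap F F'
  obtain ⟨Ψ⟩ := exists_grChainMap F' F
  exact le_antisymm (finrank_strand_le F F' hF Φ Ψ i d) (finrank_strand_le F' F hF' Ψ Φ i d)

end Poly



/-- fibrewise regrouping of a sum over `Fin n` along a degree function. -/
theorem sum_fiber {n : ℕ} (f : Fin n → ℤ) (J : Finset ℤ) (hJ : ∀ b, f b ∈ J) (t : ℤ → ℕ) :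
    ∑ b : Fin n, t (f b) = ∑ j ∈ J, (Finset.univ.filter fun b : Fin n => f b = j).card * t j := by
  rw [← Finset.sum_fiberwise_of_maps_to (fun b _ => hJ b)]
  refine Finset.sum_congr rfl fun j _ => ?_
  rw [Finset.card_eq_sum_ones, Finset.sum_mul]
  refine Finset.sum_congr rfl fun b hb => ?_
  rw [(Finset.mem_filter.1 hb).2]
  simp

/-- triangular inversion: the counting functions are determined by the Hilbert-type sums. -/
theorem card_fiber_eq_of_sum_eq (r : ℕ) {n n' : ℕ} (f : Fin n → ℤ) (f' : Fin n' → ℤ)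
    (h : ∀ d : ℤ, ∑ b : Fin n, (if f b ≤ d then Nat.choose (r + (d - f b).toNat) r else 0) =
      ∑ b : Fin n', (if f' b ≤ d then Nat.choose (r + (d - f' b).toNat) r else 0)) (j : ℤ) :
    (Finset.univ.filter fun b : Fin n => f b = j).card =
      (Finset.univ.filter fun b : Fin n' => f' b = j).card := by
  classical
  set β : ℤ → ℕ := fun j => (Finset.univ.filter fun b : Fin n => f b = j).card with hβ
  set β' : ℤ → ℕ := fun j => (Finset.univ.filter fun b : Fin n' => f' b = j).card with hβ'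
  let J : Finset ℤ := Finset.univ.image f ∪ Finset.univ.image f'
  have hJ : ∀ b, f b ∈ J := fun b => Finset.mem_union_left _ (Finset.mem_image_of_mem _ (Finset.mem_univ b))
  have hJ' : ∀ b, f' b ∈ J := fun b => Finset.mem_union_right _ (Finset.mem_image_of_mem _ (Finset.mem_univ b))
  have hout : ∀ j, j ∉ J → β j = 0 ∧ β' j = 0 := by
    intro j hj
    constructor
    · rw [hβ]; simp only [Finset.card_eq_zero, Finset.filter_eq_empty_iff]
      intro b _ hb; exact hj (hb ▸ hJ b)
    · rw [hβ']; simp only [Finset.card_eq_zero, Finset.filter_eq_empty_iff]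
      intro b _ hb; exact hj (hb ▸ hJ' b)
  have hsum : ∀ d : ℤ, ∑ j ∈ J, β j * (if j ≤ d then Nat.choose (r + (d - j).toNat) r else 0) =
      ∑ j ∈ J, β' j * (if j ≤ d then Nat.choose (r + (d - j).toNat) r else 0) := by
    intro d
    have h1 := sum_fiber f J hJ (fun j => if j ≤ d then Nat.choose (r + (d - j).toNat) r else 0)
    have h2 := sum_fiber f' J hJ' (fun j => if j ≤ d then Nat.choose (r + (d - j).toNat) r else 0)
    rw [← h1, ← h2]
    exact h d
  suffices hall : ∀ j ∈ J, β j = β' j by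
    by_cases hj : j ∈ J
    · exact hall j hj
    · have := hout j hj
      show β j = β' j
      rw [this.1, this.2]
  by_contra hne
  push Not at hne
  have hS : (J.filter fun j => β j ≠ β' j).Nonempty := by
    obtain ⟨j, hj, hjn⟩ := hne
    exact ⟨j, Finset.mem_filter.2 ⟨hj, hjn⟩⟩
  set j₀ := (J.filter fun j => β j ≠ β' j).min' hS with hj₀
  have hj₀mem := Finset.min'_mem _ hS
  rw [← hj₀, Finset.mem_filter] at hj₀mem
  have hlt : ∀ j ∈ J, j < j₀ → β j = β' j := by
    intro j hj hjlt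
    by_contra hcon
    have := Finset.min'_le (J.filter fun j => β j ≠ β' j) j (Finset.mem_filter.2 ⟨hj, hcon⟩)
    rw [← hj₀] at this
    omega
  have key := hsum j₀
  have hterm : ∀ j ∈ J, β j * (if j ≤ j₀ then Nat.choose (r + (j₀ - j).toNat) r else 0) =
      (if j = j₀ then β j₀ else 0) +
        (if j < j₀ then β' j * Nat.choose (r + (j₀ - j).toNat) r else 0) := by
    intro j hj
    rcases lt_trichotomy j j₀ with h | h | h
    · simp [h, h.le, h.ne, hlt j hj h]
    · subst h; simp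
    · simp [h.not_ge, h.not_gt, h.ne']
  have hterm' : ∀ j ∈ J, β' j * (if j ≤ j₀ then Nat.choose (r + (j₀ - j).toNat) r else 0) =
      (if j = j₀ then β' j₀ else 0) +
        (if j < j₀ then β' j * Nat.choose (r + (j₀ - j).toNat) r else 0) := by
    intro j hj
    rcases lt_trichotomy j j₀ with h | h | h
    · simp [h, h.le, h.ne]
    · subst h; simp
    · simp [h.not_ge, h.not_gt, h.ne']
  rw [Finset.sum_congr rfl hterm, Finset.sum_congr rfl hterm', Finset.sum_add_distrib,
    Finset.sum_add_distrib, Finset.sum_ite_eq' J j₀, Finset.sum_ite_eq' J j₀] at key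
  simp only [if_pos hj₀mem.1] at key
  exact hj₀mem.2 (by omega)


section PolyBetti
variable {k : Type u} [Field k] {r : ℕ}
variable {M : Type u} [AddCommGroup M] [Module k M] [Module (MvPolynomial (Fin (r + 1)) k) M]
  [IsScalarTower k (MvPolynomial (Fin (r + 1)) k) M]
  {ℳ : ℤ → Submodule k M} [DirectSum.Decomposition ℳ] [SetLike.GradedSMul (stdGr k (Fin (r + 1))) ℳ]

/-- Two minimal graded free resolutions of the same graded module over a polynomial ring over a
field have the same graded Betti numbers. -/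
theorem betti_eq_of_isMinimal (F F' : FreeRes (stdGr k (Fin (r + 1))) ℳ)
    (hF : F.IsMinimal (irrel (stdGr k (Fin (r + 1)))).toIdeal)
    (hF' : F'.IsMinimal (irrel (stdGr k (Fin (r + 1)))).toIdeal) (i : ℕ) (j : ℤ) :
    F.betti i j = F'.betti i j := by
  unfold FreeRes.betti
  apply card_fiber_eq_of_sum_eq r (F.deg i) (F'.deg i)
  intro d
  rw [← GrHilbert.finrank_strand F i d, ← GrHilbert.finrank_strand F' i d]
  exact finrank_strand_eq F F' hF hF' i d

end PolyBetti

end Groth.Agent.Lib.Helper77.GrCompare
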