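import Mathlib
import Groth.Prelude.Def_GrLC
import Groth.Agent.Lib.Helper77.GrCompare
import Groth.Agent.Lib.Helper77.GLC1

/-!
GLC2 (helper77): the comparison theorem for *injective resolutions (existence of lifts of graded
maps and uniqueness up to graded homotopy) and its consequences for the vanishing predicate `HV`:
independence of the resolution, invariance under graded retracts.
-/

set_option autoImplicit false
universe u

namespace Groth.Agent.Lib.Helper77.GLC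

open GrLC DirectSum

variable {ι : Type} [AddCommGroup ι] [DecidableEq ι] {R : Type u} [CommRing R]
variable {𝒜 : ι → AddSubgroup R} [GradedRing 𝒜]
variable {M : Type u} [AddCommGroup M] [Module R M] {ℳ : ι → AddSubgroup M} [Decomposition ℳ]
  [SetLike.GradedSMul 𝒜 ℳ]
variable {N : Type u} [AddCommGroup N] [Module R N] {𝒩 : ι → AddSubgroup N} [Decomposition 𝒩]
  [SetLike.GradedSMul 𝒜 𝒩]
variable {P : Type u} [AddCommGroup P] [Module R P] {𝒦 : ι → AddSubgroup P} [Decomposition 𝒦]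
  [SetLike.GradedSMul 𝒜 𝒦]

/-- a graded chain map between *injective resolutions lifting `f` -/
structure Lift (E : StarInjRes 𝒜 ℳ) (E' : StarInjRes 𝒜 𝒩) (f : M →ₗ[R] N) where
  φ : ∀ n, (E.X n).carrier →ₗ[R] (E'.X n).carrier
  gr : ∀ n, IsGrHom (E.X n).gr (E'.X n).gr (φ n)
  comm0 : φ 0 ∘ₗ E.ε = E'.ε ∘ₗ f
  comm : ∀ n, φ (n + 1) ∘ₗ E.d n = E'.d n ∘ₗ φ n

namespace Lift

variable {E : StarInjRes 𝒜 ℳ} {E' : StarInjRes 𝒜 𝒩} {E'' : StarInjRes 𝒜 𝒦}

theorem comm_apply {f : M →ₗ[R] N} (L : Lift E E' f) (n : ℕ) (x : (E.X n).carrier) :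
    L.φ (n + 1) (E.d n x) = E'.d n (L.φ n x) := LinearMap.congr_fun (L.comm n) x

theorem comm0_apply {f : M →ₗ[R] N} (L : Lift E E' f) (m : M) :
    L.φ 0 (E.ε m) = E'.ε (f m) := LinearMap.congr_fun L.comm0 m

/-- the identity lift -/
def refl (E : StarInjRes 𝒜 ℳ) : Lift E E LinearMap.id where
  φ _ := LinearMap.id
  gr _ := fun _ _ hm => hm
  comm0 := rfl
  comm _ := rfl

/-- composition of lifts -/
def comp {f : M →ₗ[R] N} {f' : N →ₗ[R] P} (L' : Lift E' E'' f') (L : Lift E E' f) :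
    Lift E E'' (f' ∘ₗ f) where
  φ n := L'.φ n ∘ₗ L.φ n
  gr n := fun g m hm => L'.gr n g _ (L.gr n g m hm)
  comm0 := by
    ext m
    change L'.φ 0 (L.φ 0 (E.ε m)) = E''.ε (f' (f m))
    rw [L.comm0_apply, L'.comm0_apply]
  comm n := by
    ext x
    change L'.φ (n + 1) (L.φ (n + 1) (E.d n x)) = E''.d n (L'.φ n (L.φ n x))
    rw [L.comm_apply, L'.comm_apply]

/-- change the lifted map along an equality -/
def congr {f f' : M →ₗ[R] N} (L : Lift E E' f) (h : f = f') : Lift E E' f' where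
  φ := L.φ
  gr := L.gr
  comm0 := by rw [← h]; exact L.comm0
  comm := L.comm

theorem map_gm {f : M →ₗ[R] N} (L : Lift E E' f) {a : Ideal R} {i : ℕ} {g : ι}
    {z : (E.X i).carrier} (hz : Gm E a i g z) : Gm E' a i g (L.φ i z) :=
  ⟨map_mem_gam (L.φ i) hz.1, L.gr i g z hz.2⟩

theorem map_isBd {f : M →ₗ[R] N} (L : Lift E E' f) {a : Ideal R} {i : ℕ} {g : ι}
    {z : (E.X i).carrier} (hz : IsBd E a i g z) : IsBd E' a i g (L.φ i z) := by
  cases i with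
  | zero =>
    change z = 0 at hz
    change L.φ 0 z = 0
    rw [hz, map_zero]
  | succ i =>
    obtain ⟨y, hy, rfl⟩ := hz
    exact ⟨L.φ i y, L.map_gm hy, (L.comm_apply i y).symm⟩

end Lift

section existence

variable (E : StarInjRes 𝒜 ℳ) (E' : StarInjRes 𝒜 𝒩) (f : M →ₗ[R] N)

/-- the invariant of the recursion constructing a lift -/
def LiftQ : ∀ n, ((E.X n).carrier →ₗ[R] (E'.X n).carrier) → Prop
  | 0, φ => IsGrHom (E.X 0).gr (E'.X 0).gr φ ∧ φ ∘ₗ E.ε = E'.ε ∘ₗ f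
  | (n + 1), φ => IsGrHom (E.X (n + 1)).gr (E'.X (n + 1)).gr φ ∧
      LinearMap.ker (E.d (n + 1)) ≤ LinearMap.ker (E'.d (n + 1) ∘ₗ φ)

variable {E E' f} in
theorem LiftQ.gr {n : ℕ} {φ : (E.X n).carrier →ₗ[R] (E'.X n).carrier} (h : LiftQ E E' f n φ) :
    IsGrHom (E.X n).gr (E'.X n).gr φ := by
  cases n with
  | zero => exact h.1
  | succ n => exact h.1

variable {E E' f} in
theorem LiftQ.ker {n : ℕ} {φ : (E.X n).carrier →ₗ[R] (E'.X n).carrier} (h : LiftQ E E' f n φ) :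
    LinearMap.ker (E.d n) ≤ LinearMap.ker (E'.d n ∘ₗ φ) := by
  cases n with
  | zero =>
    intro x hx
    rw [E.exact_zero] at hx
    obtain ⟨m, rfl⟩ := hx
    rw [LinearMap.mem_ker, LinearMap.comp_apply]
    have := LinearMap.congr_fun h.2 m
    change φ (E.ε m) = E'.ε (f m) at this
    rw [this, d_comp_ε]
  | succ n => exact h.2

theorem exists_lift (hf : IsGrHom ℳ 𝒩 f) : Nonempty (Lift E E' f) := by
  classical
  have h0 : ∃ φ, LiftQ E E' f 0 φ := by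
    obtain ⟨θ, hθ, hθc⟩ := exists_ext 𝒜 (A := GMod.of 𝒜 M ℳ) (B := E.X 0) (I := E'.X 0) E.ε
      E.ε_grHom (E'.ε ∘ₗ f) (fun g m hm => E'.ε_grHom g _ (hf g m hm)) (E'.starInj 0)
      (by
        intro x hx
        have : x = 0 := E.ε_injective ((LinearMap.mem_ker.1 hx).trans (map_zero _).symm)
        rw [this]; exact zero_mem _)
    exact ⟨θ, hθ, hθc⟩
  have hs : ∀ n φ, LiftQ E E' f n φ → ∃ ψ : (E.X (n + 1)).carrier →ₗ[R] (E'.X (n + 1)).carrier,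
      ψ ∘ₗ E.d n = E'.d n ∘ₗ φ ∧ LiftQ E E' f (n + 1) ψ := by
    intro n φ hφ
    obtain ⟨ψ, hψ, hψc⟩ := exists_ext 𝒜 (A := E.X n) (B := E.X (n + 1)) (I := E'.X (n + 1)) (E.d n)
      (E.d_grHom n) (E'.d n ∘ₗ φ) (fun g m hm => E'.d_grHom n g _ (hφ.gr g m hm))
      (E'.starInj (n + 1)) hφ.ker
    refine ⟨ψ, hψc, hψ, ?_⟩
    intro x hx
    rw [E.exact_succ] at hx
    obtain ⟨y, rfl⟩ := hx
    rw [LinearMap.mem_ker, LinearMap.comp_apply]
    have := LinearMap.congr_fun hψc y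
    change ψ (E.d n y) = E'.d n (φ y) at this
    rw [this, d_comp_d]
  obtain ⟨F, hF⟩ := GrCompare.exists_dep_seq (LiftQ E E' f)
    (fun n φ ψ => ψ ∘ₗ E.d n = E'.d n ∘ₗ φ) h0 hs
  exact ⟨{ φ := F
           gr := fun n => (hF n).1.gr
           comm0 := (hF 0).1.2
           comm := fun n => (hF n).2 }⟩

end existence

section homotopy

variable {E : StarInjRes 𝒜 ℳ} {E' : StarInjRes 𝒜 𝒩} {f : M →ₗ[R] N}

/-- a graded homotopy between two families of maps -/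
structure Htpy (E : StarInjRes 𝒜 ℳ) (E' : StarInjRes 𝒜 𝒩)
    (φ ψ : ∀ n, (E.X n).carrier →ₗ[R] (E'.X n).carrier) where
  h : ∀ n, (E.X (n + 1)).carrier →ₗ[R] (E'.X n).carrier
  gr : ∀ n, IsGrHom (E.X (n + 1)).gr (E'.X n).gr (h n)
  eq0 : φ 0 - ψ 0 = h 0 ∘ₗ E.d 0
  eq : ∀ n, φ (n + 1) - ψ (n + 1) = E'.d n ∘ₗ h n + h (n + 1) ∘ₗ E.d (n + 1)

/-- the invariant of the recursion constructing a homotopy -/
def HtpyQ (L₁ L₂ : Lift E E' f) : ∀ n, ((E.X (n + 1)).carrier →ₗ[R] (E'.X n).carrier) → Prop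
  | 0, h => IsGrHom (E.X 1).gr (E'.X 0).gr h ∧ L₁.φ 0 - L₂.φ 0 = h ∘ₗ E.d 0
  | (n + 1), h => IsGrHom (E.X (n + 2)).gr (E'.X (n + 1)).gr h ∧
      LinearMap.ker (E.d (n + 2)) ≤
        LinearMap.ker (L₁.φ (n + 2) - L₂.φ (n + 2) - E'.d (n + 1) ∘ₗ h)

theorem HtpyQ.gr {L₁ L₂ : Lift E E' f} {n : ℕ} {h : (E.X (n + 1)).carrier →ₗ[R] (E'.X n).carrier}
    (hh : HtpyQ L₁ L₂ n h) : IsGrHom (E.X (n + 1)).gr (E'.X n).gr h := by
  cases n with
  | zero => exact hh.1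
  | succ n => exact hh.1

theorem HtpyQ.ker {L₁ L₂ : Lift E E' f} {n : ℕ} {h : (E.X (n + 1)).carrier →ₗ[R] (E'.X n).carrier}
    (hh : HtpyQ L₁ L₂ n h) :
    LinearMap.ker (E.d (n + 1)) ≤
      LinearMap.ker (L₁.φ (n + 1) - L₂.φ (n + 1) - E'.d n ∘ₗ h) := by
  cases n with
  | zero =>
    intro x hx
    rw [E.exact_succ] at hx
    obtain ⟨y, rfl⟩ := hx
    rw [LinearMap.mem_ker]
    have h2 := LinearMap.congr_fun hh.2 y
    change L₁.φ 0 y - L₂.φ 0 y = h (E.d 0 y) at h2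
    change L₁.φ 1 (E.d 0 y) - L₂.φ 1 (E.d 0 y) - E'.d 0 (h (E.d 0 y)) = 0
    rw [L₁.comm_apply, L₂.comm_apply, ← h2, map_sub, sub_self]
  | succ n => exact hh.2

theorem exists_htpy (L₁ L₂ : Lift E E' f) : Nonempty (Htpy E E' L₁.φ L₂.φ) := by
  classical
  have h0 : ∃ h, HtpyQ L₁ L₂ 0 h := by
    obtain ⟨θ, hθ, hθc⟩ := exists_ext 𝒜 (A := E.X 0) (B := E.X 1) (I := E'.X 0) (E.d 0)
      (E.d_grHom 0) (L₁.φ 0 - L₂.φ 0)
      (fun g m hm => sub_mem (L₁.gr 0 g m hm) (L₂.gr 0 g m hm)) (E'.starInj 0)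
      (by
        intro x hx
        rw [E.exact_zero] at hx
        obtain ⟨m, rfl⟩ := hx
        rw [LinearMap.mem_ker, LinearMap.sub_apply, L₁.comm0_apply, L₂.comm0_apply, sub_self])
    exact ⟨θ, hθ, hθc.symm⟩
  have hs : ∀ n h, HtpyQ L₁ L₂ n h →
      ∃ h' : (E.X (n + 2)).carrier →ₗ[R] (E'.X (n + 1)).carrier,
        L₁.φ (n + 1) - L₂.φ (n + 1) = E'.d n ∘ₗ h + h' ∘ₗ E.d (n + 1) ∧
          HtpyQ L₁ L₂ (n + 1) h' := by
    intro n h hh
    obtain ⟨h', hh', hc⟩ := exists_ext 𝒜 (A := E.X (n + 1)) (B := E.X (n + 2)) (I := E'.X (n + 1))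
      (E.d (n + 1)) (E.d_grHom (n + 1)) (L₁.φ (n + 1) - L₂.φ (n + 1) - E'.d n ∘ₗ h)
      (fun g m hm => sub_mem (sub_mem (L₁.gr (n + 1) g m hm) (L₂.gr (n + 1) g m hm))
        (E'.d_grHom n g _ (hh.gr g m hm))) (E'.starInj (n + 1)) hh.ker
    refine ⟨h', ?_, hh', ?_⟩
    · rw [hc]; abel
    · intro x hx
      rw [E.exact_succ] at hx
      obtain ⟨y, rfl⟩ := hx
      rw [LinearMap.mem_ker]
      have h2 := LinearMap.congr_fun hc y
      change h' (E.d (n + 1) y) = L₁.φ (n + 1) y - L₂.φ (n + 1) y - E'.d n (h y) at h2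
      change L₁.φ (n + 2) (E.d (n + 1) y) - L₂.φ (n + 2) (E.d (n + 1) y) -
        E'.d (n + 1) (h' (E.d (n + 1) y)) = 0
      rw [L₁.comm_apply, L₂.comm_apply, h2, map_sub, map_sub, d_comp_d]
      abel
  obtain ⟨F, hF⟩ := GrCompare.exists_dep_seq (HtpyQ L₁ L₂)
    (fun n h h' => L₁.φ (n + 1) - L₂.φ (n + 1) = E'.d n ∘ₗ h + h' ∘ₗ E.d (n + 1)) h0 hs
  exact ⟨{ h := F
           gr := fun n => (hF n).1.gr
           eq0 := (hF 0).1.2
           eq := fun n => (hF n).2 }⟩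

/-- two lifts of the same map differ by a coboundary on cocycles of `Γ_a(E^•)_g`. -/
theorem isBd_sub_of_lifts (L₁ L₂ : Lift E E' f) {a : Ideal R} {i : ℕ} {g : ι}
    {z : (E.X i).carrier} (hz : Gm E a i g z) (hdz : E.d i z = 0) :
    IsBd E' a i g (L₁.φ i z - L₂.φ i z) := by
  obtain ⟨H⟩ := exists_htpy L₁ L₂
  cases i with
  | zero =>
    have h2 := LinearMap.congr_fun H.eq0 z
    change L₁.φ 0 z - L₂.φ 0 z = H.h 0 (E.d 0 z) at h2
    change L₁.φ 0 z - L₂.φ 0 z = 0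
    rw [h2, hdz, map_zero]
  | succ i =>
    have h2 := LinearMap.congr_fun (H.eq i) z
    change L₁.φ (i + 1) z - L₂.φ (i + 1) z = E'.d i (H.h i z) + H.h (i + 1) (E.d (i + 1) z) at h2
    rw [hdz, map_zero, add_zero] at h2
    exact ⟨H.h i z, ⟨map_mem_gam (H.h i) hz.1, H.gr i g z hz.2⟩, h2.symm⟩

end homotopy

section consequences

/-- graded local cohomology of a graded retract vanishes where that of the ambient module does. -/
theorem HV_of_retract (E : StarInjRes 𝒜 ℳ) (E' : StarInjRes 𝒜 𝒩) (f : M →ₗ[R] N)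
    (hf : IsGrHom ℳ 𝒩 f) (f' : N →ₗ[R] M) (hf' : IsGrHom 𝒩 ℳ f') (hff : f' ∘ₗ f = LinearMap.id)
    {a : Ideal R} {i : ℕ} {g : ι} (h : HV E' a i g) : HV E a i g := by
  obtain ⟨L⟩ := exists_lift E E' f hf
  obtain ⟨L'⟩ := exists_lift E' E f' hf'
  intro z hz hdz
  have h1 : IsBd E' a i g (L.φ i z) := by
    refine h _ (L.map_gm hz) ?_
    rw [← L.comm_apply, hdz, map_zero]
  have h2 : IsBd E a i g (L'.φ i (L.φ i z)) := L'.map_isBd h1
  have h3 := isBd_sub_of_lifts ((L'.comp L).congr hff) (Lift.refl E) hz hdz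
  change IsBd E a i g (L'.φ i (L.φ i z) - z) at h3
  have := h2.sub h3
  rwa [sub_sub_cancel] at this

/-- independence of the resolution -/
theorem HV_iff_of_res (E E' : StarInjRes 𝒜 ℳ) {a : Ideal R} {i : ℕ} {g : ι} :
    HV E a i g ↔ HV E' a i g :=
  ⟨HV_of_retract E' E LinearMap.id (fun _ _ h => h) LinearMap.id (fun _ _ h => h) rfl,
    HV_of_retract E E' LinearMap.id (fun _ _ h => h) LinearMap.id (fun _ _ h => h) rfl⟩

/-- invariance under graded isomorphisms -/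
theorem HV_iff_of_equiv (E : StarInjRes 𝒜 ℳ) (E' : StarInjRes 𝒜 𝒩) (e : M ≃ₗ[R] N)
    (he : IsGrHom ℳ 𝒩 e.toLinearMap) (he' : IsGrHom 𝒩 ℳ e.symm.toLinearMap)
    {a : Ideal R} {i : ℕ} {g : ι} : HV E a i g ↔ HV E' a i g :=
  ⟨HV_of_retract E' E e.symm.toLinearMap he' e.toLinearMap he
      (by ext x; exact e.apply_symm_apply x),
    HV_of_retract E E' e.toLinearMap he e.symm.toLinearMap he'
      (by ext x; exact e.symm_apply_apply x)⟩

end consequences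

end Groth.Agent.Lib.Helper77.GLC
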