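import Mathlib
import Groth.Prelude.Def_GrLC
import Groth.Agent.Lib.Helper77.GLC2

/-!
GLC3 (helper77): the graded horseshoe lemma for *injective resolutions and the resulting
long exact sequence of graded local cohomology, in the form of vanishing / injectivity statements
for the predicate `HV`, valid for arbitrary *injective resolutions of the three modules.
-/

set_option autoImplicit false
set_option linter.unusedSectionVars false
universe u

namespace Groth.Agent.Lib.Helper77.GLC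

open GrLC DirectSum

variable {ι : Type} [AddCommGroup ι] [DecidableEq ι] {R : Type u} [CommRing R]
variable {𝒜 : ι → AddSubgroup R} [GradedRing 𝒜]

section prodAPI

variable (X Y : GMod.{u} 𝒜)

/-- first projection of the product graded module -/
noncomputable def pfst : (prodGMod 𝒜 X Y).carrier →ₗ[R] X.carrier := LinearMap.fst R X.carrier Y.carrier

/-- second projection -/
noncomputable def psnd : (prodGMod 𝒜 X Y).carrier →ₗ[R] Y.carrier := LinearMap.snd R X.carrier Y.carrier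

variable {X Y}

/-- pairing of maps into the product graded module -/
noncomputable def ppair {A : Type u} [AddCommGroup A] [Module R A] (u : A →ₗ[R] X.carrier) (v : A →ₗ[R] Y.carrier) :
    A →ₗ[R] (prodGMod 𝒜 X Y).carrier := LinearMap.prod u v

@[simp] theorem pfst_ppair {A : Type u} [AddCommGroup A] [Module R A] (u : A →ₗ[R] X.carrier)
    (v : A →ₗ[R] Y.carrier) (a : A) : pfst X Y (ppair u v a) = u a := rfl

@[simp] theorem psnd_ppair {A : Type u} [AddCommGroup A] [Module R A] (u : A →ₗ[R] X.carrier)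
    (v : A →ₗ[R] Y.carrier) (a : A) : psnd X Y (ppair u v a) = v a := rfl

/-- an element of the product graded module -/
noncomputable def pmk (x : X.carrier) (y : Y.carrier) : (prodGMod 𝒜 X Y).carrier := (x, y)

@[simp] theorem pfst_pmk (x : X.carrier) (y : Y.carrier) : pfst X Y (pmk x y) = x := rfl

@[simp] theorem psnd_pmk (x : X.carrier) (y : Y.carrier) : psnd X Y (pmk x y) = y := rfl

theorem pext {z w : (prodGMod 𝒜 X Y).carrier} (h1 : pfst X Y z = pfst X Y w)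
    (h2 : psnd X Y z = psnd X Y w) : z = w := Prod.ext h1 h2

theorem mem_gr_prod {g : ι} {z : (prodGMod 𝒜 X Y).carrier} :
    z ∈ (prodGMod 𝒜 X Y).gr g ↔ pfst X Y z ∈ X.gr g ∧ psnd X Y z ∈ Y.gr g :=
  mem_prodGr 𝒜 X Y

theorem mem_gam_prod {a : Ideal R} {z : (prodGMod 𝒜 X Y).carrier} :
    z ∈ gam a (prodGMod 𝒜 X Y).carrier ↔
      pfst X Y z ∈ gam a X.carrier ∧ psnd X Y z ∈ gam a Y.carrier := by
  constructor
  · intro h
    exact ⟨map_mem_gam (pfst X Y) h, map_mem_gam (psnd X Y) h⟩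
  · rintro ⟨⟨n, hn⟩, ⟨m, hm⟩⟩
    refine ⟨n + m, fun r hr => ?_⟩
    apply pext
    · rw [map_smul, hn r (Ideal.pow_le_pow_right (Nat.le_add_right n m) hr), map_zero]
    · rw [map_smul, hm r (Ideal.pow_le_pow_right (Nat.le_add_left m n) hr), map_zero]

end prodAPI

section horseshoe

variable {M' : Type u} [AddCommGroup M'] [Module R M'] {ℳ' : ι → AddSubgroup M'} [Decomposition ℳ']
  [SetLike.GradedSMul 𝒜 ℳ']
variable {M : Type u} [AddCommGroup M] [Module R M] {ℳ : ι → AddSubgroup M} [Decomposition ℳ]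
  [SetLike.GradedSMul 𝒜 ℳ]
variable {M'' : Type u} [AddCommGroup M''] [Module R M''] {ℳ'' : ι → AddSubgroup M''}
  [Decomposition ℳ''] [SetLike.GradedSMul 𝒜 ℳ'']

/-- the data of a graded short exact sequence `0 → M' → M → M'' → 0` -/
structure GSES (ℳ' : ι → AddSubgroup M') (ℳ : ι → AddSubgroup M) (ℳ'' : ι → AddSubgroup M'')
    (f : M' →ₗ[R] M) (p : M →ₗ[R] M'') : Prop where
  f_gr : IsGrHom ℳ' ℳ f
  p_gr : IsGrHom ℳ ℳ'' p
  f_inj : Function.Injective f
  p_surj : Function.Surjective p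
  exact : LinearMap.ker p = LinearMap.range f

/-- the twisting data of the horseshoe resolution -/
structure Horse (ℳ : ι → AddSubgroup M) (E' : StarInjRes 𝒜 ℳ') (E'' : StarInjRes 𝒜 ℳ'') (f : M' →ₗ[R] M)
    (p : M →ₗ[R] M'') where
  α : M →ₗ[R] (E'.X 0).carrier
  α_gr : IsGrHom ℳ (E'.X 0).gr α
  α_f : α ∘ₗ f = E'.ε
  θ : ∀ n, (E''.X n).carrier →ₗ[R] (E'.X (n + 1)).carrier
  θ_gr : ∀ n, IsGrHom (E''.X n).gr (E'.X (n + 1)).gr (θ n)
  θ_zero : θ 0 ∘ₗ E''.ε ∘ₗ p = -(E'.d 0 ∘ₗ α)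
  θ_succ : ∀ n, E'.d (n + 1) ∘ₗ θ n + θ (n + 1) ∘ₗ E''.d n = 0

variable {f : M' →ₗ[R] M} {p : M →ₗ[R] M''}

/-- the invariant of the recursion constructing the twisting maps -/
def HorseQ (E' : StarInjRes 𝒜 ℳ') (E'' : StarInjRes 𝒜 ℳ'') (p : M →ₗ[R] M'')
    (α : M →ₗ[R] (E'.X 0).carrier) :
    ∀ n, ((E''.X n).carrier →ₗ[R] (E'.X (n + 1)).carrier) → Prop
  | 0, θ => IsGrHom (E''.X 0).gr (E'.X 1).gr θ ∧ θ ∘ₗ E''.ε ∘ₗ p = -(E'.d 0 ∘ₗ α)
  | (n + 1), θ => IsGrHom (E''.X (n + 1)).gr (E'.X (n + 2)).gr θ ∧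
      LinearMap.ker (E''.d (n + 1)) ≤ LinearMap.ker (E'.d (n + 2) ∘ₗ θ)

theorem HorseQ.gr {E' : StarInjRes 𝒜 ℳ'} {E'' : StarInjRes 𝒜 ℳ''} {α : M →ₗ[R] (E'.X 0).carrier}
    {n : ℕ} {θ : (E''.X n).carrier →ₗ[R] (E'.X (n + 1)).carrier} (h : HorseQ E' E'' p α n θ) :
    IsGrHom (E''.X n).gr (E'.X (n + 1)).gr θ := by
  cases n with
  | zero => exact h.1
  | succ n => exact h.1

theorem HorseQ.ker {E' : StarInjRes 𝒜 ℳ'} {E'' : StarInjRes 𝒜 ℳ''} {α : M →ₗ[R] (E'.X 0).carrier}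
    (hp : Function.Surjective p)
    {n : ℕ} {θ : (E''.X n).carrier →ₗ[R] (E'.X (n + 1)).carrier} (h : HorseQ E' E'' p α n θ) :
    LinearMap.ker (E''.d n) ≤ LinearMap.ker (E'.d (n + 1) ∘ₗ θ) := by
  cases n with
  | zero =>
    intro x hx
    rw [E''.exact_zero] at hx
    obtain ⟨m'', rfl⟩ := hx
    obtain ⟨m, rfl⟩ := hp m''
    rw [LinearMap.mem_ker, LinearMap.comp_apply]
    have := LinearMap.congr_fun h.2 m
    change θ (E''.ε (p m)) = -(E'.d 0 (α m)) at this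
    rw [this, map_neg, d_comp_d, neg_zero]
  | succ n => exact h.2

theorem exists_horse (E' : StarInjRes 𝒜 ℳ') (E'' : StarInjRes 𝒜 ℳ'')
    (hS : GSES ℳ' ℳ ℳ'' f p) : Nonempty (Horse ℳ E' E'' f p) := by
  classical
  obtain ⟨α, hα, hαf⟩ := exists_ext' 𝒜 (𝒜A := ℳ') (𝒜B := ℳ) (I := E'.X 0) f
    hS.f_gr E'.ε E'.ε_grHom (E'.starInj 0)
    (by
      intro x hx
      have : x = 0 := hS.f_inj ((LinearMap.mem_ker.1 hx).trans (map_zero _).symm)
      rw [this]; exact zero_mem _)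
  have hαf' : ∀ m', α (f m') = E'.ε m' := fun m' => LinearMap.congr_fun hαf m'
  obtain ⟨β, hβ, hβp⟩ := exists_ext' 𝒜 (𝒜A := ℳ) (𝒜B := ℳ'') (I := E'.X 1) p
    hS.p_gr (-(E'.d 0 ∘ₗ α)) (fun g m hm => neg_mem (E'.d_grHom 0 g _ (hα g m hm))) (E'.starInj 1)
    (by
      intro x hx
      rw [hS.exact] at hx
      obtain ⟨m', rfl⟩ := hx
      rw [LinearMap.mem_ker]
      change -(E'.d 0 (α (f m'))) = 0
      rw [hαf', d_comp_ε, neg_zero])
  have h0 : ∃ θ, HorseQ E' E'' p α 0 θ := by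
    obtain ⟨θ, hθ, hθc⟩ := exists_ext' 𝒜 (𝒜A := ℳ'') (𝒜B := (E''.X 0).gr) (I := E'.X 1) E''.ε
      E''.ε_grHom β hβ (E'.starInj 1)
      (by
        intro x hx
        have : x = 0 := E''.ε_injective ((LinearMap.mem_ker.1 hx).trans (map_zero _).symm)
        rw [this]; exact zero_mem _)
    refine ⟨θ, hθ, ?_⟩
    rw [← LinearMap.comp_assoc, hθc]
    exact hβp
  have hs : ∀ n θ, HorseQ E' E'' p α n θ →
      ∃ θ' : (E''.X (n + 1)).carrier →ₗ[R] (E'.X (n + 2)).carrier,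
        E'.d (n + 1) ∘ₗ θ + θ' ∘ₗ E''.d n = 0 ∧ HorseQ E' E'' p α (n + 1) θ' := by
    intro n θ hθ
    obtain ⟨θ', hθ', hc⟩ := exists_ext 𝒜 (A := E''.X n) (B := E''.X (n + 1)) (I := E'.X (n + 2))
      (E''.d n) (E''.d_grHom n) (-(E'.d (n + 1) ∘ₗ θ))
      (fun g m hm => neg_mem (E'.d_grHom (n + 1) g _ (hθ.gr g m hm))) (E'.starInj (n + 2))
      (by
        intro x hx
        have := hθ.ker hS.p_surj hx
        rw [LinearMap.mem_ker] at this ⊢
        rw [LinearMap.neg_apply, this, neg_zero])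
    refine ⟨θ', ?_, hθ', ?_⟩
    · rw [hc]; exact add_neg_cancel _
    · intro x hx
      rw [E''.exact_succ] at hx
      obtain ⟨y, rfl⟩ := hx
      rw [LinearMap.mem_ker, LinearMap.comp_apply]
      have := LinearMap.congr_fun hc y
      change θ' (E''.d n y) = -(E'.d (n + 1) (θ y)) at this
      rw [this, map_neg, d_comp_d, neg_zero]
  obtain ⟨F, hF⟩ := GrCompare.exists_dep_seq (HorseQ E' E'' p α)
    (fun n θ θ' => E'.d (n + 1) ∘ₗ θ + θ' ∘ₗ E''.d n = 0) h0 hs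
  exact ⟨{ α := α
           α_gr := hα
           α_f := hαf
           θ := F
           θ_gr := fun n => (hF n).1.gr
           θ_zero := (hF 0).1.2
           θ_succ := fun n => (hF n).2 }⟩

namespace Horse

variable {E' : StarInjRes 𝒜 ℳ'} {E'' : StarInjRes 𝒜 ℳ''} (H : Horse ℳ E' E'' f p)

theorem α_f_apply (m' : M') : H.α (f m') = E'.ε m' := LinearMap.congr_fun H.α_f m'

theorem θ_zero_apply (m : M) : H.θ 0 (E''.ε (p m)) = -(E'.d 0 (H.α m)) :=
  LinearMap.congr_fun H.θ_zero m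

theorem θ_succ_apply (n : ℕ) (y : (E''.X n).carrier) :
    E'.d (n + 1) (H.θ n y) = -(H.θ (n + 1) (E''.d n y)) := by
  have := LinearMap.congr_fun (H.θ_succ n) y
  change E'.d (n + 1) (H.θ n y) + H.θ (n + 1) (E''.d n y) = 0 at this
  exact eq_neg_of_add_eq_zero_left this

/-- the differential of the horseshoe resolution -/
noncomputable def dd (n : ℕ) : (prodGMod 𝒜 (E'.X n) (E''.X n)).carrier →ₗ[R]
    (prodGMod 𝒜 (E'.X (n + 1)) (E''.X (n + 1))).carrier :=
  ppair (E'.d n ∘ₗ pfst _ _ + H.θ n ∘ₗ psnd _ _) (E''.d n ∘ₗ psnd _ _)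

/-- the augmentation of the horseshoe resolution -/
noncomputable def ee : M →ₗ[R] (prodGMod 𝒜 (E'.X 0) (E''.X 0)).carrier :=
  ppair H.α (E''.ε ∘ₗ p)

@[simp] theorem pfst_dd (n : ℕ) (z : (prodGMod 𝒜 (E'.X n) (E''.X n)).carrier) :
    pfst _ _ (H.dd n z) = E'.d n (pfst _ _ z) + H.θ n (psnd _ _ z) := rfl

@[simp] theorem psnd_dd (n : ℕ) (z : (prodGMod 𝒜 (E'.X n) (E''.X n)).carrier) :
    psnd _ _ (H.dd n z) = E''.d n (psnd _ _ z) := rfl

@[simp] theorem pfst_ee (m : M) : pfst _ _ (H.ee m) = H.α m := rfl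

@[simp] theorem psnd_ee (m : M) : psnd _ _ (H.ee m) = E''.ε (p m) := rfl

/-- the horseshoe resolution of the middle term -/
noncomputable def res (hS : GSES ℳ' ℳ ℳ'' f p) : StarInjRes 𝒜 ℳ where
  X n := prodGMod 𝒜 (E'.X n) (E''.X n)
  d := H.dd
  ε := H.ee
  d_grHom n := by
    intro g z hz
    rw [mem_gr_prod] at hz ⊢
    refine ⟨?_, ?_⟩
    · rw [pfst_dd]
      exact add_mem (E'.d_grHom n g _ hz.1) (H.θ_gr n g _ hz.2)
    · rw [psnd_dd]
      exact E''.d_grHom n g _ hz.2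
  ε_grHom := by
    intro g m hm
    rw [mem_gr_prod]
    exact ⟨H.α_gr g m hm, E''.ε_grHom g _ (hS.p_gr g m hm)⟩
  ε_injective := by
    intro m₁ m₂ h
    rw [← sub_eq_zero] at h ⊢
    rw [← map_sub] at h
    generalize m₁ - m₂ = m at h
    have h2 : E''.ε (p m) = 0 := by rw [← psnd_ee H, h, map_zero]
    have h3 : p m = 0 := E''.ε_injective (h2.trans (map_zero _).symm)
    have h4 : m ∈ LinearMap.range f := by rw [← hS.exact]; exact h3
    obtain ⟨m', rfl⟩ := h4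
    have h5 : E'.ε m' = 0 := by rw [← H.α_f_apply, ← pfst_ee H, h, map_zero]
    have h6 : m' = 0 := E'.ε_injective (h5.trans (map_zero _).symm)
    rw [h6, map_zero]
  exact_zero := by
    apply le_antisymm
    · intro z hz
      rw [LinearMap.mem_ker] at hz
      have h1 : E''.d 0 (psnd _ _ z) = 0 := by rw [← psnd_dd H, hz, map_zero]
      have h2 : psnd _ _ z ∈ LinearMap.range E''.ε := by rw [← E''.exact_zero]; exact h1
      obtain ⟨m'', hm''⟩ := h2
      obtain ⟨m, rfl⟩ := hS.p_surj m''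
      have h3 : E'.d 0 (pfst _ _ z) + H.θ 0 (psnd _ _ z) = 0 := by rw [← pfst_dd H, hz, map_zero]
      rw [← hm'', H.θ_zero_apply, ← sub_eq_add_neg, ← map_sub] at h3
      have h4 : pfst _ _ z - H.α m ∈ LinearMap.range E'.ε := by rw [← E'.exact_zero]; exact h3
      obtain ⟨m', hm'⟩ := h4
      refine ⟨m + f m', ?_⟩
      apply pext
      · rw [pfst_ee, map_add, H.α_f_apply, hm']; abel
      · rw [psnd_ee, map_add]
        have : p (f m') = 0 := by
          have : f m' ∈ LinearMap.ker p := by rw [hS.exact]; exact ⟨m', rfl⟩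
          exact this
        rw [this, add_zero, hm'']
    · rintro _ ⟨m, rfl⟩
      rw [LinearMap.mem_ker]
      apply pext
      · rw [pfst_dd, pfst_ee, psnd_ee, H.θ_zero_apply, add_neg_cancel, map_zero]
      · rw [psnd_dd, psnd_ee, d_comp_ε, map_zero]
  exact_succ n := by
    apply le_antisymm
    · intro z hz
      rw [LinearMap.mem_ker] at hz
      have h1 : E''.d (n + 1) (psnd _ _ z) = 0 := by rw [← psnd_dd H, hz, map_zero]
      have h2 : psnd _ _ z ∈ LinearMap.range (E''.d n) := by rw [← E''.exact_succ]; exact h1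
      obtain ⟨y'', hy''⟩ := h2
      have h3 : E'.d (n + 1) (pfst _ _ z) + H.θ (n + 1) (psnd _ _ z) = 0 := by
        rw [← pfst_dd H, hz, map_zero]
      have h4 : E'.d (n + 1) (pfst _ _ z - H.θ n y'') = 0 := by
        rw [map_sub, H.θ_succ_apply, hy'', sub_neg_eq_add, h3]
      have h5 : pfst _ _ z - H.θ n y'' ∈ LinearMap.range (E'.d n) := by
        rw [← E'.exact_succ]; exact h4
      obtain ⟨y', hy'⟩ := h5
      refine ⟨pmk y' y'', ?_⟩
      apply pext
      · rw [pfst_dd, pfst_pmk, psnd_pmk, hy']; abel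
      · rw [psnd_dd, psnd_pmk]
        exact hy''
    · rintro _ ⟨z, rfl⟩
      rw [LinearMap.mem_ker]
      apply pext
      · rw [pfst_dd, pfst_dd, psnd_dd, map_add, d_comp_d, zero_add, H.θ_succ_apply,
          neg_add_cancel, map_zero]
      · rw [psnd_dd, psnd_dd, d_comp_d, map_zero]
  starInj n := isStarInj_prod 𝒜 _ _ (E'.starInj n) (E''.starInj n)

end Horse

namespace Horse

variable {E' : StarInjRes 𝒜 ℳ'} {E'' : StarInjRes 𝒜 ℳ''} (H : Horse ℳ E' E'' f p)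
  (hS : GSES ℳ' ℳ ℳ'' f p)

theorem gm_res_iff {a : Ideal R} {i : ℕ} {g : ι} {z : ((H.res hS).X i).carrier} :
    Gm (H.res hS) a i g z ↔ Gm E' a i g (pfst _ _ z) ∧ Gm E'' a i g (psnd _ _ z) := by
  constructor
  · rintro ⟨h1, h2⟩
    exact ⟨⟨(mem_gam_prod.1 h1).1, (mem_gr_prod.1 h2).1⟩,
      ⟨(mem_gam_prod.1 h1).2, (mem_gr_prod.1 h2).2⟩⟩
  · rintro ⟨⟨h1, h2⟩, ⟨h3, h4⟩⟩
    exact ⟨mem_gam_prod.2 ⟨h1, h3⟩, mem_gr_prod.2 ⟨h2, h4⟩⟩

theorem res_d (i : ℕ) (z : ((H.res hS).X i).carrier) : (H.res hS).d i z = H.dd i z := rfl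

/-- the inclusion of `E'` into the horseshoe resolution, a lift of `f` -/
noncomputable def inl : Lift E' (H.res hS) f where
  φ n := ppair LinearMap.id 0
  gr n := by
    intro g x hx
    refine mem_gr_prod.2 ?_
    exact ⟨hx, zero_mem _⟩
  comm0 := by
    ext m'
    apply pext
    · change E'.ε m' = H.α (f m')
      rw [H.α_f_apply]
    · change (0 : (E''.X 0).carrier) = E''.ε (p (f m'))
      have : p (f m') = 0 := by
        have : f m' ∈ LinearMap.ker p := by rw [hS.exact]; exact ⟨m', rfl⟩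
        exact this
      rw [this, map_zero]
  comm n := by
    ext x
    apply pext
    · change E'.d n x = E'.d n x + H.θ n 0
      rw [map_zero, add_zero]
    · change (0 : (E''.X (n + 1)).carrier) = E''.d n 0
      rw [map_zero]

theorem pfst_inl (n : ℕ) (x : (E'.X n).carrier) : pfst _ _ ((H.inl hS).φ n x) = x := rfl

theorem psnd_inl (n : ℕ) (x : (E'.X n).carrier) : psnd _ _ ((H.inl hS).φ n x) = 0 := rfl

/-- `H^i(M')_g = 0` and `H^i(M'')_g = 0` imply `H^i(M)_g = 0` (horseshoe resolution). -/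
theorem HV_mid {a : Ideal R} {i : ℕ} {g : ι} (h' : HV E' a i g) (h'' : HV E'' a i g) :
    HV (H.res hS) a i g := by
  intro z hz hdz
  rw [gm_res_iff] at hz
  have hdz : H.dd i z = (0 : (prodGMod 𝒜 (E'.X (i + 1)) (E''.X (i + 1))).carrier) := hdz
  have hd2 : E''.d i (psnd _ _ z) = 0 := by rw [← psnd_dd H, hdz, map_zero]
  have hd1 : E'.d i (pfst _ _ z) + H.θ i (psnd _ _ z) = 0 := by rw [← pfst_dd H, hdz, map_zero]
  have hb2 := h'' _ hz.2 hd2
  cases i with
  | zero =>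
    change psnd _ _ z = 0 at hb2
    rw [hb2, map_zero, add_zero] at hd1
    have hb1 := h' _ hz.1 hd1
    change pfst _ _ z = 0 at hb1
    change z = (0 : (prodGMod 𝒜 (E'.X 0) (E''.X 0)).carrier)
    apply pext
    · rw [hb1, map_zero]
    · rw [hb2, map_zero]
  | succ i =>
    obtain ⟨u'', hu'', hdu''⟩ := hb2
    have ht : Gm E' a (i + 1) g (pfst _ _ z - H.θ i u'') :=
      hz.1.sub ⟨map_mem_gam (H.θ i) hu''.1, H.θ_gr i g _ hu''.2⟩
    have hdt : E'.d (i + 1) (pfst _ _ z - H.θ i u'') = 0 := by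
      rw [map_sub, H.θ_succ_apply, hdu'', sub_neg_eq_add, hd1]
    obtain ⟨u', hu', hdu'⟩ := h' _ ht hdt
    refine ⟨pmk u' u'', (gm_res_iff H hS).2 ⟨hu', hu''⟩, ?_⟩
    change H.dd i (pmk u' u'') = z
    apply pext
    · rw [pfst_dd, pfst_pmk, psnd_pmk, hdu']; abel
    · rw [psnd_dd, psnd_pmk, hdu'']

/-- `H^i(M)_g = 0` and `H^{i+1}(M')_g = 0` imply `H^i(M'')_g = 0` (horseshoe resolution). -/
theorem HV_right {a : Ideal R} {i : ℕ} {g : ι} (h : HV (H.res hS) a i g) (h' : HV E' a (i + 1) g) :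
    HV E'' a i g := by
  intro z'' hz'' hdz''
  have ht : Gm E' a (i + 1) g (H.θ i z'') := ⟨map_mem_gam (H.θ i) hz''.1, H.θ_gr i g _ hz''.2⟩
  have hdt : E'.d (i + 1) (H.θ i z'') = 0 := by rw [H.θ_succ_apply, hdz'', map_zero, neg_zero]
  obtain ⟨u', hu', hdu'⟩ := h' _ ht hdt
  have hw : Gm (H.res hS) a i g (pmk (-u') z'') := (gm_res_iff H hS).2 ⟨hu'.neg, hz''⟩
  have hdw0 : H.dd i (pmk (-u') z'') =
      (0 : (prodGMod 𝒜 (E'.X (i + 1)) (E''.X (i + 1))).carrier) := by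
    apply pext
    · rw [pfst_dd, pfst_pmk, psnd_pmk, map_neg, hdu', neg_add_cancel, map_zero]
    · rw [psnd_dd, psnd_pmk, hdz'', map_zero]
  have hdw : (H.res hS).d i (pmk (-u') z'') = 0 := hdw0
  have hb := h _ hw hdw
  cases i with
  | zero =>
    have hb0 : pmk (-u') z'' = (0 : (prodGMod 𝒜 (E'.X 0) (E''.X 0)).carrier) := hb
    change z'' = 0
    have := congrArg (psnd _ _) hb0
    rwa [psnd_pmk, map_zero] at this
  | succ i =>
    obtain ⟨v, hv, hdv⟩ := hb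
    rw [gm_res_iff] at hv
    refine ⟨psnd _ _ v, hv.2, ?_⟩
    have hdv0 : H.dd i v = pmk (-u') z'' := hdv
    rw [← psnd_dd H, hdv0, psnd_pmk]

/-- if `H^i(M'')_g = 0` then `H^{i+1}(M')_g → H^{i+1}(M)_g` is injective (horseshoe resolution). -/
theorem isBd_of_inl {a : Ideal R} {i : ℕ} {g : ι} (h'' : HV E'' a i g)
    {z' : (E'.X (i + 1)).carrier}
    (hb : IsBd (H.res hS) a (i + 1) g ((H.inl hS).φ (i + 1) z')) : IsBd E' a (i + 1) g z' := by
  obtain ⟨v, hv, hdv⟩ := hb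
  rw [gm_res_iff] at hv
  have hdv : H.dd i v = (H.inl hS).φ (i + 1) z' := hdv
  have hd2 : E''.d i (psnd _ _ v) = 0 := by rw [← psnd_dd H, hdv, psnd_inl]
  have hd1 : E'.d i (pfst _ _ v) + H.θ i (psnd _ _ v) = z' := by rw [← pfst_dd H, hdv, pfst_inl]
  have hb2 := h'' _ hv.2 hd2
  cases i with
  | zero =>
    change psnd _ _ v = 0 at hb2
    rw [hb2, map_zero, add_zero] at hd1
    exact ⟨pfst _ _ v, hv.1, hd1⟩
  | succ i =>
    obtain ⟨u'', hu'', hdu''⟩ := hb2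
    refine ⟨pfst _ _ v - H.θ i u'', hv.1.sub ⟨map_mem_gam (H.θ i) hu''.1, H.θ_gr i g _ hu''.2⟩, ?_⟩
    rw [map_sub, H.θ_succ_apply, hdu'', sub_neg_eq_add, hd1]

end Horse

end horseshoe

section LES

variable {M' : Type u} [AddCommGroup M'] [Module R M'] {ℳ' : ι → AddSubgroup M'} [Decomposition ℳ']
  [SetLike.GradedSMul 𝒜 ℳ']
variable {M : Type u} [AddCommGroup M] [Module R M] {ℳ : ι → AddSubgroup M} [Decomposition ℳ]
  [SetLike.GradedSMul 𝒜 ℳ]
variable {M'' : Type u} [AddCommGroup M''] [Module R M''] {ℳ'' : ι → AddSubgroup M''}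
  [Decomposition ℳ''] [SetLike.GradedSMul 𝒜 ℳ'']
variable {f : M' →ₗ[R] M} {p : M →ₗ[R] M''} (hS : GSES ℳ' ℳ ℳ'' f p)
  (E' : StarInjRes 𝒜 ℳ') (E : StarInjRes 𝒜 ℳ) (E'' : StarInjRes 𝒜 ℳ'')

include hS

/-- LES: `H^i(M')_g = 0` and `H^i(M'')_g = 0` imply `H^i(M)_g = 0`. -/
theorem HV_mid {a : Ideal R} {i : ℕ} {g : ι} (h' : HV E' a i g) (h'' : HV E'' a i g) :
    HV E a i g := by
  obtain ⟨H⟩ := exists_horse E' E'' hS
  exact (HV_iff_of_res (H.res hS) E).1 (H.HV_mid hS h' h'')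

/-- LES: `H^i(M)_g = 0` and `H^{i+1}(M')_g = 0` imply `H^i(M'')_g = 0`. -/
theorem HV_right {a : Ideal R} {i : ℕ} {g : ι} (h : HV E a i g) (h' : HV E' a (i + 1) g) :
    HV E'' a i g := by
  obtain ⟨H⟩ := exists_horse E' E'' hS
  exact H.HV_right hS ((HV_iff_of_res (H.res hS) E).2 h) h'

/-- LES: if `H^i(M'')_g = 0` then `H^{i+1}(M')_g → H^{i+1}(M)_g` is injective, for the map induced
by any lift of `f`. -/
theorem isBd_of_lift {a : Ideal R} {i : ℕ} {g : ι} (h'' : HV E'' a i g) (L : Lift E' E f)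
    {z' : (E'.X (i + 1)).carrier} (hz' : Gm E' a (i + 1) g z') (hdz' : E'.d (i + 1) z' = 0)
    (hb : IsBd E a (i + 1) g (L.φ (i + 1) z')) : IsBd E' a (i + 1) g z' := by
  obtain ⟨H⟩ := exists_horse E' E'' hS
  obtain ⟨c⟩ := exists_lift (H.res hS) E LinearMap.id (fun _ _ h => h)
  obtain ⟨c'⟩ := exists_lift E (H.res hS) LinearMap.id (fun _ _ h => h)
  apply H.isBd_of_inl hS h''
  -- c (inl z') is a coboundary
  have h1 := isBd_sub_of_lifts ((c.comp (H.inl hS)).congr (LinearMap.id_comp f)) L hz' hdz'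
  change IsBd E a (i + 1) g (c.φ (i + 1) ((H.inl hS).φ (i + 1) z') - L.φ (i + 1) z') at h1
  have h2 : IsBd E a (i + 1) g (c.φ (i + 1) ((H.inl hS).φ (i + 1) z')) := by
    have := h1.add hb
    rwa [sub_add_cancel] at this
  have h3 := c'.map_isBd h2
  have hz2 : Gm (H.res hS) a (i + 1) g ((H.inl hS).φ (i + 1) z') := (H.inl hS).map_gm hz'
  have hdz2 : (H.res hS).d (i + 1) ((H.inl hS).φ (i + 1) z') = 0 := by
    rw [← (H.inl hS).comm_apply, hdz', map_zero]
  have h4 := isBd_sub_of_lifts ((c'.comp c).congr (LinearMap.id_comp _)) (Lift.refl (H.res hS))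
    hz2 hdz2
  change IsBd (H.res hS) a (i + 1) g
    (c'.φ (i + 1) (c.φ (i + 1) ((H.inl hS).φ (i + 1) z')) - (H.inl hS).φ (i + 1) z') at h4
  have := h3.sub h4
  rwa [sub_sub_cancel] at this

/-- LES: `H^i(M'')_g = 0` and `H^{i+1}(M)_g = 0` imply `H^{i+1}(M')_g = 0`. -/
theorem HV_left {a : Ideal R} {i : ℕ} {g : ι} (h'' : HV E'' a i g) (h : HV E a (i + 1) g) :
    HV E' a (i + 1) g := by
  obtain ⟨L⟩ := exists_lift E' E f hS.f_gr
  intro z' hz' hdz'
  refine isBd_of_lift hS E' E E'' h'' L hz' hdz' (h _ (L.map_gm hz') ?_)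
  rw [← L.comm_apply, hdz', map_zero]

omit hS in
/-- `H^0` is left exact: if `f` is injective then `H^0(M)_g = 0` implies `H^0(M')_g = 0`. -/
theorem HV_left_zero (hf : IsGrHom ℳ' ℳ f) (hfi : Function.Injective f) {a : Ideal R} {g : ι}
    (h : HV E a 0 g) : HV E' a 0 g := by
  obtain ⟨L⟩ := exists_lift E' E f hf
  intro z' hz' hdz'
  have h1 : L.φ 0 z' = 0 := by
    refine h _ (L.map_gm hz') ?_
    rw [← L.comm_apply, hdz', map_zero]
  have h2 : z' ∈ LinearMap.range E'.ε := by rw [← E'.exact_zero]; exact hdz'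
  obtain ⟨m', rfl⟩ := h2
  rw [L.comm0_apply] at h1
  have h3 : f m' = 0 := E.ε_injective (h1.trans (map_zero _).symm)
  have h4 : m' = 0 := hfi (h3.trans (map_zero _).symm)
  change E'.ε m' = 0
  rw [h4, map_zero]

end LES

end Groth.Agent.Lib.Helper77.GLC
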