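import Mathlib
import Groth.Prelude.Def_GrLC
import Groth.Agent.Lib.Helper77.GLC3

/-!
GLC4 (helper77): shifted resolutions, multiplication by a homogeneous element as a lift,
the torsion argument, and the behaviour of graded local cohomology under passage to `N / xN`
for an `N`-regular homogeneous element `x`.
-/

set_option autoImplicit false
set_option linter.unusedSectionVars false
universe u

namespace Groth.Agent.Lib.Helper77.GLC

open GrLC DirectSum

variable {ι : Type} [AddCommGroup ι] [DecidableEq ι] {R : Type u} [CommRing R]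
variable {𝒜 : ι → AddSubgroup R} [GradedRing 𝒜]
variable {N : Type u} [AddCommGroup N] [Module R N] {𝒩 : ι → AddSubgroup N} [Decomposition 𝒩]
  [SetLike.GradedSMul 𝒜 𝒩]

section shift

/-- the shifted resolution, a resolution of `N(s)` -/
noncomputable def shiftRes (E : StarInjRes 𝒜 𝒩) (s : ι) :
    StarInjRes 𝒜 (Helper66.GradedShift.shiftGMod 𝒜 𝒩 s).gr where
  X n := sh 𝒜 (E.X n) s
  d := E.d
  ε := E.ε
  d_grHom n := fun g m hm => E.d_grHom n (s + g) m hm
  ε_grHom := fun g m hm => E.ε_grHom (s + g) m hm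
  ε_injective := E.ε_injective
  exact_zero := E.exact_zero
  exact_succ := E.exact_succ
  starInj n := isStarInj_sh 𝒜 (E.starInj n) s

theorem gm_shiftRes_iff (E : StarInjRes 𝒜 𝒩) (s : ι) {a : Ideal R} {i : ℕ} {g : ι}
    {z : (E.X i).carrier} : Gm (shiftRes E s) a i g z ↔ Gm E a i (s + g) z := Iff.rfl

theorem isBd_shiftRes_iff (E : StarInjRes 𝒜 𝒩) (s : ι) {a : Ideal R} {i : ℕ} {g : ι}
    {z : (E.X i).carrier} : IsBd (shiftRes E s) a i g z ↔ IsBd E a i (s + g) z := by
  cases i with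
  | zero => exact Iff.rfl
  | succ i => exact Iff.rfl

theorem HV_shiftRes_iff (E : StarInjRes 𝒜 𝒩) (s : ι) {a : Ideal R} {i : ℕ} {g : ι} :
    HV (shiftRes E s) a i g ↔ HV E a i (s + g) := by
  cases i with
  | zero => exact Iff.rfl
  | succ i => exact Iff.rfl

/-- multiplication by `x` as a map `N(s) → N` -/
noncomputable def mulMap (𝒩 : ι → AddSubgroup N) [Decomposition 𝒩] [SetLike.GradedSMul 𝒜 𝒩]
    (x : R) (s : ι) : (Helper66.GradedShift.shiftGMod 𝒜 𝒩 s).carrier →ₗ[R] N :=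
  x • (LinearMap.id : N →ₗ[R] N)

theorem mulMap_apply (x : R) (s : ι) (n : N) : mulMap (𝒜 := 𝒜) 𝒩 x s n = x • n := rfl

/-- multiplication by a homogeneous element of degree `e` as a lift `E(-e) → E` -/
noncomputable def mulLift (E : StarInjRes 𝒜 𝒩) {e : ι} {x : R} (hx : x ∈ 𝒜 e) :
    Lift (shiftRes E (-e)) E (mulMap 𝒩 x (-e)) where
  φ n := x • (LinearMap.id : (E.X n).carrier →ₗ[R] (E.X n).carrier)
  gr n := by
    intro g (m : (E.X n).carrier) (hm : m ∈ (E.X n).gr (-e + g))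
    have := SetLike.GradedSMul.smul_mem (A := 𝒜) (B := (E.X n).gr) hx hm
    rw [vadd_eq_add, add_neg_cancel_left] at this
    exact this
  comm0 := LinearMap.ext fun (m : N) => (map_smul E.ε x m).symm
  comm n := LinearMap.ext fun (z : (E.X n).carrier) => (map_smul (E.d n) x z).symm

theorem mulLift_apply (E : StarInjRes 𝒜 𝒩) {e : ι} {x : R} (hx : x ∈ 𝒜 e) (n : ℕ)
    (z : (E.X n).carrier) : (mulLift E hx).φ n z = x • z := rfl

theorem Gm.smul {E : StarInjRes 𝒜 𝒩} {a : Ideal R} {i : ℕ} {g e : ι} {x : R} (hx : x ∈ 𝒜 e)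
    {z : (E.X i).carrier} (hz : Gm E a i g z) : Gm E a i (e + g) (x • z) :=
  ⟨Submodule.smul_mem _ _ hz.1, SetLike.GradedSMul.smul_mem (A := 𝒜) (B := (E.X i).gr) hx hz.2⟩

end shift

section torsion

/-- The torsion argument: if multiplication by `x ∈ a` (homogeneous of degree `e`) is injective on
`H^i_a(N)` in all degrees of an upward closed set `S`, then `H^i_a(N)` vanishes in those degrees. -/
theorem HV_of_smul_injective (E : StarInjRes 𝒜 𝒩) {a : Ideal R} {e : ι} {x : R} (hx : x ∈ 𝒜 e)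
    (hxa : x ∈ a) (i : ℕ) (S : Set ι) (hS : ∀ g ∈ S, e + g ∈ S)
    (hinj : ∀ g ∈ S, ∀ z, Gm E a i g z → E.d i z = 0 → IsBd E a i (e + g) (x • z) → IsBd E a i g z) :
    ∀ g ∈ S, HV E a i g := by
  have key : ∀ n : ℕ, ∀ g ∈ S, ∀ z, Gm E a i g z → E.d i z = 0 → x ^ n • z = 0 → IsBd E a i g z := by
    intro n
    induction n with
    | zero =>
      intro g _ z _ _ h0
      rw [pow_zero, one_smul] at h0
      rw [h0]
      exact IsBd.zero E a i g
    | succ n ih =>
      intro g hg z hz hdz h0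
      apply hinj g hg z hz hdz
      apply ih (e + g) (hS g hg) (x • z) (hz.smul hx) (by rw [map_smul, hdz, smul_zero])
      rw [smul_smul, ← pow_succ, h0]
  intro g hg z hz hdz
  obtain ⟨n, hn⟩ := exists_pow_smul_eq_zero hz.1 hxa
  exact key n g hg z hz hdz hn

/-- `H^0_a(N) = 0` if some element of `a` is `N`-regular. -/
theorem HV_zero_of_regular (E : StarInjRes 𝒜 𝒩) {a : Ideal R} {x : R} (hxa : x ∈ a)
    (hreg : Function.Injective (fun n : N => x • n)) (g : ι) : HV E a 0 g := by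
  intro z hz hdz
  change z = 0
  have h2 : z ∈ LinearMap.range E.ε := by rw [← E.exact_zero]; exact hdz
  obtain ⟨n, rfl⟩ := h2
  obtain ⟨k, hk⟩ := exists_pow_smul_eq_zero hz.1 hxa
  rw [← map_smul] at hk
  have h3 : x ^ k • n = 0 := E.ε_injective (hk.trans (map_zero _).symm)
  have h4 : ∀ k : ℕ, x ^ k • n = 0 → n = 0 := by
    intro k
    induction k with
    | zero => intro h; rwa [pow_zero, one_smul] at h
    | succ k ih =>
      intro h
      apply ih
      rw [pow_succ', mul_smul] at h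
      exact hreg (h.trans (smul_zero x).symm)
  rw [h4 k h3, map_zero]

end torsion

section regular

variable {Q : Type u} [AddCommGroup Q] [Module R Q] {𝒬 : ι → AddSubgroup Q} [Decomposition 𝒬]
  [SetLike.GradedSMul 𝒜 𝒬]

/-- the graded short exact sequence `0 → N(-e) → N → N/xN → 0` -/
theorem gses_of_regular {e : ι} {x : R} (hx : x ∈ 𝒜 e)
    (hreg : Function.Injective (fun n : N => x • n)) (π : N →ₗ[R] Q) (hπ : IsGrHom 𝒩 𝒬 π)
    (hπs : Function.Surjective π)
    (hker : LinearMap.ker π = LinearMap.range (x • (LinearMap.id : N →ₗ[R] N))) :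
    GSES (Helper66.GradedShift.shiftGMod 𝒜 𝒩 (-e)).gr 𝒩 𝒬 (mulMap 𝒩 x (-e)) π where
  f_gr := by
    intro g (m : N) (hm : m ∈ 𝒩 (-e + g))
    have := SetLike.GradedSMul.smul_mem (A := 𝒜) (B := 𝒩) hx hm
    rw [vadd_eq_add, add_neg_cancel_left] at this
    exact this
  p_gr := hπ
  f_inj := hreg
  p_surj := hπs
  exact := hker

variable (EN : StarInjRes 𝒜 𝒩) (EQ : StarInjRes 𝒜 𝒬) {e : ι} {x : R} (hx : x ∈ 𝒜 e)
  (hreg : Function.Injective (fun n : N => x • n)) (π : N →ₗ[R] Q) (hπ : IsGrHom 𝒩 𝒬 π)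
  (hπs : Function.Surjective π)
  (hker : LinearMap.ker π = LinearMap.range (x • (LinearMap.id : N →ₗ[R] N)))

include hx hreg hπ hπs hker

/-- if `H^i(N/xN)_g = 0` then `x : H^{i+1}(N)_{g-e} → H^{i+1}(N)_g` is injective. -/
theorem isBd_of_smul {a : Ideal R} {i : ℕ} {g : ι} (hQ : HV EQ a i g) {z : (EN.X (i + 1)).carrier}
    (hz : Gm EN a (i + 1) (-e + g) z) (hdz : EN.d (i + 1) z = 0)
    (hb : IsBd EN a (i + 1) g (x • z)) : IsBd EN a (i + 1) (-e + g) z := by
  have hS := gses_of_regular hx hreg π hπ hπs hker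
  exact (isBd_shiftRes_iff EN (-e)).1
    (isBd_of_lift hS (shiftRes EN (-e)) EN EQ hQ (mulLift EN hx)
      ((gm_shiftRes_iff EN (-e)).2 hz) hdz hb)

/-- `H^i(N)_g = 0` and `H^{i+1}(N)_{g-e} = 0` imply `H^i(N/xN)_g = 0`. -/
theorem HV_quot {a : Ideal R} {i : ℕ} {g : ι} (h : HV EN a i g) (h' : HV EN a (i + 1) (-e + g)) :
    HV EQ a i g :=
  HV_right (gses_of_regular hx hreg π hπ hπs hker) (shiftRes EN (-e)) EN EQ h
    ((HV_shiftRes_iff EN (-e)).2 h')

/-- `H^i(N)_{g-e} = 0` and `H^i(N/xN)_g = 0` imply `H^i(N)_g = 0`. -/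
theorem HV_of_quot {a : Ideal R} {i : ℕ} {g : ι} (h : HV EN a i (-e + g)) (hQ : HV EQ a i g) :
    HV EN a i g :=
  HV_mid (gses_of_regular hx hreg π hπ hπs hker) (shiftRes EN (-e)) EN EQ
    ((HV_shiftRes_iff EN (-e)).2 h) hQ

/-- if `x ∈ a` and `H^i(N/xN)` vanishes in all degrees of an upward closed set `S`, then
`H^{i+1}(N)` vanishes in all degrees `g` with `e + g ∈ S`. -/
theorem HV_succ_of_quot {a : Ideal R} (hxa : x ∈ a) (i : ℕ) (S : Set ι) (hS : ∀ g ∈ S, e + g ∈ S)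
    (hQ : ∀ g ∈ S, HV EQ a i g) : ∀ g, e + g ∈ S → HV EN a (i + 1) g := by
  refine HV_of_smul_injective EN hx hxa (i + 1) {g | e + g ∈ S} (fun g hg => hS _ hg) ?_
  intro g hg z hz hdz hb
  have hz' : Gm EN a (i + 1) (-e + (e + g)) z := by rwa [neg_add_cancel_left]
  have := isBd_of_smul EN EQ hx hreg π hπ hπs hker (hQ (e + g) hg) hz' hdz hb
  rwa [neg_add_cancel_left] at this

end regular

end Groth.Agent.Lib.Helper77.GLC
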