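import Mathlib
import Groth.Prelude.Def_GrSyz

/-!
# The projective resolution attached to a `GrSyz.FreeRes`
-/

universe u
open GrSyz CategoryTheory

namespace Groth.Agent.Lib.Helper77.GrProjRes

variable {R : Type u} [CommRing R] {σ' : Type u} [SetLike σ' R]
variable {𝒜 : ℤ → σ'}
variable {M : Type u} [AddCommGroup M] [Module R M] {τ : Type u} [SetLike τ M] [AddSubgroupClass τ M]
  {ℳ : ℤ → τ} [DirectSum.Decomposition ℳ] [SetLike.GradedSMul 𝒜 ℳ]

theorem dLin_comp_dLin (F : FreeRes 𝒜 ℳ) (i : ℕ) : (F.dLin i).comp (F.dLin (i + 1)) = 0 := by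
  refine LinearMap.ext fun w => ?_
  have : F.dLin (i + 1) w ∈ LinearMap.ker (F.dLin i) := by
    rw [F.exact_succ]; exact ⟨w, rfl⟩
  exact this

theorem augLin_comp_dLin (F : FreeRes 𝒜 ℳ) : (F.augLin).comp (F.dLin 0) = 0 := by
  refine LinearMap.ext fun w => ?_
  have : F.dLin 0 w ∈ LinearMap.ker F.augLin := by
    rw [F.exact_zero]; exact ⟨w, rfl⟩
  exact this

/-- the terms of the complex. -/
abbrev cxX (F : FreeRes 𝒜 ℳ) (i : ℕ) : ModuleCat.{u} R := ModuleCat.of R (Fin (F.rk i) → R)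

/-- the differentials of the complex. -/
abbrev cxD (F : FreeRes 𝒜 ℳ) (i : ℕ) : cxX F (i + 1) ⟶ cxX F i := ModuleCat.ofHom (F.dLin i)

theorem cxD_comp (F : FreeRes 𝒜 ℳ) (i : ℕ) : cxD F (i + 1) ≫ cxD F i = 0 := by
  rw [← ModuleCat.ofHom_comp, dLin_comp_dLin]
  rfl

/-- the chain complex of the resolution. -/
noncomputable def cx (F : FreeRes 𝒜 ℳ) : ChainComplex (ModuleCat.{u} R) ℕ :=
  ChainComplex.of (cxX F) (cxD F) (cxD_comp F)

theorem cx_d (F : FreeRes 𝒜 ℳ) (i : ℕ) : (cx F).d (i + 1) i = cxD F i :=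
  ChainComplex.of_d _ _ i

theorem cxD_zero_comp_aug (F : FreeRes 𝒜 ℳ) :
    cxD F 0 ≫ (ModuleCat.ofHom F.augLin : cxX F 0 ⟶ ModuleCat.of R M) = 0 := by
  rw [← ModuleCat.ofHom_comp, augLin_comp_dLin]
  rfl

/-- the augmentation as a chain map. -/
noncomputable def cxπ (F : FreeRes 𝒜 ℳ) :
    cx F ⟶ (ChainComplex.single₀ (ModuleCat.{u} R)).obj (ModuleCat.of R M) :=
  ((cx F).toSingle₀Equiv _).symm ⟨(ModuleCat.ofHom F.augLin : cxX F 0 ⟶ ModuleCat.of R M), by
    have h := cx_d F 0
    simp only [Nat.reduceAdd] at h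
    rw [h]
    exact cxD_zero_comp_aug F⟩


theorem cxπ_f_zero (F : FreeRes 𝒜 ℳ) :
    (cxπ F).f 0 = (ModuleCat.ofHom F.augLin : cxX F 0 ⟶ ModuleCat.of R M) :=
  ChainComplex.toSingle₀Equiv_symm_apply_f_zero _ _

theorem cx_quasiIso (F : FreeRes 𝒜 ℳ) : QuasiIso (cxπ F) where
  quasiIsoAt m := by
    induction m with
    | zero =>
      rw [ChainComplex.quasiIsoAt₀_iff, ShortComplex.quasiIso_iff_of_zeros' _ rfl rfl rfl]
      constructor
      · rw [ShortComplex.moduleCat_exact_iff_range_eq_ker]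
        show LinearMap.range ((cx F).d 1 0).hom = LinearMap.ker ((cxπ F).f 0).hom
        have h := cx_d F 0
        simp only [Nat.reduceAdd] at h
        rw [h, cxπ_f_zero]
        exact F.exact_zero.symm
      · show Epi ((cxπ F).f 0)
        rw [cxπ_f_zero]
        exact (ModuleCat.epi_iff_surjective _).2 F.aug_surjective
    | succ m _ =>
      rw [quasiIsoAt_iff_exactAt' (hL := ChainComplex.exactAt_succ_single_obj ..),
          HomologicalComplex.exactAt_iff' _ (m + 2) (m + 1) m (by simp) (by simp)]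
      rw [ShortComplex.moduleCat_exact_iff_range_eq_ker]
      show LinearMap.range ((cx F).d (m + 2) (m + 1)).hom = LinearMap.ker ((cx F).d (m + 1) m).hom
      rw [cx_d F (m + 1), cx_d F m]
      exact (F.exact_succ m).symm

/-- the projective resolution attached to a free resolution. -/
noncomputable def projRes (F : FreeRes 𝒜 ℳ) : ProjectiveResolution (ModuleCat.of R M) where
  complex := cx F
  projective i := by
    show Projective (cxX F i)
    exact (IsProjective.iff_projective _).1 inferInstance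
  π := cxπ F
  quasiIso := cx_quasiIso F

end Groth.Agent.Lib.Helper77.GrProjRes
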