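import Mathlib
import Groth.Prelude.Def_GrSyz
import Groth.Agent.Lib.Helper77.GrProjRes
import Groth.Agent.Lib.Helper77.GrSyzBasic

/-!
# `Tor_i(R ⧸ 𝔪, M)` from a minimal free resolution
-/

universe u v
open GrSyz CategoryTheory MonoidalCategory Groth.Agent.Lib.Helper77.GrProjRes

namespace Groth.Agent.Lib.Helper77.GrTor

section A

variable {R : Type u} [CommRing R] {σ' : Type u} [SetLike σ' R]
variable {𝒜 : ℤ → σ'}
variable {M : Type u} [AddCommGroup M] [Module R M] {τ : Type u} [SetLike τ M] [AddSubgroupClass τ M]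
  {ℳ : ℤ → τ} [DirectSum.Decomposition ℳ] [SetLike.GradedSMul 𝒜 ℳ]

/-- tensoring a minimal differential with `R ⧸ 𝔪` gives zero. -/
theorem whiskerLeft_cxD_eq_zero (F : FreeRes 𝒜 ℳ) (𝔪 : Ideal R) (hmin : F.IsMinimal 𝔪) (i : ℕ) :
    (ModuleCat.of R (R ⧸ 𝔪)) ◁ (cxD F i) = 0 := by
  apply ModuleCat.hom_ext
  apply TensorProduct.ext'
  intro x w
  show x ⊗ₜ[R] (F.dLin i w) = 0
  have hsum : F.dLin i w = ∑ a, (F.dLin i w) a • (Pi.single a (1 : R) : Fin (F.rk i) → R) := by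
    funext a'
    simp [Finset.sum_apply, Pi.single_apply]
  rw [hsum, TensorProduct.tmul_sum]
  refine Finset.sum_eq_zero fun a _ => ?_
  rw [TensorProduct.tmul_smul, TensorProduct.smul_tmul']
  have hmem : (F.dLin i w) a ∈ 𝔪 :=
    Groth.Agent.Lib.Helper77.mulVec_mem_of_entries_mem _ _ (fun a c => hmin i a c) w a
  obtain ⟨y, rfl⟩ := Ideal.Quotient.mk_surjective x
  have : (F.dLin i w) a • (Ideal.Quotient.mk 𝔪 y) = 0 := by
    rw [← Ideal.Quotient.mk_eq_mk, ← Submodule.Quotient.mk_smul, Submodule.Quotient.mk_eq_zero]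
    exact 𝔪.mul_mem_right _ hmem
  rw [this, TensorProduct.zero_tmul]


/-- `Tor_i(R ⧸ 𝔪, M)` is `(R ⧸ 𝔪) ⊗ F_i` for a resolution minimal with respect to `𝔪`. -/
theorem nonempty_tor_iso (F : FreeRes 𝒜 ℳ) (𝔪 : Ideal R) (hmin : F.IsMinimal 𝔪) (i : ℕ) :
    Nonempty ((((Tor (ModuleCat.{u} R) i).obj (ModuleCat.of R (R ⧸ 𝔪))).obj (ModuleCat.of R M)) ≅
      (ModuleCat.of R (R ⧸ 𝔪)) ⊗ cxX F i) := by
  let G : ModuleCat.{u} R ⥤ ModuleCat.{u} R := (tensoringLeft (ModuleCat.{u} R)).obj (ModuleCat.of R (R ⧸ 𝔪))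
  let K := (G.mapHomologicalComplex (ComplexShape.down ℕ)).obj (cx F)
  have e1 : (G.leftDerived i).obj (ModuleCat.of R M) ≅ K.homology i :=
    (projRes F).isoLeftDerivedObj G i
  have hd : ∀ a b, K.d a b = 0 := by
    intro a b
    show G.map ((cx F).d a b) = 0
    by_cases hab : b + 1 = a
    · subst hab
      rw [cx_d]
      exact whiskerLeft_cxD_eq_zero F 𝔪 hmin b
    · rw [(cx F).shape a b hab, G.map_zero]
  have e2 : K.homology i ≅ K.X i :=
    (ShortComplex.HomologyData.ofZeros (K.sc i) (hd _ _) (hd _ _)).left.homologyIso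
  exact ⟨e1 ≪≫ e2⟩


/-- the length of `(R ⧸ 𝔪) ⊗ Rⁿ` is `n` for a maximal ideal `𝔪`. -/
theorem length_tensor_pi (𝔪 : Ideal R) [𝔪.IsMaximal] (n : ℕ) :
    Module.length R (TensorProduct R (R ⧸ 𝔪) (Fin n → R)) = (n : ℕ∞) := by
  rw [LinearEquiv.length_eq (TensorProduct.piScalarRight R R (R ⧸ 𝔪) (Fin n)),
    Module.length_pi_of_fintype]
  have : IsSimpleModule R (R ⧸ 𝔪) := by
    rw [isSimpleModule_iff_isCoatom]
    exact Ideal.isMaximal_def.1 inferInstance
  simp [Module.length_eq_one]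

theorem length_tor (F : FreeRes 𝒜 ℳ) (𝔪 : Ideal R) [𝔪.IsMaximal] (hmin : F.IsMinimal 𝔪) (i : ℕ) :
    Module.length R (((Tor (ModuleCat.{u} R) i).obj (ModuleCat.of R (R ⧸ 𝔪))).obj (ModuleCat.of R M)) =
      (F.rk i : ℕ∞) := by
  obtain ⟨e⟩ := nonempty_tor_iso F 𝔪 hmin i
  rw [LinearEquiv.length_eq e.toLinearEquiv]
  exact length_tensor_pi 𝔪 (F.rk i)

end A

section B
open MvPolynomial
variable (k : Type u) [Field k] (σ : Type v)

theorem irrel_eq_ker_constantCoeff :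
    (irrel (stdGr k σ)).toIdeal = RingHom.ker (constantCoeff : MvPolynomial σ k →+* k) := by
  apply le_antisymm (Groth.Agent.Lib.Helper77.irrel_le_ker_constantCoeff k σ)
  intro p hp
  rw [RingHom.mem_ker] at hp
  rw [p.as_sum]
  refine Ideal.sum_mem _ fun d hd => ?_
  by_cases hd0 : d = 0
  · subst hd0
    have : coeff 0 p = 0 := by rwa [← constantCoeff_eq]
    rw [this, monomial_zero]
    exact Ideal.zero_mem _
  · have hw : 0 < Finsupp.weight (fun _ : σ => (1 : ℤ)) d := by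
      have h1 := Groth.Agent.Lib.Helper77.weight_one_nonneg σ d
      have h2 := (Groth.Agent.Lib.Helper77.weight_one_eq_zero_iff σ d).not.2 hd0
      omega
    refine Groth.Agent.Lib.Helper77.mem_irrel_of_mem_stdGr k σ hw ?_
    rw [mem_stdGr_iff]
    exact isWeightedHomogeneous_monomial _ _ _ rfl

theorem irrel_isMaximal : ((irrel (stdGr k σ)).toIdeal).IsMaximal := by
  rw [irrel_eq_ker_constantCoeff]
  exact RingHom.ker_isMaximal_of_surjective _ (fun c => ⟨C c, constantCoeff_C _ c⟩)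


end B

end Groth.Agent.Lib.Helper77.GrTor
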