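import Mathlib
import Groth.Agent.Lib.Helper46.TorLES

/-!
# Vanishing of `Tor` against quotients by the variables of a polynomial ring

`Tor_i(S ⧸ (x_0, …, x_{j-1}), N) = 0` for `i > j`, where `S = k[x_0, …, x_{m-1}]` and `Tor` is
Mathlib's `Tor` (derived in the second variable).  Proof: long exact sequence in the first
variable (helper46) along `0 → S/I_j --x_j--> S/I_j → S/I_{j+1} → 0`.
-/

universe u
open CategoryTheory

namespace Groth.Agent.Lib.Helper77.TorVanish

open Groth.Agent.Lib.Helper46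

section General

variable {R : Type u} [CommRing R]

/-- dimension shifting along a short exact sequence in the first variable. -/
theorem isZero_tor_X₃ (S : ShortComplex (ModuleCat.{u} R)) (hS : S.ShortExact)
    (N : ModuleCat.{u} R) (d : ℕ)
    (h1 : ∀ i, d < i → Limits.IsZero (((Tor (ModuleCat.{u} R) i).obj S.X₁).obj N))
    (h2 : ∀ i, d < i → Limits.IsZero (((Tor (ModuleCat.{u} R) i).obj S.X₂).obj N)) :
    ∀ i, d + 1 < i → Limits.IsZero (((Tor (ModuleCat.{u} R) i).obj S.X₃).obj N) := by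
  intro i hi
  obtain ⟨n, rfl⟩ : ∃ n, i = n + 1 := ⟨i - 1, by omega⟩
  have hex := TorLES.exact₃ S hS N n
  exact hex.isZero_of_both_zeros ((h2 (n + 1) (by omega)).eq_of_src _ _)
    ((h1 n (by omega)).eq_of_tgt _ _)

theorem fmk {I J : Ideal R} (hIJ : I ≤ J) (y : R) :
    Submodule.factor hIJ (Submodule.Quotient.mk y) = Submodule.Quotient.mk y := rfl

variable (I J : Ideal R) (hIJ : I ≤ J) (x : R) (hx : x ∈ J)

/-- the sequence `0 → R/I --x--> R/I → R/J → 0` for ideals `I ≤ J ∋ x`. -/
noncomputable def quotSC : ShortComplex (ModuleCat.{u} R) :=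
  ModuleCat.shortComplexOfCompEqZero (LinearMap.lsmul R (R ⧸ I) x) (Submodule.factor hIJ) (by
    ext
    simp only [LinearMap.coe_comp, Function.comp_apply, Submodule.mkQ_apply, LinearMap.lsmul_apply,
      LinearMap.zero_comp, LinearMap.zero_apply]
    rw [← Submodule.Quotient.mk_smul, fmk, Submodule.Quotient.mk_eq_zero]
    simpa using hx)

theorem quotSC_shortExact (hJ : ∀ y ∈ J, ∃ z, y - x * z ∈ I) (hreg : ∀ y, x * y ∈ I → y ∈ I) :
    (quotSC I J hIJ x hx).ShortExact := by
  apply ModuleCat.shortComplex_shortExact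
  · intro (y : R ⧸ I)
    obtain ⟨y, rfl⟩ := Submodule.Quotient.mk_surjective _ y
    change Submodule.factor hIJ (Submodule.Quotient.mk y) = 0 ↔
      ∃ z : R ⧸ I, x • z = Submodule.Quotient.mk y
    rw [fmk, Submodule.Quotient.mk_eq_zero]
    constructor
    · intro hy
      obtain ⟨z, hz⟩ := hJ y hy
      refine ⟨Submodule.Quotient.mk z, ?_⟩
      rw [← Submodule.Quotient.mk_smul, eq_comm, Submodule.Quotient.eq]
      simpa using hz
    · rintro ⟨z, hz⟩
      obtain ⟨z, rfl⟩ := Submodule.Quotient.mk_surjective _ z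
      rw [← Submodule.Quotient.mk_smul, Submodule.Quotient.eq] at hz
      have : y = x * z - (x • z - y) := by simp
      rw [this]
      exact J.sub_mem (Ideal.mul_mem_right _ _ hx) (hIJ hz)
  · rw [injective_iff_map_eq_zero]
    intro (y : R ⧸ I) hy
    obtain ⟨y, rfl⟩ := Submodule.Quotient.mk_surjective _ y
    change x • (Submodule.Quotient.mk y : R ⧸ I) = 0 at hy
    rw [← Submodule.Quotient.mk_smul, Submodule.Quotient.mk_eq_zero] at hy
    exact (Submodule.Quotient.mk_eq_zero _).2 (hreg y (by simpa using hy))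
  · exact Submodule.factor_surjective hIJ

end General

section Poly

open MvPolynomial

variable (k : Type u) [CommRing k] (m : ℕ)

/-- the ideal generated by the first `j` variables. -/
noncomputable def Iv (j : ℕ) : Ideal (MvPolynomial (Fin m) k) :=
  Ideal.span (X '' {i : Fin m | i.val < j})

theorem Iv_mono {j j' : ℕ} (h : j ≤ j') : Iv k m j ≤ Iv k m j' :=
  Ideal.span_mono (Set.image_mono fun i (hi : i.val < j) => lt_of_lt_of_le hi h)

theorem Iv_zero : Iv k m 0 = ⊥ := by
  simp [Iv]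

theorem X_mem_Iv (j : Fin m) : (X j : MvPolynomial (Fin m) k) ∈ Iv k m (j.val + 1) :=
  Ideal.subset_span ⟨j, Nat.lt_succ_self _, rfl⟩

theorem Iv_succ (j : Fin m) : Iv k m (j.val + 1) =
    Ideal.span (insert (X j) (X '' {i : Fin m | i.val < j.val})) := by
  unfold Iv
  congr 1
  rw [← Set.image_insert_eq]
  congr 1
  ext i
  simp only [Set.mem_ofPred_eq, Set.mem_insert_iff, Fin.ext_iff]
  omega

theorem Iv_exact (j : Fin m) (y : MvPolynomial (Fin m) k) (hy : y ∈ Iv k m (j.val + 1)) :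
    ∃ z, y - X j * z ∈ Iv k m j.val := by
  rw [Iv_succ, Ideal.mem_span_insert] at hy
  obtain ⟨a, z, hz, rfl⟩ := hy
  refine ⟨a, ?_⟩
  have : a * X j + z - X j * a = z := by ring
  rw [this]
  exact hz

theorem Iv_reg (j : Fin m) (y : MvPolynomial (Fin m) k) (hy : X j * y ∈ Iv k m j.val) :
    y ∈ Iv k m j.val := by
  unfold Iv at hy ⊢
  rw [mem_ideal_span_X_image] at hy ⊢
  intro d hd
  obtain ⟨i, hi, hne⟩ := hy (Finsupp.single j 1 + d) (by
    rw [mem_support_iff, coeff_X_mul]
    exact mem_support_iff.1 hd)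
  refine ⟨i, hi, ?_⟩
  have hij : i ≠ j := fun h => by
    subst h
    exact lt_irrefl _ (show i.val < i.val from hi)
  simpa [Finsupp.single_apply, hij.symm] using hne

theorem Iv_top : Iv k m m = RingHom.ker (constantCoeff : MvPolynomial (Fin m) k →+* k) := by
  ext p
  unfold Iv
  rw [mem_ideal_span_X_image, RingHom.mem_ker, constantCoeff_eq]
  constructor
  · intro h
    by_contra h0
    obtain ⟨i, -, hi⟩ := h 0 (mem_support_iff.2 h0)
    exact hi rfl
  · intro h d hd
    have hd0 : d ≠ 0 := fun h0 => by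
      subst h0
      exact (mem_support_iff.1 hd) h
    obtain ⟨i, hi⟩ := Finsupp.ne_iff.1 hd0
    exact ⟨i, i.isLt, by simpa using hi⟩

theorem isZero_tor_Iv (N : ModuleCat.{u} (MvPolynomial (Fin m) k)) :
    ∀ j : ℕ, j ≤ m → ∀ i, j < i →
      Limits.IsZero (((Tor (ModuleCat.{u} (MvPolynomial (Fin m) k)) i).obj
        (ModuleCat.of (MvPolynomial (Fin m) k) (MvPolynomial (Fin m) k ⧸ Iv k m j))).obj N) := by
  intro j
  induction j with
  | zero =>
    intro _ i hi
    obtain ⟨n, rfl⟩ : ∃ n, i = n + 1 := ⟨i - 1, by omega⟩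
    have : Module.Flat (MvPolynomial (Fin m) k)
        (ModuleCat.of (MvPolynomial (Fin m) k) (MvPolynomial (Fin m) k ⧸ Iv k m 0)) :=
      Module.Flat.of_linearEquiv (Submodule.quotEquivOfEqBot (Iv k m 0) (Iv_zero k m))
    exact TorLES.isZero_tor_succ_of_flat_left _ N n
  | succ j ih =>
    intro hj
    have ih' := ih (by omega)
    let jj : Fin m := ⟨j, by omega⟩
    exact isZero_tor_X₃ (quotSC (Iv k m j) (Iv k m (j + 1)) (Iv_mono k m (Nat.le_succ j)) (X jj)
        (X_mem_Iv k m jj))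
      (quotSC_shortExact _ _ _ _ _ (Iv_exact k m jj) (Iv_reg k m jj)) N j ih' ih'

theorem isZero_tor_of_eq_ker (𝔪 : Ideal (MvPolynomial (Fin m) k))
    (h𝔪 : 𝔪 = RingHom.ker (constantCoeff : MvPolynomial (Fin m) k →+* k))
    (N : ModuleCat.{u} (MvPolynomial (Fin m) k)) (i : ℕ) (hi : m < i) :
    Limits.IsZero (((Tor (ModuleCat.{u} (MvPolynomial (Fin m) k)) i).obj
      (ModuleCat.of (MvPolynomial (Fin m) k) (MvPolynomial (Fin m) k ⧸ 𝔪))).obj N) := by
  rw [← Iv_top] at h𝔪
  subst h𝔪
  exact isZero_tor_Iv k m N m le_rfl i hi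

end Poly

end Groth.Agent.Lib.Helper77.TorVanish
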