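import Mathlib
import Groth.Prelude.Def_GrLC
import Groth.Prelude.Def_GrSyz
import Groth.Agent.Lib.Helper77.GLC4
import Groth.Agent.Lib.Helper77.TorVanish
import Groth.Agent.Lib.Helper77.GrTor
import Groth.Agent.Lib.Helper77.GrSyzBasic
import Groth.Agent.Lib.Helper66.GradedFree
import Groth.Agent.Lib.Helper41.LCTorsion
import Groth.Agent.S13224
import Groth.Agent.S13215

/-!
GLC5 (helper77): graded local cohomology of torsion modules, `H^0`, and the computation of the
graded local cohomology of the polynomial ring `S = k[x_0..x_{m-1}]` with respect to the irrelevant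
ideal: `H^i(S) = 0` for `i ≠ m`, `H^m(S)_g = 0` for `g > -m` and `H^m(S)_{-m} ≠ 0`.
-/

set_option autoImplicit false
set_option linter.unusedSectionVars false
universe u

namespace Groth.Agent.Lib.Helper77.GLC

open GrLC DirectSum

section general

variable {ι : Type} [AddCommGroup ι] [DecidableEq ι] {R : Type u} [CommRing R]
variable {𝒜 : ι → AddSubgroup R} [GradedRing 𝒜]
variable {N : Type u} [AddCommGroup N] [Module R N] {𝒩 : ι → AddSubgroup N} [Decomposition 𝒩]
  [SetLike.GradedSMul 𝒜 𝒩]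

/-- `H^0_a(N)_g = Γ_a(N)_g`. -/
theorem HV_zero_iff (E : StarInjRes 𝒜 𝒩) (a : Ideal R) (g : ι) :
    HV E a 0 g ↔ ∀ n ∈ 𝒩 g, n ∈ gam a N → n = 0 := by
  constructor
  · intro h n hn hna
    have h1 : E.ε n = 0 := h (E.ε n) ⟨map_mem_gam E.ε hna, E.ε_grHom g n hn⟩ (d_comp_ε E n)
    exact E.ε_injective (h1.trans (map_zero _).symm)
  · intro h z hz hdz
    change z = 0
    have h2 : z ∈ LinearMap.range E.ε := by rw [← E.exact_zero]; exact hdz
    obtain ⟨n, rfl⟩ := h2
    have hn : n ∈ 𝒩 g :=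
      Helper66.GradedSub.mem_of_map_mem 𝒩 (E.X 0).gr E.ε E.ε_grHom E.ε_injective hz.2
    have hna : n ∈ gam a N := by
      obtain ⟨k, hk⟩ := hz.1
      refine ⟨k, fun r hr => ?_⟩
      have := hk r hr
      rw [← map_smul] at this
      exact E.ε_injective (this.trans (map_zero _).symm)
    rw [h n hn hna, map_zero]

variable [Module.Free ℤ ι] [Module.Finite ℤ ι] [IsNoetherianRing R]

/-- higher graded local cohomology of an `a`-torsion graded module vanishes. -/
theorem HV_of_torsion (E : StarInjRes 𝒜 𝒩) (a : HomogeneousIdeal 𝒜)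
    (htor : ∀ x : N, ∃ n : ℕ, ∀ r ∈ a.toIdeal ^ n, r • x = 0) (i : ℕ) (hi : 0 < i) (g : ι) :
    HV E a.toIdeal i g := by
  rw [← Hcomp_eq_bot_iff]
  obtain ⟨e⟩ := Groth.Agent.S13224.result R 𝒜 a N 𝒩 E i
  have hsub : Subsingleton (LocCoh.H a.toIdeal i N) :=
    Groth.Agent.Lib.Helper41.LC.subsingleton_of_isTorsion a.toIdeal i hi (ModuleCat.of R N) htor
  have : Subsingleton (E.H a i) := e.toEquiv.subsingleton
  rw [eq_bot_iff]
  intro x _
  rw [Submodule.mem_bot]
  exact Subsingleton.elim _ _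

/-- the zero module has no graded local cohomology. -/
theorem HV_of_subsingleton [Subsingleton N] (E : StarInjRes 𝒜 𝒩) (a : HomogeneousIdeal 𝒜)
    (i : ℕ) (g : ι) : HV E a.toIdeal i g := by
  cases i with
  | zero =>
    rw [HV_zero_iff]
    intro n _ _
    exact Subsingleton.elim _ _
  | succ i =>
    exact HV_of_torsion E a (fun x => ⟨0, fun r _ => by rw [Subsingleton.elim x 0, smul_zero]⟩)
      (i + 1) (Nat.succ_pos i) g

/-- every graded module has a *injective resolution -/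
theorem exists_res (N : Type u) [AddCommGroup N] [Module R N] (𝒩 : ι → AddSubgroup N)
    [Decomposition 𝒩] [SetLike.GradedSMul 𝒜 𝒩] : Nonempty (StarInjRes 𝒜 𝒩) :=
  Groth.Agent.S13215.result R 𝒜 N 𝒩

end general

section conc

variable {R : Type u} [CommRing R] [IsNoetherianRing R]
variable {𝒜 : ℤ → AddSubgroup R} [GradedRing 𝒜]
variable {N : Type u} [AddCommGroup N] [Module R N] {𝒩 : ℤ → AddSubgroup N} [Decomposition 𝒩]
  [SetLike.GradedSMul 𝒜 𝒩]
variable {Q : Type u} [AddCommGroup Q] [Module R Q] {𝒬 : ℤ → AddSubgroup Q} [Decomposition 𝒬]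
  [SetLike.GradedSMul 𝒜 𝒬]

/-- the graded local cohomology of `N` is concentrated in cohomological degree `s`, vanishes there
in degrees `> -s` and does not vanish in degree `-s`. -/
def Conc (𝒩 : ℤ → AddSubgroup N) [Decomposition 𝒩] [SetLike.GradedSMul 𝒜 𝒩] (a : Ideal R)
    (s : ℕ) : Prop :=
  ∀ E : StarInjRes 𝒜 𝒩, (∀ i, i ≠ s → ∀ g, HV E a i g) ∧ (∀ g : ℤ, -(s : ℤ) < g → HV E a s g) ∧
    ¬ HV E a s (-(s : ℤ))

theorem Conc_step {a : Ideal R} {x : R} (hx : x ∈ 𝒜 1) (hxa : x ∈ a)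
    (hreg : Function.Injective (fun n : N => x • n)) (π : N →ₗ[R] Q) (hπ : IsGrHom 𝒩 𝒬 π)
    (hπs : Function.Surjective π)
    (hker : LinearMap.ker π = LinearMap.range (x • (LinearMap.id : N →ₗ[R] N)))
    (s : ℕ) (hQ : Conc (𝒜 := 𝒜) 𝒬 a s) : Conc (𝒜 := 𝒜) 𝒩 a (s + 1) := by
  intro EN
  obtain ⟨EQ⟩ := exists_res (𝒜 := 𝒜) Q 𝒬
  obtain ⟨h1, h2, h3⟩ := hQ EQ
  have p1 : ∀ i, i ≠ s + 1 → ∀ g, HV EN a i g := by
    intro i hi g
    cases i with
    | zero => exact HV_zero_of_regular EN hxa hreg g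
    | succ i =>
      have hne : i ≠ s := fun h => hi (by rw [h])
      exact HV_succ_of_quot EN EQ hx hreg π hπ hπs hker hxa i Set.univ (fun _ _ => trivial)
        (fun g _ => h1 i hne g) g trivial
  refine ⟨p1, ?_, ?_⟩
  · intro g hg
    refine HV_succ_of_quot EN EQ hx hreg π hπ hπs hker hxa s {g | -(s : ℤ) < g} ?_
      (fun g hg => h2 g hg) g ?_
    · intro g hg
      simp only [Set.mem_ofPred_eq] at hg ⊢
      omega
    · simp only [Set.mem_ofPred_eq]
      push_cast at hg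
      omega
  · intro h
    apply h3
    refine HV_quot EN EQ hx hreg π hπ hπs hker (p1 s (Nat.ne_of_lt (Nat.lt_succ_self s)) _) ?_
    have : (-1 : ℤ) + -(s : ℤ) = -((s + 1 : ℕ) : ℤ) := by push_cast; ring
    rw [this]
    exact h

end conc

section poly

open MvPolynomial GrSyz

variable (k : Type u) [Field k] (m : ℕ)

/-- the standard grading of the polynomial ring with additive subgroups as pieces -/
noncomputable abbrev sg : ℤ → AddSubgroup (MvPolynomial (Fin m) k) := flat (stdGr k (Fin m))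

/-- the irrelevant ideal as a homogeneous ideal for `sg` -/
noncomputable abbrev am : HomogeneousIdeal (sg k m) := flatIdeal _ (irrel (stdGr k (Fin m)))

theorem X_mem_sg (j : Fin m) : (X j : MvPolynomial (Fin m) k) ∈ sg k m 1 :=
  isWeightedHomogeneous_X k (fun _ : Fin m => (1 : ℤ)) j

theorem X_mem_am (j : Fin m) : (X j : MvPolynomial (Fin m) k) ∈ (am k m).toIdeal :=
  Ideal.subset_span ⟨1, one_pos, X_mem_sg k m j⟩

theorem am_eq_Iv : (am k m).toIdeal = TorVanish.Iv k m m := by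
  rw [TorVanish.Iv_top]
  exact GrTor.irrel_eq_ker_constantCoeff k (Fin m)

theorem Iv_isHomogeneous (j : ℕ) :
    (TorVanish.Iv k m j : Submodule (MvPolynomial (Fin m) k) (MvPolynomial (Fin m) k)).IsHomogeneous
      (sg k m) := by
  apply Helper66.GradedFree.span_isHomogeneous (sg k m) (sg k m)
  rintro _ ⟨i, _, rfl⟩
  exact ⟨1, X_mem_sg k m i⟩

/-- the pieces of the graded module `S / (x_0, …, x_{j-1})` -/
noncomputable abbrev Qp (j : ℕ) : ℤ → AddSubgroup (MvPolynomial (Fin m) k ⧸ TorVanish.Iv k m j) :=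
  Helper66.GradedQuot.qpiece (sg k m) (TorVanish.Iv k m j)

noncomputable instance QpDec (j : ℕ) : Decomposition (Qp k m j) :=
  Helper66.GradedQuot.quotDecomposition (sg k m) (TorVanish.Iv k m j) (Iv_isHomogeneous k m j)

instance QpSMul (j : ℕ) : SetLike.GradedSMul (sg k m) (Qp k m j) :=
  Helper66.GradedQuot.quotGradedSMul (sg k m) (sg k m) (TorVanish.Iv k m j)

/-- the projection `S / I_j → S / I_{j+1}` -/
noncomputable def Qπ (j : ℕ) : (MvPolynomial (Fin m) k ⧸ TorVanish.Iv k m j) →ₗ[MvPolynomial (Fin m) k]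
    (MvPolynomial (Fin m) k ⧸ TorVanish.Iv k m (j + 1)) :=
  (TorVanish.Iv k m j).liftQ (TorVanish.Iv k m (j + 1)).mkQ
    (by rw [Submodule.ker_mkQ]; exact TorVanish.Iv_mono k m (Nat.le_succ j))

theorem Qπ_mk (j : ℕ) (y : MvPolynomial (Fin m) k) :
    Qπ k m j ((TorVanish.Iv k m j).mkQ y) = (TorVanish.Iv k m (j + 1)).mkQ y := rfl

theorem Qm_base : Conc (𝒜 := sg k m) (Qp k m m) (am k m).toIdeal 0 := by
  intro E
  have htor : ∀ x : MvPolynomial (Fin m) k ⧸ TorVanish.Iv k m m,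
      ∃ n : ℕ, ∀ r ∈ (am k m).toIdeal ^ n, r • x = 0 := by
    intro x
    refine ⟨1, fun r hr => ?_⟩
    rw [pow_one] at hr
    obtain ⟨y, rfl⟩ := (TorVanish.Iv k m m).mkQ_surjective x
    rw [← map_smul]
    refine (Submodule.Quotient.mk_eq_zero _).2 ?_
    rw [← am_eq_Iv]
    exact Ideal.mul_mem_right _ _ hr
  refine ⟨fun i hi g => HV_of_torsion E (am k m) htor i (Nat.pos_of_ne_zero hi) g, ?_, ?_⟩
  · intro g hg
    rw [HV_zero_iff]
    rintro n ⟨y, hy, rfl⟩ _
    refine (Submodule.Quotient.mk_eq_zero _).2 ?_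
    rw [← am_eq_Iv]
    exact Ideal.subset_span ⟨g, by simpa using hg, hy⟩
  · intro h
    rw [HV_zero_iff] at h
    have h1 : (TorVanish.Iv k m m).mkQ (1 : MvPolynomial (Fin m) k) = 0 := by
      refine h _ ⟨1, ?_, rfl⟩ ?_
      · exact SetLike.GradedOne.one_mem (A := sg k m)
      · obtain ⟨n, hn⟩ := htor ((TorVanish.Iv k m m).mkQ (1 : MvPolynomial (Fin m) k))
        exact ⟨n, hn⟩
    have h2 : (1 : MvPolynomial (Fin m) k) ∈ TorVanish.Iv k m m :=
      (Submodule.Quotient.mk_eq_zero _).1 h1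
    rw [← am_eq_Iv] at h2
    exact one_notMem_irrel k (Fin m) h2

theorem Qm_conc : ∀ (s j : ℕ), j + s = m →
    Conc (𝒜 := sg k m) (Qp k m j) (am k m).toIdeal s := by
  intro s
  induction s with
  | zero =>
    intro j hj
    have : j = m := by omega
    subst this
    exact Qm_base k j
  | succ s ih =>
    intro j hj
    have hjm : j < m := by omega
    have ih' := ih (j + 1) (by omega)
    let jj : Fin m := ⟨j, hjm⟩
    refine Conc_step (x := X jj) (X_mem_sg k m jj) (X_mem_am k m jj) ?_ (Qπ k m j) ?_ ?_ ?_ s ih'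
    · -- regular
      intro n₁ n₂ h
      rw [← sub_eq_zero] at h ⊢
      change X jj • n₁ - X jj • n₂ = 0 at h
      rw [← smul_sub] at h
      generalize n₁ - n₂ = n at h
      obtain ⟨y, rfl⟩ := (TorVanish.Iv k m j).mkQ_surjective n
      rw [← map_smul] at h
      have h1 : X jj * y ∈ TorVanish.Iv k m j := (Submodule.Quotient.mk_eq_zero _).1 h
      exact (Submodule.Quotient.mk_eq_zero _).2 (TorVanish.Iv_reg k m jj y h1)
    · -- graded
      rintro g _ ⟨y, hy, rfl⟩
      exact ⟨y, hy, rfl⟩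
    · -- surjective
      intro z
      obtain ⟨y, rfl⟩ := (TorVanish.Iv k m (j + 1)).mkQ_surjective z
      exact ⟨(TorVanish.Iv k m j).mkQ y, rfl⟩
    · -- kernel
      apply le_antisymm
      · intro n hn
        obtain ⟨y, rfl⟩ := (TorVanish.Iv k m j).mkQ_surjective n
        rw [LinearMap.mem_ker, Qπ_mk] at hn
        have h1 : y ∈ TorVanish.Iv k m (jj.val + 1) := (Submodule.Quotient.mk_eq_zero _).1 hn
        obtain ⟨z, hz⟩ := TorVanish.Iv_exact k m jj y h1
        refine ⟨(TorVanish.Iv k m j).mkQ z, ?_⟩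
        rw [LinearMap.smul_apply, LinearMap.id_apply, ← map_smul, eq_comm, ← sub_eq_zero, ← map_sub]
        exact (Submodule.Quotient.mk_eq_zero _).2 hz
      · rintro _ ⟨n, rfl⟩
        obtain ⟨y, rfl⟩ := (TorVanish.Iv k m j).mkQ_surjective n
        rw [LinearMap.mem_ker, LinearMap.smul_apply, LinearMap.id_apply, ← map_smul, Qπ_mk]
        refine (Submodule.Quotient.mk_eq_zero _).2 ?_
        exact Ideal.mul_mem_right _ _ (TorVanish.X_mem_Iv k m jj)

/-- graded local cohomology of the polynomial ring in `m` variables. -/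
theorem poly_conc : Conc (𝒜 := sg k m) (sg k m) (am k m).toIdeal m := by
  have h0 := Qm_conc k m m 0 (by omega)
  have hbot : TorVanish.Iv k m 0 = ⊥ := TorVanish.Iv_zero k m
  let e : MvPolynomial (Fin m) k ≃ₗ[MvPolynomial (Fin m) k]
      (MvPolynomial (Fin m) k ⧸ TorVanish.Iv k m 0) :=
    (Submodule.quotEquivOfEqBot (TorVanish.Iv k m 0) hbot).symm
  have he : ∀ y, e y = (TorVanish.Iv k m 0).mkQ y := fun y => rfl
  have hgr : IsGrHom (sg k m) (Qp k m 0) e.toLinearMap := fun g y hy => ⟨y, hy, rfl⟩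
  have hgr' : IsGrHom (Qp k m 0) (sg k m) e.symm.toLinearMap := by
    rintro g _ ⟨y, hy, rfl⟩
    change e.symm ((TorVanish.Iv k m 0).mkQ y) ∈ sg k m g
    rw [← he, e.symm_apply_apply]
    exact hy
  obtain ⟨E0⟩ := exists_res (𝒜 := sg k m) (MvPolynomial (Fin m) k ⧸ TorVanish.Iv k m 0) (Qp k m 0)
  obtain ⟨h1, h2, h3⟩ := h0 E0
  intro E
  have key : ∀ i g, HV E (am k m).toIdeal i g ↔ HV E0 (am k m).toIdeal i g :=
    fun i g => HV_iff_of_equiv E E0 e hgr hgr'
  refine ⟨fun i hi g => (key i g).2 (h1 i hi g), fun g hg => (key m g).2 (h2 g hg), ?_⟩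
  intro h
  exact h3 ((key m _).1 h)

end poly

end Groth.Agent.Lib.Helper77.GLC
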