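import Mathlib
import Groth.Prelude.Def_GrLC
import Groth.Agent.Lib.Helper77.GLC5

/-!
GLC8 (helper77): exactness of the long exact sequence of graded local cohomology at the middle
term, shifted lifts, and the behaviour of graded local cohomology under `M ↦ M / xM` for a
homogeneous element `x` of degree one whose annihilator in `M` is `a`-torsion (quasi-regular case).
-/

set_option autoImplicit false
set_option linter.unusedSectionVars false
universe u

namespace Groth.Agent.Lib.Helper77.GLC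

open GrLC DirectSum

variable {ι : Type} [AddCommGroup ι] [DecidableEq ι] {R : Type u} [CommRing R]
variable {𝒜 : ι → AddSubgroup R} [GradedRing 𝒜]

section middle

variable {M' : Type u} [AddCommGroup M'] [Module R M'] {ℳ' : ι → AddSubgroup M'} [Decomposition ℳ']
  [SetLike.GradedSMul 𝒜 ℳ']
variable {M : Type u} [AddCommGroup M] [Module R M] {ℳ : ι → AddSubgroup M} [Decomposition ℳ]
  [SetLike.GradedSMul 𝒜 ℳ]
variable {M'' : Type u} [AddCommGroup M''] [Module R M''] {ℳ'' : ι → AddSubgroup M''}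
  [Decomposition ℳ''] [SetLike.GradedSMul 𝒜 ℳ'']
variable {f : M' →ₗ[R] M} {p : M →ₗ[R] M''}

namespace Horse

variable {E' : StarInjRes 𝒜 ℳ'} {E'' : StarInjRes 𝒜 ℳ''} (H : Horse ℳ E' E'' f p)
  (hS : GSES ℳ' ℳ ℳ'' f p)

/-- the projection of the horseshoe resolution onto `E''`, a lift of `p` -/
noncomputable def snd : Lift (H.res hS) E'' p where
  φ n := psnd _ _
  gr n := fun g z hz => (mem_gr_prod.1 hz).2
  comm0 := rfl
  comm n := rfl

/-- if `H^i(M')_g = 0`, a cocycle of the horseshoe resolution whose image in `E''` is a coboundary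
is a coboundary. -/
theorem isBd_of_psnd_isBd {a : Ideal R} {i : ℕ} {g : ι} (h' : HV E' a i g)
    {z : ((H.res hS).X i).carrier} (hz : Gm (H.res hS) a i g z) (hdz : (H.res hS).d i z = 0)
    (hb2 : IsBd E'' a i g (psnd _ _ z)) : IsBd (H.res hS) a i g z := by
  rw [gm_res_iff] at hz
  have hdz : H.dd i z = (0 : (prodGMod 𝒜 (E'.X (i + 1)) (E''.X (i + 1))).carrier) := hdz
  have hd1 : E'.d i (pfst _ _ z) + H.θ i (psnd _ _ z) = 0 := by rw [← pfst_dd H, hdz, map_zero]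
  cases i with
  | zero =>
    change psnd _ _ z = 0 at hb2
    rw [hb2, map_zero, add_zero] at hd1
    have hb1 := h' _ hz.1 hd1
    change pfst _ _ z = 0 at hb1
    change z = (0 : (prodGMod 𝒜 (E'.X 0) (E''.X 0)).carrier)
    apply pext
    · rw [hb1, map_zero]
    · rw [hb2, map_zero]
  | succ i =>
    obtain ⟨u'', hu'', hdu''⟩ := hb2
    have ht : Gm E' a (i + 1) g (pfst _ _ z - H.θ i u'') :=
      hz.1.sub ⟨map_mem_gam (H.θ i) hu''.1, H.θ_gr i g _ hu''.2⟩
    have hdt : E'.d (i + 1) (pfst _ _ z - H.θ i u'') = 0 := by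
      rw [map_sub, H.θ_succ_apply, hdu'', sub_neg_eq_add, hd1]
    obtain ⟨u', hu', hdu'⟩ := h' _ ht hdt
    refine ⟨pmk u' u'', (gm_res_iff H hS).2 ⟨hu', hu''⟩, ?_⟩
    change H.dd i (pmk u' u'') = z
    apply pext
    · rw [pfst_dd, pfst_pmk, psnd_pmk, hdu']; abel
    · rw [psnd_dd, psnd_pmk, hdu'']

end Horse

/-- LES, exactness at the middle: if `H^i(M')_g = 0` then `H^i(M)_g → H^i(M'')_g` is injective, for
the map induced by any lift of `p`. -/
theorem isBd_of_proj (hS : GSES ℳ' ℳ ℳ'' f p) (E' : StarInjRes 𝒜 ℳ') (E : StarInjRes 𝒜 ℳ)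
    (E'' : StarInjRes 𝒜 ℳ'') {a : Ideal R} {i : ℕ} {g : ι} (h' : HV E' a i g) (P : Lift E E'' p)
    {z : (E.X i).carrier} (hz : Gm E a i g z) (hdz : E.d i z = 0)
    (hb : IsBd E'' a i g (P.φ i z)) : IsBd E a i g z := by
  obtain ⟨H⟩ := exists_horse E' E'' hS
  obtain ⟨c⟩ := exists_lift (H.res hS) E LinearMap.id (fun _ _ h => h)
  obtain ⟨c'⟩ := exists_lift E (H.res hS) LinearMap.id (fun _ _ h => h)
  have hz2 : Gm (H.res hS) a i g (c'.φ i z) := c'.map_gm hz
  have hdz2 : (H.res hS).d i (c'.φ i z) = 0 := by rw [← c'.comm_apply, hdz, map_zero]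
  -- the image of `c' z` in `E''` is a coboundary
  have h1 := isBd_sub_of_lifts (((H.snd hS).comp c').congr (LinearMap.comp_id p)) P hz hdz
  change IsBd E'' a i g ((H.snd hS).φ i (c'.φ i z) - P.φ i z) at h1
  have h2 : IsBd E'' a i g (psnd _ _ (c'.φ i z)) := by
    have := h1.add hb
    rwa [sub_add_cancel] at this
  have h3 := H.isBd_of_psnd_isBd hS h' hz2 hdz2 h2
  have h4 := c.map_isBd h3
  have h5 := isBd_sub_of_lifts ((c.comp c').congr (LinearMap.id_comp _)) (Lift.refl E) hz hdz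
  change IsBd E a i g (c.φ i (c'.φ i z) - z) at h5
  have := h4.sub h5
  rwa [sub_sub_cancel] at this

end middle

section shiftLift

variable {M : Type u} [AddCommGroup M] [Module R M] {ℳ : ι → AddSubgroup M} [Decomposition ℳ]
  [SetLike.GradedSMul 𝒜 ℳ]
variable {N : Type u} [AddCommGroup N] [Module R N] {𝒩 : ι → AddSubgroup N} [Decomposition 𝒩]
  [SetLike.GradedSMul 𝒜 𝒩]

/-- a linear map as a map between the shifted modules -/
noncomputable def shiftMap (ℳ : ι → AddSubgroup M) [Decomposition ℳ] [SetLike.GradedSMul 𝒜 ℳ]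
    (𝒩 : ι → AddSubgroup N) [Decomposition 𝒩] [SetLike.GradedSMul 𝒜 𝒩] (f : M →ₗ[R] N) (s : ι) :
    (Helper66.GradedShift.shiftGMod 𝒜 ℳ s).carrier →ₗ[R]
      (Helper66.GradedShift.shiftGMod 𝒜 𝒩 s).carrier := f

theorem shiftMap_gr {f : M →ₗ[R] N} (hf : IsGrHom ℳ 𝒩 f) (s : ι) :
    IsGrHom (Helper66.GradedShift.shiftGMod 𝒜 ℳ s).gr (Helper66.GradedShift.shiftGMod 𝒜 𝒩 s).gr
      (shiftMap (𝒜 := 𝒜) ℳ 𝒩 f s) :=
  fun g m hm => hf (s + g) m hm

/-- the shift of a lift -/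
noncomputable def Lift.shift {E : StarInjRes 𝒜 ℳ} {E' : StarInjRes 𝒜 𝒩} {f : M →ₗ[R] N}
    (L : Lift E E' f) (s : ι) : Lift (shiftRes E s) (shiftRes E' s) (shiftMap (𝒜 := 𝒜) ℳ 𝒩 f s) where
  φ := L.φ
  gr n := fun g m hm => L.gr n (s + g) m hm
  comm0 := L.comm0
  comm := L.comm

end shiftLift

section quasi

variable [Module.Free ℤ ι] [Module.Finite ℤ ι] [IsNoetherianRing R]
variable {M : Type u} [AddCommGroup M] [Module R M] {ℳ : ι → AddSubgroup M} [Decomposition ℳ]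
  [SetLike.GradedSMul 𝒜 ℳ]
variable {N : Type u} [AddCommGroup N] [Module R N] {𝒩 : ι → AddSubgroup N} [Decomposition 𝒩]
  [SetLike.GradedSMul 𝒜 𝒩]

/-- the annihilator of a homogeneous element in a graded module is a homogeneous submodule -/
theorem ker_smul_isHomogeneous {e : ι} {x : R} (hx : x ∈ 𝒜 e) :
    (LinearMap.ker (x • (LinearMap.id : M →ₗ[R] M))).IsHomogeneous ℳ := by
  intro g y hy
  rw [LinearMap.mem_ker] at hy ⊢
  change x • y = 0 at hy
  change x • (decompose ℳ y g : M) = 0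
  rw [← Helper66.Graded.decompose_smul_homog 𝒜 ℳ hx y g, hy, decompose_zero]
  rfl

variable (a : HomogeneousIdeal 𝒜) {e : ι} {x : R} (hx : x ∈ 𝒜 e)
  (hK : ∀ y : M, x • y = 0 → ∃ n : ℕ, ∀ r ∈ a.toIdeal ^ n, r • y = 0)
  (π : M →ₗ[R] N) (hπ : IsGrHom ℳ 𝒩 π) (hπs : Function.Surjective π)
  (hker : LinearMap.ker π = LinearMap.range (x • (LinearMap.id : M →ₗ[R] M)))
  (EM : StarInjRes 𝒜 ℳ) (EN : StarInjRes 𝒜 𝒩)

include hx hK hπ hπs hker

/-- quasi-regular case: `H^i(M)_g = 0` and `H^{i+1}(M)_{g-e} = 0` imply `H^i(M/xM)_g = 0`; and if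
`H^i(M/xM)_{e+g} = 0` then `x : H^{i+1}(M)_g → H^{i+1}(M)_{e+g}` is injective. -/
theorem quasi_main :
    (∀ (i : ℕ) (g : ι), HV EM a.toIdeal i g → HV EM a.toIdeal (i + 1) (-e + g) →
        HV EN a.toIdeal i g) ∧
    (∀ (i : ℕ) (g : ι), HV EN a.toIdeal i (e + g) → ∀ z, Gm EM a.toIdeal (i + 1) g z →
        EM.d (i + 1) z = 0 → IsBd EM a.toIdeal (i + 1) (e + g) (x • z) →
        IsBd EM a.toIdeal (i + 1) g z) := by
  classical
  set K : Submodule R M := LinearMap.ker (x • (LinearMap.id : M →ₗ[R] M)) with hKdef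
  have hKhom : K.IsHomogeneous ℳ := ker_smul_isHomogeneous hx
  let _ : Decomposition (Helper66.GradedSub.spiece ℳ K) :=
    Helper66.GradedSub.subDecomposition ℳ K hKhom
  let _ : SetLike.GradedSMul 𝒜 (Helper66.GradedSub.spiece ℳ K) :=
    Helper66.GradedSub.subGradedSMul 𝒜 ℳ K
  let _ : Decomposition (Helper66.GradedQuot.qpiece ℳ K) :=
    Helper66.GradedQuot.quotDecomposition ℳ K hKhom
  let _ : SetLike.GradedSMul 𝒜 (Helper66.GradedQuot.qpiece ℳ K) :=
    Helper66.GradedQuot.quotGradedSMul 𝒜 ℳ K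
  have hS1 : GSES (Helper66.GradedSub.spiece ℳ K) ℳ (Helper66.GradedQuot.qpiece ℳ K)
      K.subtype K.mkQ :=
    { f_gr := fun _ _ hx => hx
      p_gr := Helper66.GradedQuot.mkQ_grHom ℳ K
      f_inj := Subtype.val_injective
      p_surj := K.mkQ_surjective
      exact := by rw [Submodule.ker_mkQ, Submodule.range_subtype] }
  let xb : (Helper66.GradedShift.shiftGMod 𝒜 (Helper66.GradedQuot.qpiece ℳ K) (-e)).carrier →ₗ[R] M :=
    K.liftQ (x • (LinearMap.id : M →ₗ[R] M)) le_rfl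
  have hxb : ∀ m : M, xb (K.mkQ m) = x • m := fun m => rfl
  have hS2 : GSES (Helper66.GradedShift.shiftGMod 𝒜 (Helper66.GradedQuot.qpiece ℳ K) (-e)).gr ℳ 𝒩
      xb π :=
    { f_gr := by
        rintro g _ ⟨m, (hm : m ∈ ℳ (-e + g)), rfl⟩
        change xb (K.mkQ m) ∈ ℳ g
        rw [hxb]
        have := SetLike.GradedSMul.smul_mem (A := 𝒜) (B := ℳ) hx hm
        rw [vadd_eq_add, add_neg_cancel_left] at this
        exact this
      p_gr := hπ
      f_inj := by
        rw [← LinearMap.ker_eq_bot]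
        exact Submodule.ker_liftQ_eq_bot _ _ _ le_rfl
      p_surj := hπs
      exact := by
        rw [hker]
        exact (Submodule.range_liftQ K (x • (LinearMap.id : M →ₗ[R] M)) le_rfl).symm }
  obtain ⟨EK⟩ := exists_res (𝒜 := 𝒜) ↥K (Helper66.GradedSub.spiece ℳ K)
  obtain ⟨EQ⟩ := exists_res (𝒜 := 𝒜) (M ⧸ K) (Helper66.GradedQuot.qpiece ℳ K)
  have F1 : ∀ i g, 0 < i → HV EK a.toIdeal i g := by
    intro i g hi
    refine HV_of_torsion EK a ?_ i hi g
    intro y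
    obtain ⟨n, hn⟩ := hK y.1 (LinearMap.mem_ker.1 y.2)
    exact ⟨n, fun r hr => Subtype.ext (hn r hr)⟩
  have F2 : ∀ i g, 0 < i → (HV EM a.toIdeal i g ↔ HV EQ a.toIdeal i g) := by
    intro i g hi
    exact ⟨fun h => HV_right hS1 EK EM EQ h (F1 (i + 1) g (Nat.succ_pos i)),
      fun h => HV_mid hS1 EK EM EQ (F1 i g hi) h⟩
  refine ⟨?_, ?_⟩
  · intro i g h h'
    exact HV_right hS2 (shiftRes EQ (-e)) EM EN h
      ((HV_shiftRes_iff EQ (-e)).2 ((F2 (i + 1) (-e + g) (Nat.succ_pos i)).1 h'))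
  · intro i g hN z hz hdz hb
    obtain ⟨Lq⟩ := exists_lift EM EQ K.mkQ (Helper66.GradedQuot.mkQ_grHom ℳ K)
    obtain ⟨Lx⟩ := exists_lift (shiftRes EQ (-e)) EM xb hS2.f_gr
    have hmap : xb ∘ₗ shiftMap (𝒜 := 𝒜) ℳ (Helper66.GradedQuot.qpiece ℳ K) K.mkQ (-e) =
        mulMap ℳ x (-e) := LinearMap.ext fun (m : M) => rfl
    have hz' : Gm (shiftRes EM (-e)) a.toIdeal (i + 1) (e + g) z := by
      rw [gm_shiftRes_iff, neg_add_cancel_left]; exact hz
    have h1 := isBd_sub_of_lifts ((Lx.comp (Lq.shift (-e))).congr hmap) (mulLift EM hx) hz' hdz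
    change IsBd EM a.toIdeal (i + 1) (e + g) (Lx.φ (i + 1) (Lq.φ (i + 1) z) - x • z) at h1
    have h2 : IsBd EM a.toIdeal (i + 1) (e + g) (Lx.φ (i + 1) (Lq.φ (i + 1) z)) := by
      have := h1.add hb
      rwa [sub_add_cancel] at this
    have hzq : Gm EQ a.toIdeal (i + 1) g (Lq.φ (i + 1) z) := Lq.map_gm hz
    have hzq' : Gm (shiftRes EQ (-e)) a.toIdeal (i + 1) (e + g) (Lq.φ (i + 1) z) := by
      rw [gm_shiftRes_iff, neg_add_cancel_left]; exact hzq
    have hdq : EQ.d (i + 1) (Lq.φ (i + 1) z) = 0 := by rw [← Lq.comm_apply, hdz, map_zero]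
    have h3 := isBd_of_lift hS2 (shiftRes EQ (-e)) EM EN hN Lx hzq' hdq h2
    rw [isBd_shiftRes_iff, neg_add_cancel_left] at h3
    exact isBd_of_proj hS1 EK EM EQ (F1 (i + 1) g (Nat.succ_pos i)) Lq hz hdz h3

end quasi

section quasiInt

variable {R : Type u} [CommRing R] [IsNoetherianRing R] {𝒜 : ℤ → AddSubgroup R} [GradedRing 𝒜]
variable {M : Type u} [AddCommGroup M] [Module R M] {ℳ : ℤ → AddSubgroup M} [Decomposition ℳ]
  [SetLike.GradedSMul 𝒜 ℳ]
variable {N : Type u} [AddCommGroup N] [Module R N] {𝒩 : ℤ → AddSubgroup N} [Decomposition 𝒩]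
  [SetLike.GradedSMul 𝒜 𝒩]

/-- `M` is `d`-regular in the sense of graded local cohomology: `H^i_a(M)_g = 0` for `g > d - i`. -/
def RegHV (E : StarInjRes 𝒜 ℳ) (a : Ideal R) (d : ℤ) : Prop :=
  ∀ (i : ℕ) (g : ℤ), d - i < g → HV E a i g

/-- the local cohomology form of `reg M = max (end H^0(M), reg (M/xM))` for a quasi-regular linear
form `x`. -/
theorem regHV_iff_of_quasi (a : HomogeneousIdeal 𝒜) {x : R} (hx : x ∈ 𝒜 1) (hxa : x ∈ a.toIdeal)
    (hK : ∀ y : M, x • y = 0 → ∃ n : ℕ, ∀ r ∈ a.toIdeal ^ n, r • y = 0)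
    (π : M →ₗ[R] N) (hπ : IsGrHom ℳ 𝒩 π) (hπs : Function.Surjective π)
    (hker : LinearMap.ker π = LinearMap.range (x • (LinearMap.id : M →ₗ[R] M)))
    (EM : StarInjRes 𝒜 ℳ) (EN : StarInjRes 𝒜 𝒩) (d : ℤ) :
    RegHV EM a.toIdeal d ↔ (∀ g, d < g → HV EM a.toIdeal 0 g) ∧ RegHV EN a.toIdeal d := by
  obtain ⟨q1, q2⟩ := quasi_main a hx hK π hπ hπs hker EM EN
  constructor
  · intro h
    refine ⟨fun g hg => h 0 g (by simpa using hg), fun i g hg => ?_⟩
    refine q1 i g (h i g hg) (h (i + 1) (-1 + g) ?_)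
    push_cast
    omega
  · rintro ⟨h0, hN⟩ i g hg
    cases i with
    | zero => exact h0 g (by simpa using hg)
    | succ i =>
      refine HV_of_smul_injective EM hx hxa (i + 1) {g | d - ((i + 1 : ℕ) : ℤ) < g} ?_ ?_ g hg
      · intro g hg
        simp only [Set.mem_ofPred_eq] at hg ⊢
        omega
      · intro g hg z hz hdz hb
        simp only [Set.mem_ofPred_eq] at hg
        refine q2 i g (hN i (1 + g) ?_) z hz hdz hb
        push_cast at hg
        omega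

end quasiInt

end Groth.Agent.Lib.Helper77.GLC
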