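import Mathlib
import Groth.Prelude.Def_GrLC
import Groth.Agent.Lib.Helper77.GLC8

/-!
GLC11 (helper77): graded local cohomology and regular sequences of linear forms:
`RegHV M d ↔ RegHV (M/(ys)M) d`.
-/

set_option autoImplicit false
set_option linter.unusedSectionVars false
universe u

namespace Groth.Agent.Lib.Helper77.GLC

open GrLC DirectSum Pointwise

section

variable {ι : Type} [AddCommGroup ι] [DecidableEq ι] {R : Type u} [CommRing R]
variable {𝒜 : ι → AddSubgroup R} [GradedRing 𝒜]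
variable {M : Type u} [AddCommGroup M] [Module R M] {ℳ : ι → AddSubgroup M} [Decomposition ℳ]
  [SetLike.GradedSMul 𝒜 ℳ]

/-- `xM` is a homogeneous submodule for homogeneous `x` -/
theorem range_smul_isHomogeneous {e : ι} {x : R} (hx : x ∈ 𝒜 e) :
    (LinearMap.range (x • (LinearMap.id : M →ₗ[R] M))).IsHomogeneous ℳ := by
  rintro g _ ⟨m, rfl⟩
  refine ⟨(decompose ℳ m (-e + g) : M), ?_⟩
  change x • (decompose ℳ m (-e + g) : M) = (decompose ℳ (x • m) g : M)
  rw [← Helper66.Graded.decompose_smul_homog 𝒜 ℳ hx m (-e + g), add_neg_cancel_left]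

theorem smul_top_eq_range (x : R) :
    (x • (⊤ : Submodule R M)) = LinearMap.range (x • (LinearMap.id : M →ₗ[R] M)) := by
  ext m
  rw [Submodule.mem_smul_pointwise_iff_exists, LinearMap.mem_range]
  constructor
  · rintro ⟨b, -, rfl⟩
    exact ⟨b, rfl⟩
  · rintro ⟨b, rfl⟩
    exact ⟨b, Submodule.mem_top, rfl⟩

end

section regseq

variable {R : Type u} [CommRing R] [IsNoetherianRing R] {𝒜 : ℤ → AddSubgroup R} [GradedRing 𝒜]

/-- if `ys` is a weakly regular sequence of linear forms in `a` on the graded module `M`, then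
`M` and `M/(ys)M` have the same local cohomological regularity. -/
theorem regHV_iff_of_regular_seq (a : HomogeneousIdeal 𝒜) (ys : List R) :
    ∀ (M : Type u) [AddCommGroup M] [Module R M] (ℳ : ℤ → AddSubgroup M) [Decomposition ℳ]
      [SetLike.GradedSMul 𝒜 ℳ] (_ : ∀ y ∈ ys, y ∈ 𝒜 1 ∧ y ∈ a.toIdeal)
      (_ : RingTheory.Sequence.IsWeaklyRegular M ys)
      (N : Type u) [AddCommGroup N] [Module R N] (𝒩 : ℤ → AddSubgroup N) [Decomposition 𝒩]
      [SetLike.GradedSMul 𝒜 𝒩] (π : M →ₗ[R] N) (_ : IsGrHom ℳ 𝒩 π) (_ : Function.Surjective π)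
      (_ : LinearMap.ker π = Ideal.ofList ys • (⊤ : Submodule R M))
      (EM : StarInjRes 𝒜 ℳ) (EN : StarInjRes 𝒜 𝒩) (d : ℤ),
      RegHV EM a.toIdeal d ↔ RegHV EN a.toIdeal d := by
  induction ys with
  | nil =>
    intro M _ _ ℳ _ _ _ _ N _ _ 𝒩 _ _ π hπ hπs hker EM EN d
    rw [Ideal.ofList_nil, Submodule.bot_smul] at hker
    have hbij : Function.Bijective π := ⟨LinearMap.ker_eq_bot.1 hker, hπs⟩
    let e : M ≃ₗ[R] N := LinearEquiv.ofBijective π hbij
    have he : IsGrHom ℳ 𝒩 e.toLinearMap := hπ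
    have he' : IsGrHom 𝒩 ℳ e.symm.toLinearMap := Helper66.GradedSub.symm_grHom ℳ 𝒩 e he
    unfold RegHV
    exact forall_congr' fun i => forall_congr' fun g => imp_congr Iff.rfl
      (HV_iff_of_equiv EM EN e he he')
  | cons y ys ih =>
    intro M _ _ ℳ _ _ hys hreg N _ _ 𝒩 _ _ π hπ hπs hker EM EN d
    rw [RingTheory.Sequence.isWeaklyRegular_cons_iff] at hreg
    obtain ⟨hy, hreg'⟩ := hreg
    have hy1 : y ∈ 𝒜 1 := (hys y (List.mem_cons_self ..)).1
    have hya : y ∈ a.toIdeal := (hys y (List.mem_cons_self ..)).2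
    have hKeq : (y • (⊤ : Submodule R M)) = LinearMap.range (y • (LinearMap.id : M →ₗ[R] M)) :=
      smul_top_eq_range y
    have hKhom : (y • (⊤ : Submodule R M)).IsHomogeneous ℳ := by
      rw [hKeq]; exact range_smul_isHomogeneous hy1
    let _ : Decomposition (Helper66.GradedQuot.qpiece ℳ (y • (⊤ : Submodule R M))) :=
      Helper66.GradedQuot.quotDecomposition ℳ _ hKhom
    let _ : SetLike.GradedSMul 𝒜 (Helper66.GradedQuot.qpiece ℳ (y • (⊤ : Submodule R M))) :=
      Helper66.GradedQuot.quotGradedSMul 𝒜 ℳ _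
    obtain ⟨EQ⟩ := exists_res (𝒜 := 𝒜) (M ⧸ (y • (⊤ : Submodule R M)))
      (Helper66.GradedQuot.qpiece ℳ (y • (⊤ : Submodule R M)))
    have hKle : (y • (⊤ : Submodule R M)) ≤ LinearMap.ker π := by
      rw [hker, Ideal.ofList_cons, Submodule.sup_smul, Submodule.ideal_span_singleton_smul]
      exact le_sup_left
    have hker1 : LinearMap.ker ((y • (⊤ : Submodule R M)).liftQ π hKle) =
        Ideal.ofList ys • (⊤ : Submodule R (M ⧸ (y • (⊤ : Submodule R M)))) := by
      rw [Submodule.ker_liftQ, hker, Ideal.ofList_cons, Submodule.sup_smul,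
        Submodule.ideal_span_singleton_smul, Submodule.map_sup, Submodule.map_smul'',
        Submodule.map_top, Submodule.range_mkQ]
      rw [Submodule.mkQ_map_self, bot_sup_eq]
    have h1 := ih (M ⧸ (y • (⊤ : Submodule R M)))
      (Helper66.GradedQuot.qpiece ℳ (y • (⊤ : Submodule R M)))
      (fun z hz => hys z (List.mem_cons_of_mem _ hz)) hreg' N 𝒩
      ((y • (⊤ : Submodule R M)).liftQ π hKle)
      (by
        rintro g _ ⟨m, hm, rfl⟩
        exact hπ g m hm)
      (by
        intro n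
        obtain ⟨m, rfl⟩ := hπs n
        exact ⟨(y • (⊤ : Submodule R M)).mkQ m, rfl⟩)
      hker1 EQ EN d
    have h2 := regHV_iff_of_quasi (ℳ := ℳ)
      (𝒩 := Helper66.GradedQuot.qpiece ℳ (y • (⊤ : Submodule R M))) a hy1 hya
      (fun m hm => ⟨0, fun r _ => by
        have : m = 0 := hy (by simpa using hm)
        rw [this, smul_zero]⟩)
      (y • (⊤ : Submodule R M)).mkQ (Helper66.GradedQuot.mkQ_grHom ℳ _)
      (Submodule.mkQ_surjective _) (by rw [Submodule.ker_mkQ, hKeq]) EM EQ d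
    rw [h2, ← h1]
    exact and_iff_right (fun g _ => HV_zero_of_regular EM hya hy g)

end regseq

end Groth.Agent.Lib.Helper77.GLC
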