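import Mathlib
import Groth.Prelude.Def_CAlgX
import Groth.Agent.Lib.Helper77.QuasiReg

/-!
# Quasi-regular sequences modulo an ideal

For an ideal `J` and a sequence `f` whose image in `A ⧸ J` is quasi-regular, with `R = (f)`:
`J ⊓ R^m ≤ J * R^m ⊔ J ⊓ R^(m+1)` (`inf_pow_le`), hence `J ⊓ R^n = J * R^n ⊔ J ⊓ R^N` for `n ≤ N`
(`inf_pow_eq`).
-/

universe u

namespace Groth.Agent.Lib.Helper77.QuasiReg

open MvPolynomial

variable {A : Type u} [CommRing A]

theorem prod_pow_mem_pow {c : ℕ} (f : Fin c → A) (d : Fin c →₀ ℕ) :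
    ∏ i, f i ^ d i ∈ Ideal.span (Set.range f) ^ d.degree := by
  have h := (Ideal.mem_span_pow_iff_exists_isHomogeneous f
    (eval f (monomial d (1 : A)))).2 ⟨monomial d 1, isHomogeneous_monomial _ rfl, rfl⟩
  rw [eval_monomial, one_mul, Finsupp.prod_fintype _ _ (fun i => pow_zero _)] at h
  exact h

theorem isWeaklyRegular_quot (J : Ideal A) {r : ℕ} (f : Fin r → A)
    (hf : RingTheory.Sequence.IsWeaklyRegular (A ⧸ J) (List.ofFn f)) :
    RingTheory.Sequence.IsWeaklyRegular (A ⧸ J) (List.ofFn fun i => Ideal.Quotient.mk J (f i)) := by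
  have h := (RingTheory.Sequence.isWeaklyRegular_map_algebraMap_iff (S := A ⧸ J) (M := A ⧸ J)
    (List.ofFn f)).2 hf
  rw [List.map_ofFn] at h
  exact h

theorem span_range_mk (J : Ideal A) {r : ℕ} (f : Fin r → A) :
    Ideal.span (Set.range fun i => Ideal.Quotient.mk J (f i)) =
      (Ideal.span (Set.range f)).map (Ideal.Quotient.mk J) := by
  rw [Ideal.map_span, ← Set.range_comp]
  rfl

theorem inf_pow_le (J : Ideal A) {r : ℕ} (f : Fin r → A)
    (hq : CAlgX.IsQuasiRegular (fun i => Ideal.Quotient.mk J (f i))) (m : ℕ) :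
    J ⊓ Ideal.span (Set.range f) ^ m ≤
      J * Ideal.span (Set.range f) ^ m ⊔ J ⊓ Ideal.span (Set.range f) ^ (m + 1) := by
  intro x hx
  obtain ⟨hxJ, hxR⟩ := hx
  obtain ⟨P, hP, rfl⟩ := (Ideal.mem_span_pow_iff_exists_isHomogeneous f x).1 hxR
  have h0 : eval (fun i => Ideal.Quotient.mk J (f i)) (map (Ideal.Quotient.mk J) P) = 0 := by
    rw [eval_map, ← Function.comp_def, ← eval₂_comp]
    exact Ideal.Quotient.eq_zero_iff_mem.2 hxJ
  have h1 := (isQuasiRegular_iff_eval_eq_zero _).1 hq m _ (hP.map _) h0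
  have h2 : ∀ d, ∃ u v : A, u ∈ J ∧ v ∈ Ideal.span (Set.range f) ∧ P.coeff d = u + v := by
    intro d
    have h3 := h1 d
    rw [coeff_map, span_range_mk, Ideal.mem_map_iff_of_surjective _ Ideal.Quotient.mk_surjective] at h3
    obtain ⟨v, hv, hve⟩ := h3
    refine ⟨P.coeff d - v, v, ?_, hv, by ring⟩
    rw [← Ideal.Quotient.eq_zero_iff_mem, map_sub, hve, sub_self]
  choose u v hu hv huv using h2
  have hmon : ∀ d ∈ P.support, ∏ i, f i ^ d i ∈ Ideal.span (Set.range f) ^ m := by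
    intro d hd
    have hdeg : d.degree = m := by
      by_contra hne
      exact (mem_support_iff.1 hd) (hP.coeff_eq_zero hne)
    rw [← hdeg]
    exact prod_pow_mem_pow f d
  have hsplit : eval f P = (∑ d ∈ P.support, u d * ∏ i, f i ^ d i) +
      ∑ d ∈ P.support, v d * ∏ i, f i ^ d i := by
    rw [eval_eq', ← Finset.sum_add_distrib]
    refine Finset.sum_congr rfl fun d _ => ?_
    rw [huv d, add_mul]
  have hU : (∑ d ∈ P.support, u d * ∏ i, f i ^ d i) ∈ J * Ideal.span (Set.range f) ^ m :=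
    Ideal.sum_mem _ fun d hd => Ideal.mul_mem_mul (hu d) (hmon d hd)
  have hV : (∑ d ∈ P.support, v d * ∏ i, f i ^ d i) ∈ Ideal.span (Set.range f) ^ (m + 1) := by
    rw [pow_succ']
    exact Ideal.sum_mem _ fun d hd => Ideal.mul_mem_mul (hv d) (hmon d hd)
  have hUJ : (∑ d ∈ P.support, u d * ∏ i, f i ^ d i) ∈ J :=
    Ideal.sum_mem _ fun d _ => Ideal.mul_mem_right _ _ (hu d)
  have hVJ : (∑ d ∈ P.support, v d * ∏ i, f i ^ d i) ∈ J := by
    have h5 := sub_mem hxJ hUJ
    rw [hsplit, add_sub_cancel_left] at h5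
    exact h5
  rw [hsplit]
  exact Submodule.add_mem_sup hU ⟨hVJ, hV⟩

theorem inf_pow_eq (J : Ideal A) {r : ℕ} (f : Fin r → A)
    (hq : CAlgX.IsQuasiRegular (fun i => Ideal.Quotient.mk J (f i))) (n N : ℕ) (hnN : n ≤ N) :
    J ⊓ Ideal.span (Set.range f) ^ n =
      J * Ideal.span (Set.range f) ^ n ⊔ J ⊓ Ideal.span (Set.range f) ^ N := by
  apply le_antisymm
  · induction N, hnN using Nat.le_induction with
    | base => exact le_sup_right
    | succ N hN ih =>
      refine ih.trans (sup_le le_sup_left ((inf_pow_le J f hq N).trans (sup_le ?_ le_sup_right)))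
      exact le_sup_of_le_left (Ideal.mul_mono_right (Ideal.pow_le_pow_right hN))
  · exact sup_le Ideal.mul_le_inf (inf_le_inf_left _ (Ideal.pow_le_pow_right hnN))

/-- Krull intersection in the form: `K = ⨅ N, K ⊔ R^N` for `R` in the Jacobson radical of a
Noetherian ring. -/
theorem mem_of_forall_mem_sup_pow [IsNoetherianRing A] (K R : Ideal A) (hR : R ≤ Ideal.jacobson ⊥)
    (x : A) (hx : ∀ N : ℕ, x ∈ K ⊔ R ^ N) : x ∈ K := by
  have h := Ideal.iInf_pow_smul_eq_bot_of_le_jacobson (M := A ⧸ K) R hR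
  have hmem : (Ideal.Quotient.mk K x : A ⧸ K) ∈ (⨅ i : ℕ, R ^ i • ⊤ : Submodule A (A ⧸ K)) := by
    rw [Submodule.mem_iInf]
    intro N
    obtain ⟨k, hk, y, hy, hxy⟩ := Submodule.mem_sup.1 (hx N)
    have : (Ideal.Quotient.mk K x : A ⧸ K) = y • (Ideal.Quotient.mk K 1 : A ⧸ K) := by
      rw [← hxy, map_add, Ideal.Quotient.eq_zero_iff_mem.2 hk, zero_add]
      rw [Algebra.smul_def, Ideal.Quotient.algebraMap_eq, map_one, mul_one]
    rw [this]
    exact Submodule.smul_mem_smul hy Submodule.mem_top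
  rw [h, Submodule.mem_bot] at hmem
  exact Ideal.Quotient.eq_zero_iff_mem.1 hmem

theorem inf_pow_eq_mul [IsNoetherianRing A] (J : Ideal A) {r : ℕ} (f : Fin r → A)
    (hq : CAlgX.IsQuasiRegular (fun i => Ideal.Quotient.mk J (f i)))
    (hrad : Ideal.span (Set.range f) ≤ (⊥ : Ideal A).jacobson) (n : ℕ) :
    J ⊓ Ideal.span (Set.range f) ^ n = J * Ideal.span (Set.range f) ^ n := by
  apply le_antisymm _ Ideal.mul_le_inf
  intro x hx
  apply mem_of_forall_mem_sup_pow _ _ hrad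
  intro N
  by_cases hN : n ≤ N
  · have := (inf_pow_eq J f hq n N hN).le hx
    exact (sup_le_sup_left (inf_le_right : J ⊓ Ideal.span (Set.range f) ^ N ≤ _)
      (J * Ideal.span (Set.range f) ^ n)) this
  · exact Ideal.mem_sup_right (Ideal.pow_le_pow_right (by omega) hx.2)

theorem inf_sup_sq_eq [IsNoetherianRing A] (J : Ideal A) {r : ℕ} (f : Fin r → A)
    (hq : CAlgX.IsQuasiRegular (fun i => Ideal.Quotient.mk J (f i)))
    (hrad : Ideal.span (Set.range f) ≤ (⊥ : Ideal A).jacobson) :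
    J ⊓ (J ⊔ Ideal.span (Set.range f)) ^ 2 = J * (J ⊔ Ideal.span (Set.range f)) := by
  set R := Ideal.span (Set.range f) with hR
  have h2 := inf_pow_eq_mul J f hq hrad 2
  rw [← hR] at h2
  have hsq : (J ⊔ R) ^ 2 = J * (J ⊔ R) ⊔ R ^ 2 := by
    rw [sq, Ideal.sup_mul, Ideal.mul_sup R, ← sq R, mul_comm R J, ← sup_assoc]
    congr 1
    rw [Ideal.mul_sup, sup_assoc, sup_idem]
  rw [hsq, inf_comm, sup_inf_assoc_of_le _ (Ideal.mul_le_left), inf_comm, h2]
  apply le_antisymm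
  · refine sup_le le_rfl ?_
    exact Ideal.mul_mono_right ((Ideal.pow_le_self two_ne_zero).trans le_sup_right)
  · exact le_sup_left

end Groth.Agent.Lib.Helper77.QuasiReg
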