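import Mathlib
import Groth.Prelude.Def_CAlgX
import Groth.Agent.Lib.Helper77.QuasiRegQuot

/-!
# Quasi-regular ⇒ regular (Noetherian, Jacobson radical)  — Matsumura 16.3

* `isSMulRegular_of_isQuasiRegular`: the first element of a quasi-regular sequence contained in the
  Jacobson radical of a Noetherian ring is a non-zero-divisor.
* `isQuasiRegular_quot`: the images of `f 1, …, f c` in `A ⧸ (f 0)` form a quasi-regular sequence.
* `isWeaklyRegular_of_isQuasiRegular`: the sequence is (weakly) regular.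
-/

universe u

namespace Groth.Agent.Lib.Helper77.QuasiReg

open MvPolynomial
open scoped Pointwise

variable {A : Type u} [CommRing A]

/-- from `x * ξ = P(f)`-type relations: dividing by the first variable. -/
theorem mem_pow_succ_of_X_mul {c : ℕ} (f : Fin (c + 1) → A) (hf : CAlgX.IsQuasiRegular f) {i : ℕ}
    (ξ : A) (hξ : ξ ∈ Ideal.span (Set.range f) ^ i)
    (h : f 0 * ξ ∈ Ideal.span (Set.range f) ^ (i + 2)) :
    ξ ∈ Ideal.span (Set.range f) ^ (i + 1) := by
  obtain ⟨P, hP, rfl⟩ := (Ideal.mem_span_pow_iff_exists_isHomogeneous f ξ).1 hξ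
  have hXP : (X 0 * P : MvPolynomial (Fin (c + 1)) A).IsHomogeneous (i + 1) := by
    have h' := (isHomogeneous_X A (0 : Fin (c + 1))).mul hP
    rw [show 1 + i = i + 1 from Nat.add_comm 1 i] at h'
    exact h'
  have h1 := hf (i + 1) (X 0 * P) hXP (by simpa using h)
  have h2 : ∀ d, P.coeff d ∈ Ideal.span (Set.range f) := by
    intro d
    have := h1 (Finsupp.single 0 1 + d)
    rwa [coeff_X_mul] at this
  rw [pow_succ']
  exact eval_mem_mul_pow f _ P hP h2

theorem isSMulRegular_of_isQuasiRegular [IsNoetherianRing A] {c : ℕ} (f : Fin (c + 1) → A)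
    (hf : CAlgX.IsQuasiRegular f) (hrad : Ideal.span (Set.range f) ≤ (⊥ : Ideal A).jacobson) :
    IsSMulRegular A (f 0) := by
  have key : ∀ ξ : A, f 0 * ξ = 0 → ξ = 0 := by
    intro ξ hξ
    have h1 : ∀ ν : ℕ, ξ ∈ Ideal.span (Set.range f) ^ ν := by
      intro ν
      induction ν with
      | zero => simp
      | succ ν ih =>
        exact mem_pow_succ_of_X_mul f hf ξ ih (by rw [hξ]; exact zero_mem _)
    have h2 := mem_of_forall_mem_sup_pow ⊥ _ hrad ξ (fun N => Ideal.mem_sup_right (h1 N))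
    exact (Ideal.mem_bot).1 h2
  intro a b hab
  have : f 0 * (a - b) = 0 := by
    have h' : f 0 * a = f 0 * b := hab
    rw [mul_sub, h', sub_self]
  exact sub_eq_zero.1 (key _ this)

/-- lifting homogeneous polynomials along a surjective ring map. -/
theorem exists_isHomogeneous_map_eq {B : Type u} [CommRing B] (φ : A →+* B)
    (hφ : Function.Surjective φ) {c ν : ℕ} (F' : MvPolynomial (Fin c) B) (hF' : F'.IsHomogeneous ν) :
    ∃ F : MvPolynomial (Fin c) A, F.IsHomogeneous ν ∧ map φ F = F' := by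
  choose g hg using hφ
  refine ⟨∑ d ∈ F'.support, monomial d (g (F'.coeff d)), ?_, ?_⟩
  · refine IsHomogeneous.sum _ _ _ fun d hd => isHomogeneous_monomial _ ?_
    by_contra hne
    exact (mem_support_iff.1 hd) (hF'.coeff_eq_zero hne)
  · rw [map_sum]
    simp only [map_monomial, hg]
    exact support_sum_monomial_coeff F'

theorem isQuasiRegular_quot {c : ℕ} (f : Fin (c + 1) → A) (hf : CAlgX.IsQuasiRegular f) :
    CAlgX.IsQuasiRegular (fun i : Fin c => Ideal.Quotient.mk (Ideal.span {f 0}) (f i.succ)) := by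
  classical
  rw [isQuasiRegular_iff_eval_eq_zero]
  intro ν F' hF' h0 d'
  set φ := Ideal.Quotient.mk (Ideal.span {f 0}) with hφ
  -- the image of `J` lies in `J'`
  have hJ : ∀ a ∈ Ideal.span (Set.range f), φ a ∈
      Ideal.span (Set.range fun i : Fin c => φ (f i.succ)) := by
    intro a ha
    have h1 : φ a ∈ (Ideal.span (Set.range f)).map φ := Ideal.mem_map_of_mem _ ha
    rw [Ideal.map_span] at h1
    refine (Ideal.span_le.2 ?_) h1
    rintro _ ⟨_, ⟨i, rfl⟩, rfl⟩
    refine Fin.cases ?_ (fun j => ?_) i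
    · have : φ (f 0) = 0 := Ideal.Quotient.eq_zero_iff_mem.2 (Ideal.mem_span_singleton_self _)
      rw [this]; exact zero_mem _
    · exact Ideal.subset_span ⟨j, rfl⟩
  rcases ν with _ | ν
  · -- degree zero
    have h1 : F' = C (F'.coeff 0) :=
      (totalDegree_eq_zero_iff_eq_C).1 ((totalDegree_zero_iff_isHomogeneous _).2 hF')
    rw [h1, eval_C] at h0
    rw [h1, coeff_C, h0]
    split_ifs <;> exact zero_mem _
  obtain ⟨F, hF, rfl⟩ := exists_isHomogeneous_map_eq φ Ideal.Quotient.mk_surjective F' hF'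
  -- `F(f') = f 0 * ω`
  have h1' : φ (eval (fun i : Fin c => f i.succ) F) =
      eval (fun i : Fin c => φ (f i.succ)) (map φ F) := by
    rw [eval_map]
    exact eval₂_comp φ (fun i : Fin c => f i.succ) F
  have h1 : eval (fun i : Fin c => f i.succ) F ∈ Ideal.span {f 0} := by
    rw [← Ideal.Quotient.eq_zero_iff_mem]
    exact h1'.trans h0
  obtain ⟨ω, hω⟩ := Ideal.mem_span_singleton'.1 h1
  have hev : eval f (rename Fin.succ F) = eval (fun i : Fin c => f i.succ) F := by
    rw [eval_rename]; rfl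
  have hFJ : eval f (rename Fin.succ F) ∈ Ideal.span (Set.range f) ^ (ν + 1) :=
    (Ideal.mem_span_pow_iff_exists_isHomogeneous f _).2 ⟨_, hF.rename_isHomogeneous, rfl⟩
  -- `ω ∈ J^ν`
  have hωi : ∀ i, i ≤ ν → ω ∈ Ideal.span (Set.range f) ^ i := by
    intro i
    induction i with
    | zero => intro _; simp
    | succ i ih =>
      intro hi
      refine mem_pow_succ_of_X_mul f hf ω (ih (by omega)) ?_
      rw [mul_comm, hω, ← hev]
      exact Ideal.pow_le_pow_right (by omega) hFJ
  obtain ⟨P, hP, hPe⟩ := (Ideal.mem_span_pow_iff_exists_isHomogeneous f ω).1 (hωi ν le_rfl)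
  have hQ : (rename Fin.succ F - X 0 * P).IsHomogeneous (ν + 1) := by
    refine hF.rename_isHomogeneous.sub ?_
    have h' := (isHomogeneous_X A (0 : Fin (c + 1))).mul hP
    rw [show 1 + ν = ν + 1 from Nat.add_comm 1 ν] at h'
    exact h'
  have h2 := (isQuasiRegular_iff_eval_eq_zero f).1 hf (ν + 1) _ hQ (by
    rw [map_sub, map_mul, eval_X, hPe, hev, ← hω]; ring) (d'.mapDomain Fin.succ)
  rw [coeff_sub, coeff_rename_mapDomain Fin.succ (Fin.succ_injective _), coeff_X_mul'] at h2
  have h3 : (0 : Fin (c + 1)) ∉ (d'.mapDomain Fin.succ).support := by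
    rw [Finsupp.mem_support_iff, not_not]
    exact Finsupp.mapDomain_of_notMem_range _ _ (by rintro ⟨j, hj⟩; exact Fin.succ_ne_zero j hj)
  rw [if_neg h3, sub_zero] at h2
  rw [coeff_map]
  exact hJ _ h2

theorem mem_jacobson_quot (I : Ideal A) {a : A} (ha : a ∈ (⊥ : Ideal A).jacobson) :
    Ideal.Quotient.mk I a ∈ (⊥ : Ideal (A ⧸ I)).jacobson := by
  rw [Ideal.mem_jacobson_bot] at ha ⊢
  intro y
  obtain ⟨y, rfl⟩ := Ideal.Quotient.mk_surjective y
  rw [← map_mul, ← map_one (Ideal.Quotient.mk I), ← map_add]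
  exact (ha y).map _

theorem span_singleton_eq_smul_top (x : A) :
    (Ideal.span {x} : Submodule A A) = x • (⊤ : Submodule A A) := by
  ext y
  rw [Submodule.mem_smul_pointwise_iff_exists]
  constructor
  · intro hy
    obtain ⟨a, rfl⟩ := Ideal.mem_span_singleton'.1 hy
    exact ⟨a, Submodule.mem_top, by rw [smul_eq_mul, mul_comm]⟩
  · rintro ⟨a, -, rfl⟩
    exact Ideal.mem_span_singleton'.2 ⟨a, by rw [smul_eq_mul, mul_comm]⟩

/-- Matsumura 16.3: a quasi-regular sequence in the Jacobson radical of a Noetherian ring is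
regular. -/
theorem isWeaklyRegular_of_isQuasiRegular : ∀ (c : ℕ) (A : Type u) [CommRing A] [IsNoetherianRing A]
    (f : Fin c → A), (∀ i, f i ∈ (⊥ : Ideal A).jacobson) → CAlgX.IsQuasiRegular f →
    RingTheory.Sequence.IsWeaklyRegular A (List.ofFn f) := by
  intro c
  induction c with
  | zero =>
    intro A _ _ f _ _
    rw [List.ofFn_zero]
    exact RingTheory.Sequence.IsWeaklyRegular.nil A A
  | succ c ih =>
    intro A _ _ f hrad hf
    rw [List.ofFn_succ, RingTheory.Sequence.isWeaklyRegular_cons_iff]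
    have hrad' : Ideal.span (Set.range f) ≤ (⊥ : Ideal A).jacobson := by
      rw [Ideal.span_le]
      rintro _ ⟨i, rfl⟩
      exact hrad i
    refine ⟨isSMulRegular_of_isQuasiRegular f hf hrad', ?_⟩
    have h1 := ih (A ⧸ Ideal.span {f 0}) (fun i : Fin c => Ideal.Quotient.mk (Ideal.span {f 0}) (f i.succ))
      (fun i => mem_jacobson_quot _ (hrad i.succ)) (isQuasiRegular_quot f hf)
    have h2 : List.ofFn (fun i : Fin c => Ideal.Quotient.mk (Ideal.span {f 0}) (f i.succ)) =
        (List.ofFn fun i : Fin c => f i.succ).map (algebraMap A (A ⧸ Ideal.span {f 0})) := by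
      rw [List.map_ofFn]; rfl
    rw [h2, RingTheory.Sequence.isWeaklyRegular_map_algebraMap_iff] at h1
    exact (LinearEquiv.isWeaklyRegular_congr
      (Submodule.quotEquivOfEq _ _ (span_singleton_eq_smul_top (f 0))) _).1 h1

end Groth.Agent.Lib.Helper77.QuasiReg
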