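import Groth.Agent.Lib.QCoh.TensorColim
import Groth.Agent.Lib.Proj.CohQuot

/-!
# Tensoring with an invertible module is exact (helper77)

* `tensorModAssoc_naturality_left`, `tensorModRightUnitor_naturality`
* `tensorRightCompIso`, `tensorRightCongr`, `tensorRightUnitIso`
* `tensorRightEquiv` : `- ⊗ L` is an equivalence when `L ⊗ L' ≅ O`
* `shortExact_tensorRight`
* `shortExact_twistProjSpace` : twisting by `O(d)` on `P^n` is exact
-/

set_option autoImplicit false
universe u
open CategoryTheory CategoryTheory.Limits MonoidalCategory AlgebraicGeometry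

namespace Groth.Agent.Lib.Helper77.TwEx

open Groth.Agent.Lib.QCoh CohB1

variable {X : Scheme.{u}}

lemma shfWhiskerRightIso_naturality {P P' : PM X} (φ : P ⟶ P') (K : PM X) :
    (shf X).map (φ ▷ K) ≫ (shfWhiskerRightIso P' K).hom =
      (shfWhiskerRightIso P K).hom ≫ (shf X).map ((incl X).map ((shf X).map φ) ▷ K) := by
  show (shf X).map (φ ▷ K) ≫ (shf X).map ((shfAdj X).unit.app P' ▷ K) =
    (shf X).map ((shfAdj X).unit.app P ▷ K) ≫ (shf X).map ((incl X).map ((shf X).map φ) ▷ K)
  rw [← Functor.map_comp, ← Functor.map_comp, ← comp_whiskerRight, ← comp_whiskerRight]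
  congr 2
  exact (shfAdj X).unit.naturality φ

lemma shfWhiskerLeftIso_naturality_left {K K' : PM X} (ψ : K ⟶ K') (P : PM X) :
    (shf X).map (ψ ▷ P) ≫ (shfWhiskerLeftIso K' P).hom =
      (shfWhiskerLeftIso K P).hom ≫ (shf X).map (ψ ▷ (incl X).obj ((shf X).obj P)) := by
  show (shf X).map (ψ ▷ P) ≫ (shf X).map (K' ◁ (shfAdj X).unit.app P) =
    (shf X).map (K ◁ (shfAdj X).unit.app P) ≫ (shf X).map (ψ ▷ (incl X).obj ((shf X).obj P))
  rw [← Functor.map_comp, ← Functor.map_comp, ← whisker_exchange]
  rfl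

lemma tensorModMap_id_right {M M' : X.Modules} (f : M ⟶ M') (N : X.Modules) :
    tensorModMap f (𝟙 N) = (shf X).map ((incl X).map f ▷ (incl X).obj N) := by
  rw [tensorModMap_def, (incl X).map_id, tensorHom_id]

theorem tensorModAssoc_naturality_left {M M' : X.Modules} (f : M ⟶ M') (N K : X.Modules) :
    tensorModMap (tensorModMap f (𝟙 N)) (𝟙 K) ≫ (tensorModAssoc M' N K).hom =
      (tensorModAssoc M N K).hom ≫ tensorModMap f (𝟙 (tensorMod N K)) := by
  rw [tensorModMap_id_right, tensorModMap_id_right, tensorModMap_id_right]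
  have h1 := shfWhiskerRightIso_naturality ((incl X).map f ▷ (incl X).obj N) ((incl X).obj K)
  have h1' : (shfWhiskerRightIso ((incl X).obj M ⊗ (incl X).obj N) ((incl X).obj K)).inv ≫
      (shf X).map (((incl X).map f ▷ (incl X).obj N) ▷ (incl X).obj K) =
      (shf X).map ((incl X).map ((shf X).map ((incl X).map f ▷ (incl X).obj N)) ▷ (incl X).obj K) ≫
      (shfWhiskerRightIso ((incl X).obj M' ⊗ (incl X).obj N) ((incl X).obj K)).inv := by
    rw [Iso.inv_comp_eq, ← Category.assoc, Iso.eq_comp_inv]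
    exact h1
  have h2 := shfWhiskerLeftIso_naturality_left ((incl X).map f) ((incl X).obj N ⊗ (incl X).obj K)
  have h3 : (shf X).map (((incl X).map f ▷ (incl X).obj N) ▷ (incl X).obj K) ≫
      (shf X).map (α_ ((incl X).obj M') ((incl X).obj N) ((incl X).obj K)).hom =
      (shf X).map (α_ ((incl X).obj M) ((incl X).obj N) ((incl X).obj K)).hom ≫
      (shf X).map ((incl X).map f ▷ ((incl X).obj N ⊗ (incl X).obj K)) := by
    rw [← Functor.map_comp, ← Functor.map_comp, associator_naturality_left]
  show (shf X).map ((incl X).map ((shf X).map ((incl X).map f ▷ (incl X).obj N)) ▷ (incl X).obj K) ≫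
        ((shfWhiskerRightIso ((incl X).obj M' ⊗ (incl X).obj N) ((incl X).obj K)).inv ≫
        (shf X).map (α_ ((incl X).obj M') ((incl X).obj N) ((incl X).obj K)).hom ≫
        (shfWhiskerLeftIso ((incl X).obj M') ((incl X).obj N ⊗ (incl X).obj K)).hom) =
      ((shfWhiskerRightIso ((incl X).obj M ⊗ (incl X).obj N) ((incl X).obj K)).inv ≫
        (shf X).map (α_ ((incl X).obj M) ((incl X).obj N) ((incl X).obj K)).hom ≫
        (shfWhiskerLeftIso ((incl X).obj M) ((incl X).obj N ⊗ (incl X).obj K)).hom) ≫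
      (shf X).map ((incl X).map f ▷ (incl X).obj ((shf X).obj ((incl X).obj N ⊗ (incl X).obj K)))
  rw [← Category.assoc, ← h1', Category.assoc, reassoc_of% h3, h2]
  simp only [Category.assoc]

theorem tensorModRightUnitor_naturality {M M' : X.Modules} (f : M ⟶ M') :
    tensorModMap f (𝟙 (Coh.structureModule X)) ≫ (tensorModRightUnitor M').hom =
      (tensorModRightUnitor M).hom ≫ f := by
  rw [tensorModMap_id_right]
  show (shf X).map ((incl X).map f ▷ 𝟙_ (PM X)) ≫
      ((shf X).map (ρ_ ((incl X).obj M')).hom ≫ (shfAdj X).counit.app M') =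
    ((shf X).map (ρ_ ((incl X).obj M)).hom ≫ (shfAdj X).counit.app M) ≫ f
  rw [← Category.assoc, ← Functor.map_comp, rightUnitor_naturality, Functor.map_comp,
    Category.assoc, Category.assoc]
  congr 1
  exact (shfAdj X).counit.naturality f

/-- `(- ⊗ L) ⊗ L' ≅ - ⊗ (L ⊗ L')` -/
noncomputable def tensorRightCompIso (L L' : X.Modules) :
    tensorRightFunctor L ⋙ tensorRightFunctor L' ≅ tensorRightFunctor (tensorMod L L') :=
  NatIso.ofComponents (fun M => tensorModAssoc M L L') (by
    intro M M' f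
    show (tensorRightFunctor L').map ((tensorRightFunctor L).map f) ≫ _ =
      _ ≫ (tensorRightFunctor (tensorMod L L')).map f
    rw [tensorRightFunctor_map, tensorRightFunctor_map, tensorRightFunctor_map]
    exact tensorModAssoc_naturality_left f L L')

lemma tensorModMap_swap {M M' G G' : X.Modules} (f : M ⟶ M') (g : G ⟶ G') :
    tensorModMap f (𝟙 G) ≫ tensorModMap (𝟙 M') g = tensorModMap (𝟙 M) g ≫ tensorModMap f (𝟙 G') := by
  rw [← tensorModMap_comp, ← tensorModMap_comp, Category.id_comp, Category.comp_id,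
    Category.id_comp, Category.comp_id]

/-- `- ⊗ G ≅ - ⊗ G'` for `G ≅ G'` -/
noncomputable def tensorRightCongr {G G' : X.Modules} (e : G ≅ G') :
    tensorRightFunctor G ≅ tensorRightFunctor G' :=
  NatIso.ofComponents (fun M => tensorModCongr (Iso.refl M) e) (by
    intro M M' f
    have h1 : (tensorRightFunctor G).map f = tensorModMap f (𝟙 G) := tensorRightFunctor_map f G
    have h2 : (tensorRightFunctor G').map f = tensorModMap f (𝟙 G') := tensorRightFunctor_map f G'
    exact (congrArg (· ≫ tensorModMap (𝟙 M') e.hom) h1).trans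
      ((tensorModMap_swap f e.hom).trans (congrArg (tensorModMap (𝟙 M) e.hom ≫ ·) h2).symm))

/-- `- ⊗ O ≅ id` -/
noncomputable def tensorRightUnitIso :
    tensorRightFunctor (Coh.structureModule X) ≅ 𝟭 X.Modules :=
  NatIso.ofComponents (fun M => tensorModRightUnitor M) (by
    intro M M' f
    show (tensorRightFunctor (Coh.structureModule X)).map f ≫ _ = _ ≫ f
    rw [tensorRightFunctor_map]
    exact tensorModRightUnitor_naturality f)

/-- `- ⊗ L` is an equivalence when `L ⊗ L' ≅ O` -/
noncomputable def tensorRightEquiv (L L' : X.Modules)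
    (e : tensorMod L L' ≅ Coh.structureModule X) : X.Modules ≌ X.Modules :=
  CategoryTheory.Equivalence.mk (tensorRightFunctor L) (tensorRightFunctor L')
    ((tensorRightCompIso L L' ≪≫ tensorRightCongr e ≪≫ tensorRightUnitIso).symm)
    (tensorRightCompIso L' L ≪≫ tensorRightCongr (tensorModBraiding L' L ≪≫ e) ≪≫
      tensorRightUnitIso)

theorem isEquivalence_tensorRightFunctor (L L' : X.Modules)
    (e : tensorMod L L' ≅ Coh.structureModule X) : (tensorRightFunctor L).IsEquivalence :=
  (tensorRightEquiv L L' e).isEquivalence_functor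

/-- tensoring with an invertible module is exact -/
theorem shortExact_tensorRight (L L' : X.Modules)
    (e : tensorMod L L' ≅ Coh.structureModule X) {S : ShortComplex X.Modules}
    (hS : S.ShortExact) : (S.map (tensorRightFunctor L)).ShortExact := by
  have := isEquivalence_tensorRightFunctor L L' e
  exact hS.map_of_exact (tensorRightFunctor L)

section ProjSpace

open Groth.Agent.Lib.Proj Twist

variable (n : ℕ) (R₀ : Type u) [CommRing R₀]

lemma hcov_polyGrading :
    (⨆ f : CohB1.polyGrading n R₀ 1,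
      Proj.basicOpen (CohB1.polyGrading n R₀) (f : MvPolynomial (Fin (n + 1)) R₀)) = ⊤ := by
  rw [eq_top_iff, ← iSup_coordFinset n R₀]
  refine iSup_le fun i => ?_
  exact le_iSup (fun f : CohB1.polyGrading n R₀ 1 =>
    Proj.basicOpen (CohB1.polyGrading n R₀) (f : MvPolynomial (Fin (n + 1)) R₀))
    ⟨i.1, coordFinset_deg_one n R₀ i.1 i.2⟩

/-- `O(a) ⊗ O(b) ≅ O(a + b)` on `P^n` -/
noncomputable def twistProjSpaceMulIso (a b c : ℤ) (h : c = a + b) :
    tensorMod (twistProjSpace n R₀ a) (twistProjSpace n R₀ b) ≅ twistProjSpace n R₀ c :=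
  twistMulIso (𝒜 := CohB1.polyGrading n R₀) a b c h
    (hasUnitFrac_of_cover (hcov_polyGrading n R₀) _)

/-- `O(d) ⊗ O(-d) ≅ O` on `P^n` -/
noncomputable def twistProjSpaceInvIso (d : ℤ) :
    tensorMod (twistProjSpace n R₀ d) (twistProjSpace n R₀ (-d)) ≅
      Coh.structureModule (CohB1.ProjSpace n R₀) :=
  twistProjSpaceMulIso n R₀ d (-d) 0 (by ring) ≪≫ twistZeroIso (CohB1.polyGrading n R₀)

/-- twisting by `O(d)` on `P^n` is exact -/
theorem shortExact_twistProjSpace (d : ℤ) {S : ShortComplex (CohB1.ProjSpace n R₀).Modules}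
    (hS : S.ShortExact) : (S.map (tensorRightFunctor (twistProjSpace n R₀ d))).ShortExact :=
  shortExact_tensorRight _ _ (twistProjSpaceInvIso n R₀ d) hS

end ProjSpace

end Groth.Agent.Lib.Helper77.TwEx
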