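import Mathlib
import Groth.Prelude.Def_GrMod2

/-!
TM1 (helper77): functoriality of `M ↦ M(t)~` on `Proj` (Prelude `GrTilde.tilde`) in graded
`A`-linear maps.  No `DirectSum.Decomposition` hypotheses.

ns `Groth.Agent.Lib.Helper77.TM`:
* `IsGr ℳ 𝒩 φ` : `φ` maps `ℳ i` into `𝒩 i`.
* `locMap φ x` : the induced map on `M_x → N_x`; `locMap_mk`, `locMap_mem`.
* `mapSect`, `tildeMap φ hφ t : tilde 𝒜 ℳ t ⟶ tilde 𝒜 𝒩 t`.
* `mv` (value of a section at a point), `mv_ext`, `mv_map`, `mv_tildeMap`, `mv_add`, `mv_zero`.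
* `tildeMap_id`, `tildeMap_comp`, `tildeMap_add`, `tildeMap_zero`, `tildeMap_sum`.
-/

set_option autoImplicit false
universe u
open CategoryTheory AlgebraicGeometry Opposite TopologicalSpace

namespace Groth.Agent.Lib.Helper77.TM

variable {R A : Type u} [CommRing R] [CommRing A] [Algebra R A] {𝒜 : ℕ → Submodule R A}
  [GradedAlgebra 𝒜]
  {M : Type u} [AddCommGroup M] [Module R M] [Module A M]
  {N : Type u} [AddCommGroup N] [Module R N] [Module A N]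
  {P : Type u} [AddCommGroup P] [Module R P] [Module A P]
  {ℳ : ℕ → Submodule R M} {𝒩 : ℕ → Submodule R N} {𝒬 : ℕ → Submodule R P}

variable (ℳ 𝒩) in
/-- `φ` preserves degrees -/
def IsGr (φ : M →ₗ[A] N) : Prop :=
  ∀ i, ∀ m ∈ ℳ i, φ m ∈ 𝒩 i

omit [Algebra R A] in
theorem IsGr.id : IsGr ℳ ℳ (LinearMap.id : M →ₗ[A] M) := fun _ _ hm => hm

omit [Algebra R A] in
theorem IsGr.comp {φ : M →ₗ[A] N} {ψ : N →ₗ[A] P} (hψ : IsGr 𝒩 𝒬 ψ) (hφ : IsGr ℳ 𝒩 φ) :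
    IsGr ℳ 𝒬 (ψ.comp φ) := fun i m hm => hψ i _ (hφ i m hm)

omit [Algebra R A] in
theorem IsGr.add {φ ψ : M →ₗ[A] N} (hφ : IsGr ℳ 𝒩 φ) (hψ : IsGr ℳ 𝒩 ψ) :
    IsGr ℳ 𝒩 (φ + ψ) := fun i m hm => add_mem (hφ i m hm) (hψ i m hm)

omit [Algebra R A] in
theorem IsGr.zero : IsGr ℳ 𝒩 (0 : M →ₗ[A] N) := fun _ _ _ => zero_mem _

omit [Algebra R A] in
theorem IsGr.sum {ι : Type*} (s : Finset ι) {φ : ι → (M →ₗ[A] N)} (hφ : ∀ j ∈ s, IsGr ℳ 𝒩 (φ j)) :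
    IsGr ℳ 𝒩 (∑ j ∈ s, φ j) := fun i m hm => by
  rw [LinearMap.sum_apply]
  exact sum_mem fun j hj => hφ j hj i m hm

variable [SetLike.GradedSMul 𝒜 ℳ] [SetLike.GradedSMul 𝒜 𝒩] [SetLike.GradedSMul 𝒜 𝒬]

/-- the induced map on localizations at a homogeneous prime -/
noncomputable def locMap (φ : M →ₗ[A] N) (x : ProjectiveSpectrum 𝒜) :
    GrTilde.LocMod 𝒜 (M := M) x →ₗ[Twist.Loc 𝒜 x] GrTilde.LocMod 𝒜 (M := N) x :=
  LocalizedModule.map x.asHomogeneousIdeal.toIdeal.primeCompl φ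

theorem locMap_mk (φ : M →ₗ[A] N) (x : ProjectiveSpectrum 𝒜) (m : M)
    (s : x.asHomogeneousIdeal.toIdeal.primeCompl) :
    locMap φ x (LocalizedModule.mk m s) = LocalizedModule.mk (φ m) s :=
  LocalizedModule.map_mk _ φ m s

theorem locMap_id (x : ProjectiveSpectrum 𝒜) (q : GrTilde.LocMod 𝒜 (M := M) x) :
    locMap (LinearMap.id : M →ₗ[A] M) x q = q := by
  unfold locMap
  rw [LocalizedModule.map_id]
  rfl

theorem locMap_comp (φ : M →ₗ[A] N) (ψ : N →ₗ[A] P) (x : ProjectiveSpectrum 𝒜)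
    (q : GrTilde.LocMod 𝒜 (M := M) x) :
    locMap (ψ.comp φ) x q = locMap ψ x (locMap φ x q) := by
  induction q using LocalizedModule.induction_on with
  | h m s => rw [locMap_mk, locMap_mk, locMap_mk]; rfl

theorem locMap_add (φ ψ : M →ₗ[A] N) (x : ProjectiveSpectrum 𝒜)
    (q : GrTilde.LocMod 𝒜 (M := M) x) :
    locMap (φ + ψ) x q = locMap φ x q + locMap ψ x q := by
  unfold locMap
  rw [map_add]
  rfl

theorem locMap_zero (x : ProjectiveSpectrum 𝒜) (q : GrTilde.LocMod 𝒜 (M := M) x) :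
    locMap (0 : M →ₗ[A] N) x q = 0 := by
  unfold locMap
  rw [map_zero]
  rfl

theorem locMap_sum {ι : Type*} (s : Finset ι) (φ : ι → (M →ₗ[A] N)) (x : ProjectiveSpectrum 𝒜)
    (q : GrTilde.LocMod 𝒜 (M := M) x) :
    locMap (∑ j ∈ s, φ j) x q = ∑ j ∈ s, locMap (φ j) x q := by
  unfold locMap
  rw [map_sum, LinearMap.sum_apply]

theorem locMap_injective (φ : M →ₗ[A] N) (hφ : Function.Injective φ) (x : ProjectiveSpectrum 𝒜) :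
    Function.Injective (locMap φ x) :=
  LocalizedModule.map_injective _ φ hφ

theorem locMap_a0_smul (φ : M →ₗ[A] N) (x : ProjectiveSpectrum 𝒜) (c : Twist.A0 𝒜 x)
    (q : GrTilde.LocMod 𝒜 (M := M) x) : locMap φ x (c • q) = c • locMap φ x q := by
  rw [GrTilde.a0_smul_def, GrTilde.a0_smul_def, map_smul]

theorem locMap_mem (φ : M →ₗ[A] N) (hφ : IsGr ℳ 𝒩 φ) (t : ℤ) (x : ProjectiveSpectrum 𝒜)
    (q : GrTilde.LocMod 𝒜 (M := M) x) (hq : q ∈ GrTilde.tildeAt 𝒜 ℳ t x) :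
    locMap φ x q ∈ GrTilde.tildeAt 𝒜 𝒩 t x := by
  unfold GrTilde.tildeAt at hq ⊢
  induction hq using Submodule.span_induction with
  | mem q hq =>
    obtain ⟨i, j, m, s, hs, hij, rfl⟩ := hq
    rw [locMap_mk]
    exact Submodule.subset_span ⟨i, j, ⟨φ m.1, hφ i m.1 m.2⟩, s, hs, hij, rfl⟩
  | zero => rw [map_zero]; exact zero_mem _
  | add a b _ _ ha hb => rw [map_add]; exact add_mem ha hb
  | smul c a _ ha => rw [locMap_a0_smul]; exact Submodule.smul_mem _ c ha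

/-- the map on sections, as a function -/
noncomputable def mapSectFun (φ : M →ₗ[A] N) (hφ : IsGr ℳ 𝒩 φ) (t : ℤ)
    (U : (Opens (ProjectiveSpectrum.top 𝒜))ᵒᵖ) (s : GrTilde.sect 𝒜 ℳ t U) :
    ∀ x : U.unop, GrTilde.tildeAt 𝒜 𝒩 t x.1 :=
  fun x => ⟨locMap φ x.1 (s.1 x).1, locMap_mem φ hφ t x.1 _ (s.1 x).2⟩

theorem mapSectFun_pred (φ : M →ₗ[A] N) (hφ : IsGr ℳ 𝒩 φ) (t : ℤ)
    (U : (Opens (ProjectiveSpectrum.top 𝒜))ᵒᵖ) (s : GrTilde.sect 𝒜 ℳ t U) :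
    (GrTilde.isLocFrac 𝒜 𝒩 t).pred (mapSectFun φ hφ t U s) := by
  intro x
  obtain ⟨V, hxV, i, i', j, m, a, nin, h, w⟩ := s.2 x
  refine ⟨V, hxV, i, i', j, ⟨φ m.1, hφ _ _ m.2⟩, a, nin, ?_, fun y => ?_⟩
  · rcases h with h | h
    · exact Or.inl h
    · refine Or.inr ?_
      show φ m.1 = 0
      rw [h, map_zero]
  · have := w y
    show locMap φ _ _ = _
    dsimp only at this
    erw [this, locMap_mk]

/-- the map on sections -/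
noncomputable def mapSect (φ : M →ₗ[A] N) (hφ : IsGr ℳ 𝒩 φ) (t : ℤ)
    (U : (Opens (ProjectiveSpectrum.top 𝒜))ᵒᵖ) :
    GrTilde.sect 𝒜 ℳ t U →ₗ[Twist.O (𝒜 := 𝒜) U] GrTilde.sect 𝒜 𝒩 t U where
  toFun s := ⟨mapSectFun φ hφ t U s, mapSectFun_pred φ hφ t U s⟩
  map_add' s s' := by
    apply Subtype.ext
    funext x
    apply Subtype.ext
    show locMap φ x.1 ((s.1 x).1 + (s'.1 x).1) = locMap φ x.1 (s.1 x).1 + locMap φ x.1 (s'.1 x).1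
    rw [map_add]
  map_smul' r s := by
    apply Subtype.ext
    funext x
    apply Subtype.ext
    show locMap φ x.1 ((r.1 x • s.1 x : GrTilde.tildeAt 𝒜 ℳ t x.1) : GrTilde.LocMod 𝒜 (M := M) x.1) =
      ((r.1 x • (⟨locMap φ x.1 (s.1 x).1, locMap_mem φ hφ t x.1 _ (s.1 x).2⟩ :
        GrTilde.tildeAt 𝒜 𝒩 t x.1) : GrTilde.tildeAt 𝒜 𝒩 t x.1) : GrTilde.LocMod 𝒜 (M := N) x.1)
    rw [GrTilde.coe_smul_val, GrTilde.coe_smul_val, map_smul]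

/-- **functoriality of `M(t)~`** -/
noncomputable def tildeMap (φ : M →ₗ[A] N) (hφ : IsGr ℳ 𝒩 φ) (t : ℤ) :
    GrTilde.tilde 𝒜 ℳ t ⟶ GrTilde.tilde 𝒜 𝒩 t :=
  SheafOfModules.Hom.mk
    (PresheafOfModules.homMk (M₁ := GrTilde.tildePMod 𝒜 ℳ t) (M₂ := GrTilde.tildePMod 𝒜 𝒩 t)
      { app := fun U => AddCommGrpCat.ofHom (mapSect φ hφ t U).toAddMonoidHom
        naturality := fun _ _ _ => rfl }
      (fun U r s => (mapSect φ hφ t U).map_smul r s))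

/-- value of a section of `M(t)~` at a point -/
noncomputable abbrev mv (t : ℤ) {U : (Proj 𝒜).Opens} (s : Γ(GrTilde.tilde 𝒜 ℳ t, U)) (p : U) :
    GrTilde.LocMod 𝒜 (M := M) p.1 :=
  (((s : GrTilde.sect 𝒜 ℳ t (op U)).1 p : GrTilde.tildeAt 𝒜 ℳ t p.1) :
    GrTilde.LocMod 𝒜 (M := M) p.1)

theorem mv_mem (t : ℤ) {U : (Proj 𝒜).Opens} (s : Γ(GrTilde.tilde 𝒜 ℳ t, U)) (p : U) :
    mv t s p ∈ GrTilde.tildeAt 𝒜 ℳ t p.1 :=
  ((s : GrTilde.sect 𝒜 ℳ t (op U)).1 p).2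

theorem mv_ext (t : ℤ) {U : (Proj 𝒜).Opens} {s s' : Γ(GrTilde.tilde 𝒜 ℳ t, U)}
    (h : ∀ p : U, mv t s p = mv t s' p) : s = s' := by
  apply Subtype.ext
  funext p
  exact Subtype.ext (h p)

theorem mv_map (t : ℤ) {U V : (Proj 𝒜).Opens} (i : V ⟶ U) (s : Γ(GrTilde.tilde 𝒜 ℳ t, U)) (p : V) :
    mv t ((GrTilde.tilde 𝒜 ℳ t).presheaf.map i.op s) p = mv t s ⟨p.1, i.le p.2⟩ := rfl

theorem mv_zero (t : ℤ) {U : (Proj 𝒜).Opens} (p : U) :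
    mv t (0 : Γ(GrTilde.tilde 𝒜 ℳ t, U)) p = 0 := rfl

theorem mv_add (t : ℤ) {U : (Proj 𝒜).Opens} (s s' : Γ(GrTilde.tilde 𝒜 ℳ t, U)) (p : U) :
    mv t (s + s') p = mv t s p + mv t s' p := rfl

theorem mv_tildeMap (φ : M →ₗ[A] N) (hφ : IsGr ℳ 𝒩 φ) (t : ℤ) {U : (Proj 𝒜).Opens}
    (s : Γ(GrTilde.tilde 𝒜 ℳ t, U)) (p : U) :
    mv t ((tildeMap φ hφ t).app U s) p = locMap φ p.1 (mv t s p) := rfl

/-- the local-fraction property of sections, in terms of `mv` -/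
theorem exists_frac (t : ℤ) {U : (Proj 𝒜).Opens} (s : Γ(GrTilde.tilde 𝒜 ℳ t, U)) (p : U) :
    ∃ (V : (Proj 𝒜).Opens) (_ : p.1 ∈ V) (hVU : V ≤ U) (i j : ℕ) (m : ℳ i) (a : 𝒜 j)
      (nin : ∀ y : V, a.1 ∉ y.1.asHomogeneousIdeal),
      ((i : ℤ) = j + t ∨ m.1 = 0) ∧
      ∀ y : V, mv t s ⟨y.1, hVU y.2⟩ = LocalizedModule.mk m.1 ⟨a.1, nin y⟩ := by
  obtain ⟨V, hxV, i, i', j, m, a, nin, h, w⟩ := (s : GrTilde.sect 𝒜 ℳ t (op U)).2 p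
  exact ⟨V, hxV, i.le, i', j, m, a, nin, h, fun y => w y⟩

theorem tildeMap_id (t : ℤ) : tildeMap (𝒜 := 𝒜) (LinearMap.id : M →ₗ[A] M) (IsGr.id (ℳ := ℳ)) t = 𝟙 _ := by
  apply Scheme.Modules.hom_ext
  intro U
  ext s
  apply mv_ext
  intro p
  rw [mv_tildeMap, locMap_id]
  rfl

theorem tildeMap_comp (φ : M →ₗ[A] N) (hφ : IsGr ℳ 𝒩 φ) (ψ : N →ₗ[A] P) (hψ : IsGr 𝒩 𝒬 ψ) (t : ℤ) :
    tildeMap (𝒜 := 𝒜) (ψ.comp φ) (hψ.comp hφ) t = tildeMap (𝒜 := 𝒜) φ hφ t ≫ tildeMap (𝒜 := 𝒜) ψ hψ t := by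
  apply Scheme.Modules.hom_ext
  intro U
  ext s
  apply mv_ext
  intro p
  rw [mv_tildeMap, locMap_comp]
  rfl

theorem tildeMap_congr {φ ψ : M →ₗ[A] N} (h : φ = ψ) (hφ : IsGr ℳ 𝒩 φ) (hψ : IsGr ℳ 𝒩 ψ) (t : ℤ) :
    tildeMap (𝒜 := 𝒜) φ hφ t = tildeMap (𝒜 := 𝒜) ψ hψ t := by
  subst h; rfl

theorem tildeMap_zero (t : ℤ) : tildeMap (𝒜 := 𝒜) (0 : M →ₗ[A] N) (IsGr.zero (ℳ := ℳ) (𝒩 := 𝒩)) t = 0 := by
  apply Scheme.Modules.hom_ext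
  intro U
  ext s
  apply mv_ext
  intro p
  rw [mv_tildeMap, locMap_zero]
  rfl

theorem tildeMap_add (φ ψ : M →ₗ[A] N) (hφ : IsGr ℳ 𝒩 φ) (hψ : IsGr ℳ 𝒩 ψ) (t : ℤ) :
    tildeMap (𝒜 := 𝒜) (φ + ψ) (hφ.add hψ) t = tildeMap (𝒜 := 𝒜) φ hφ t + tildeMap (𝒜 := 𝒜) ψ hψ t := by
  apply Scheme.Modules.hom_ext
  intro U
  ext s
  apply mv_ext
  intro p
  rw [mv_tildeMap, locMap_add]
  rfl

theorem tildeMap_sum {ι : Type*} (s : Finset ι) (φ : ι → (M →ₗ[A] N)) (hφ : ∀ j, IsGr ℳ 𝒩 (φ j))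
    (t : ℤ) :
    tildeMap (𝒜 := 𝒜) (∑ j ∈ s, φ j) (IsGr.sum s fun j _ => hφ j) t =
      ∑ j ∈ s, tildeMap (𝒜 := 𝒜) (φ j) (hφ j) t := by
  classical
  induction s using Finset.induction_on with
  | empty =>
    refine (tildeMap_congr (Finset.sum_empty) _ IsGr.zero t).trans ?_
    rw [Finset.sum_empty]
    exact tildeMap_zero t
  | insert a s ha ih =>
    refine (tildeMap_congr (Finset.sum_insert ha) _
      ((hφ a).add (IsGr.sum s fun j _ => hφ j)) t).trans ?_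
    rw [Finset.sum_insert ha, ← ih]
    exact tildeMap_add _ _ _ _ t

end Groth.Agent.Lib.Helper77.TM
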