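import Mathlib
import Groth.Prelude.Def_GrMod2
import Groth.Agent.Lib.Helper77.TM1
import Groth.Agent.Lib.QCoh.Helper50_AffineDict

/-!
TM2 (helper77): exactness of `M ↦ M(t)~` on `Proj`.

* `fracSect` : the section `m / a` of `M(t)~` over an open where `a` does not vanish.
* `tildeMap_mono`, `epi_of_locally_surjective`, `tildeMap_epi`.
* `tilde_shortExact` : a degreewise short exact sequence of graded modules (with homogeneous
  annihilators in the third term) gives a short exact sequence of sheaves.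
* `isZero_tilde_of_subsingleton`.
-/

set_option autoImplicit false
universe u
open CategoryTheory CategoryTheory.Limits AlgebraicGeometry Opposite TopologicalSpace

namespace Groth.Agent.Lib.Helper77.TM

open Groth.Agent.Lib.QCoh

variable {R A : Type u} [CommRing R] [CommRing A] [Algebra R A] {𝒜 : ℕ → Submodule R A}
  [GradedAlgebra 𝒜]
  {K : Type u} [AddCommGroup K] [Module R K] [Module A K]
  {M : Type u} [AddCommGroup M] [Module R M] [Module A M]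
  {N : Type u} [AddCommGroup N] [Module R N] [Module A N]
  {𝒦 : ℕ → Submodule R K} {ℳ : ℕ → Submodule R M} {𝒩 : ℕ → Submodule R N}
  [SetLike.GradedSMul 𝒜 𝒦] [SetLike.GradedSMul 𝒜 ℳ] [SetLike.GradedSMul 𝒜 𝒩]

/-- the section `m / a` -/
noncomputable def fracSect (t : ℤ) {i j : ℕ} (m : ℳ i) (a : 𝒜 j) (hij : (i : ℤ) = j + t ∨ m.1 = 0)
    (U : (Proj 𝒜).Opens) (nin : ∀ y : U, a.1 ∉ y.1.asHomogeneousIdeal) :
    Γ(GrTilde.tilde 𝒜 ℳ t, U) :=
  (⟨fun y => ⟨LocalizedModule.mk m.1 ⟨a.1, nin y⟩, by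
      rcases hij with h | h
      · exact Submodule.subset_span ⟨i, j, m, a, nin y, h, rfl⟩
      · rw [h, LocalizedModule.zero_mk]; exact zero_mem _⟩,
    fun y => ⟨U, y.2, 𝟙 _, i, j, m, a, nin, hij, fun _ => rfl⟩⟩ : GrTilde.sect 𝒜 ℳ t (op U))

theorem mv_fracSect (t : ℤ) {i j : ℕ} (m : ℳ i) (a : 𝒜 j) (hij : (i : ℤ) = j + t ∨ m.1 = 0)
    (U : (Proj 𝒜).Opens) (nin : ∀ y : U, a.1 ∉ y.1.asHomogeneousIdeal) (y : U) :
    mv t (fracSect t m a hij U nin) y = LocalizedModule.mk m.1 ⟨a.1, nin y⟩ := rfl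

theorem tildeMap_mono (φ : M →ₗ[A] N) (hφ : IsGr ℳ 𝒩 φ) (hinj : Function.Injective φ) (t : ℤ) :
    Mono (tildeMap (𝒜 := 𝒜) φ hφ t) := by
  apply mono_of_app_injective
  intro U
  rw [injective_iff_map_eq_zero]
  intro s hs
  apply mv_ext
  intro p
  have h := congrArg (fun z => mv t z p) hs
  simp only [mv_tildeMap] at h
  exact locMap_injective φ hinj p.1 (h.trans (map_zero _).symm)

/-- a locally surjective morphism of modules is an epimorphism -/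
theorem epi_of_locally_surjective {X : Scheme.{u}} {F G : X.Modules} (φ : F ⟶ G)
    (h : ∀ (V : X.Opens) (n : Γ(G, V)) (x : X), x ∈ V →
      ∃ (W : X.Opens) (hWV : W ≤ V) (_ : x ∈ W) (m : Γ(F, W)),
        φ.app W m = G.presheaf.map (homOfLE hWV).op n) : Epi φ := by
  rw [Preadditive.epi_iff_cancel_zero]
  intro Q ψ hψ
  apply Scheme.Modules.hom_ext
  intro V
  ext n
  choose W hWV hxW m hm using h V n
  refine sections_ext_of_cover Q (fun x : V => W x.1 x.2) V (fun x => hWV x.1 x.2) ?_ _ _ fun x => ?_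
  · intro y hy
    exact Opens.mem_iSup.2 ⟨⟨y, hy⟩, hxW y hy⟩
  · rw [← app_naturality_apply ψ (homOfLE (hWV x.1 x.2)) n, ← hm x.1 x.2]
    have := congr(($hψ).app (W x.1 x.2) (m x.1 x.2))
    rw [Scheme.Modules.Hom.zero_app] at this ⊢
    simpa using this

theorem tildeMap_epi (ψ : M →ₗ[A] N) (hψ : IsGr ℳ 𝒩 ψ)
    (hsurj : ∀ i, ∀ n ∈ 𝒩 i, ∃ m ∈ ℳ i, ψ m = n) (t : ℤ) :
    Epi (tildeMap (𝒜 := 𝒜) ψ hψ t) := by
  apply epi_of_locally_surjective
  intro V n x hx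
  obtain ⟨W, hxW, hWV, i, j, n0, a, nin, hij, hw⟩ := exists_frac t n ⟨x, hx⟩
  by_cases h0 : n0.1 = 0
  · refine ⟨W, hWV, hxW, fracSect t (0 : ℳ i) a (Or.inr rfl) W nin, ?_⟩
    apply mv_ext
    intro y
    rw [mv_tildeMap, mv_fracSect, mv_map, hw y, locMap_mk, h0]
    simp
  · obtain ⟨m0, hm0, hm0n⟩ := hsurj i n0.1 n0.2
    have hij' : (i : ℤ) = j + t := hij.resolve_right h0
    refine ⟨W, hWV, hxW, fracSect t (⟨m0, hm0⟩ : ℳ i) a (Or.inl hij') W nin, ?_⟩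
    apply mv_ext
    intro y
    rw [mv_tildeMap, mv_fracSect, mv_map, hw y, locMap_mk, hm0n]

theorem mk_eq_zero_iff {S : Submonoid A} (m : M) (s : S) :
    LocalizedModule.mk m s = 0 ↔ ∃ u : S, u • m = 0 := by
  rw [← LocalizedModule.zero_mk (1 : S), LocalizedModule.mk_eq]
  simp

/-- homogeneous annihilators -/
def HomAnn (𝒜 : ℕ → Submodule R A) [GradedAlgebra 𝒜] (𝒩 : ℕ → Submodule R N) : Prop :=
  ∀ (c : A) (i : ℕ) (n : N), n ∈ 𝒩 i → c • n = 0 → ∀ j, (DirectSum.decompose 𝒜 c j : A) • n = 0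

theorem exists_homogeneous_kill (hann : HomAnn 𝒜 𝒩) (x : ProjectiveSpectrum 𝒜) {i : ℕ} (n : N)
    (hn : n ∈ 𝒩 i) (s : x.asHomogeneousIdeal.toIdeal.primeCompl)
    (h : (LocalizedModule.mk n s : GrTilde.LocMod 𝒜 (M := N) x) = 0) :
    ∃ (j : ℕ) (c : 𝒜 j), c.1 ∉ x.asHomogeneousIdeal ∧ c.1 • n = 0 := by
  classical
  obtain ⟨u, hu⟩ := (mk_eq_zero_iff n s).1 h
  have hall := hann u.1 i n hn hu
  by_contra hcon
  push_neg at hcon
  have hmem : ∀ j, (DirectSum.decompose 𝒜 u.1 j : A) ∈ x.asHomogeneousIdeal := by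
    intro j
    by_contra hj
    exact hcon j (DirectSum.decompose 𝒜 u.1 j) hj (hall j)
  have : u.1 ∈ x.asHomogeneousIdeal := by
    rw [← DirectSum.sum_support_decompose 𝒜 u.1]
    exact sum_mem fun j _ => hmem j
  exact u.2 this

variable (φ : K →ₗ[A] M) (hφ : IsGr 𝒦 ℳ φ) (ψ : M →ₗ[A] N) (hψ : IsGr ℳ 𝒩 ψ)

theorem tildeMap_comp_eq_zero (hzero : ψ.comp φ = 0) (t : ℤ) :
    tildeMap (𝒜 := 𝒜) φ hφ t ≫ tildeMap (𝒜 := 𝒜) ψ hψ t = 0 := by
  rw [← tildeMap_comp, tildeMap_congr hzero _ IsGr.zero t, tildeMap_zero]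

/-- **exactness of `M ↦ M(t)~`** -/
theorem tilde_shortExact (hinj : Function.Injective φ) (hzero : ψ.comp φ = 0)
    (hex : ∀ i, ∀ m ∈ ℳ i, ψ m = 0 → ∃ k ∈ 𝒦 i, φ k = m)
    (hsurj : ∀ i, ∀ n ∈ 𝒩 i, ∃ m ∈ ℳ i, ψ m = n) (hann : HomAnn 𝒜 𝒩) (t : ℤ) :
    (ShortComplex.mk (tildeMap (𝒜 := 𝒜) φ hφ t) (tildeMap (𝒜 := 𝒜) ψ hψ t)
      (tildeMap_comp_eq_zero φ hφ ψ hψ hzero t)).ShortExact := by
  have hmono := tildeMap_mono (𝒜 := 𝒜) φ hφ hinj t
  have hepi := tildeMap_epi (𝒜 := 𝒜) ψ hψ hsurj t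
  refine { exact := ?_, mono_f := hmono, epi_g := hepi }
  rw [ShortComplex.exact_iff_epi_kernel_lift]
  apply epi_of_locally_surjective
  intro V n' x hx
  set f := tildeMap (𝒜 := 𝒜) φ hφ t with hf
  set g := tildeMap (𝒜 := 𝒜) ψ hψ t with hg
  set s : Γ(GrTilde.tilde 𝒜 ℳ t, V) := (kernel.ι g).app V n' with hs
  have hgs : g.app V s = 0 := by
    have h1 : kernel.ι g ≫ g = 0 := kernel.condition g
    have := congr(($h1).app V n')
    exact this
  obtain ⟨W, hxW, hWV, i, j, m, a, nin, hij, hw⟩ := exists_frac t s ⟨x, hx⟩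
  -- a local preimage
  have key : ∃ (W' : (Proj 𝒜).Opens) (hW'V : W' ≤ V) (_ : x ∈ W') (σ : Γ(GrTilde.tilde 𝒜 𝒦 t, W')),
      f.app W' σ = (GrTilde.tilde 𝒜 ℳ t).presheaf.map (homOfLE hW'V).op s := by
    by_cases h0 : m.1 = 0
    · refine ⟨W, hWV, hxW, fracSect t (0 : 𝒦 i) a (Or.inr rfl) W nin, ?_⟩
      apply mv_ext
      intro y
      rw [hf, mv_tildeMap, mv_fracSect, mv_map, hw y, locMap_mk, h0]
      simp
    · have hij' : (i : ℤ) = j + t := hij.resolve_right h0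
      have hz : (LocalizedModule.mk (ψ m.1) ⟨a.1, nin ⟨x, hxW⟩⟩ :
          GrTilde.LocMod 𝒜 (M := N) x) = 0 := by
        have h1 := congrArg (fun z => mv t z ⟨x, hx⟩) hgs
        simp only [hg, mv_tildeMap] at h1
        have h2 := hw ⟨x, hxW⟩
        rw [h2, locMap_mk] at h1
        exact h1
      obtain ⟨j', c, hcx, hc⟩ := exists_homogeneous_kill hann x (ψ m.1) (hψ i m.1 m.2) _ hz
      have hcm : c.1 • m.1 ∈ ℳ (j' + i) := SetLike.GradedSMul.smul_mem c.2 m.2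
      have hψcm : ψ (c.1 • m.1) = 0 := by rw [map_smul, hc]
      obtain ⟨k, hk, hkm⟩ := hex (j' + i) _ hcm hψcm
      have hnin' : ∀ y : (W ⊓ Proj.basicOpen 𝒜 c.1 : (Proj 𝒜).Opens),
          (c.1 * a.1) ∉ y.1.asHomogeneousIdeal := fun y hy =>
        (y.1.isPrime.mem_or_mem hy).elim
          ((ProjectiveSpectrum.mem_basicOpen 𝒜 c.1 y.1).1 y.2.2) (nin ⟨y.1, y.2.1⟩)
      refine ⟨W ⊓ Proj.basicOpen 𝒜 c.1, inf_le_left.trans hWV,
        ⟨hxW, (ProjectiveSpectrum.mem_basicOpen 𝒜 c.1 x).2 hcx⟩,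
        fracSect t (⟨k, hk⟩ : 𝒦 (j' + i)) (⟨c.1 * a.1, SetLike.mul_mem_graded c.2 a.2⟩ : 𝒜 (j' + j))
          (Or.inl (by push_cast; omega)) _ hnin', ?_⟩
      apply mv_ext
      intro y
      rw [hf, mv_tildeMap, mv_fracSect, mv_map, hw ⟨y.1, y.2.1⟩, locMap_mk]
      show LocalizedModule.mk (φ k) _ = _
      rw [hkm]
      exact LocalizedModule.mk_cancel_common_left
        (⟨c.1, (ProjectiveSpectrum.mem_basicOpen 𝒜 c.1 y.1).1 y.2.2⟩ :
          y.1.asHomogeneousIdeal.toIdeal.primeCompl) ⟨a.1, nin ⟨y.1, y.2.1⟩⟩ m.1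
  obtain ⟨W', hW'V, hxW', σ, hσ⟩ := key
  refine ⟨W', hW'V, hxW', σ, ?_⟩
  have hι : Function.Injective ((kernel.ι g).app W') := app_injective_of_mono (kernel.ι g) W'
  apply hι
  have h1 : kernel.lift g f (tildeMap_comp_eq_zero φ hφ ψ hψ hzero t) ≫ kernel.ι g = f :=
    kernel.lift_ι _ _ _
  have h2 := congr(($h1).app W' σ)
  rw [Scheme.Modules.Hom.comp_app] at h2
  rw [app_naturality_apply (kernel.ι g) (homOfLE hW'V) n', ← hs, ← hσ]
  exact h2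

omit [SetLike.GradedSMul 𝒜 𝒦] [SetLike.GradedSMul 𝒜 𝒩] in
theorem isZero_tilde_of_subsingleton [Subsingleton M] (t : ℤ) : IsZero (GrTilde.tilde 𝒜 ℳ t) := by
  rw [IsZero.iff_id_eq_zero]
  apply Scheme.Modules.hom_ext
  intro U
  ext s
  apply mv_ext
  intro p
  exact Subsingleton.elim _ _

end Groth.Agent.Lib.Helper77.TM
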