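import Mathlib
import Groth.Prelude.Def_GrMod2
import Groth.Agent.Lib.Helper77.TM2

/-!
MF1 (helper77): degree-shifting maps `M(t)~ ⟶ N(t')~`, epimorphisms from surjectivity up to
homogeneous multiples, short exact sequences of `~` with that weaker surjectivity.

* `IsGrD ℳ 𝒩 φ a`, `tildeMapD φ t t' hφ : tilde 𝒜 ℳ t ⟶ tilde 𝒜 𝒩 t'`, `mv_tildeMapD`
* `tildeMap_epi_weak`, `tilde_shortExact_weak`
-/

set_option autoImplicit false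
universe u
open CategoryTheory CategoryTheory.Limits AlgebraicGeometry Opposite TopologicalSpace

namespace Groth.Agent.Lib.Helper77.TM

open Groth.Agent.Lib.QCoh

variable {R A : Type u} [CommRing R] [CommRing A] [Algebra R A] {𝒜 : ℕ → Submodule R A}
  [GradedAlgebra 𝒜]
  {K : Type u} [AddCommGroup K] [Module R K] [Module A K]
  {M : Type u} [AddCommGroup M] [Module R M] [Module A M]
  {N : Type u} [AddCommGroup N] [Module R N] [Module A N]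
  {𝒦 : ℕ → Submodule R K} {ℳ : ℕ → Submodule R M} {𝒩 : ℕ → Submodule R N}

variable (ℳ 𝒩) in
/-- `φ` lowers degrees by `a` (or kills) -/
def IsGrD (φ : M →ₗ[A] N) (a : ℤ) : Prop :=
  ∀ i, ∀ m ∈ ℳ i, (∃ i' : ℕ, (i : ℤ) = i' + a ∧ φ m ∈ 𝒩 i') ∨ φ m = 0

variable [SetLike.GradedSMul 𝒜 𝒦] [SetLike.GradedSMul 𝒜 ℳ] [SetLike.GradedSMul 𝒜 𝒩]

theorem locMap_memD (φ : M →ₗ[A] N) (t t' : ℤ) (hφ : IsGrD ℳ 𝒩 φ (t - t'))
    (x : ProjectiveSpectrum 𝒜)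
    (q : GrTilde.LocMod 𝒜 (M := M) x) (hq : q ∈ GrTilde.tildeAt 𝒜 ℳ t x) :
    locMap φ x q ∈ GrTilde.tildeAt 𝒜 𝒩 t' x := by
  unfold GrTilde.tildeAt at hq ⊢
  induction hq using Submodule.span_induction with
  | mem q hq =>
    obtain ⟨i, j, m, s, hs, hij, rfl⟩ := hq
    rw [locMap_mk]
    rcases hφ i m.1 m.2 with ⟨i', hi', hm⟩ | hm
    · exact Submodule.subset_span ⟨i', j, ⟨φ m.1, hm⟩, s, hs, by omega, rfl⟩
    · rw [hm, LocalizedModule.zero_mk]; exact zero_mem _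
  | zero => rw [map_zero]; exact zero_mem _
  | add a b _ _ ha hb => rw [map_add]; exact add_mem ha hb
  | smul c a _ ha => rw [locMap_a0_smul]; exact Submodule.smul_mem _ c ha

/-- the map on sections, as a function -/
noncomputable def mapSectFunD (φ : M →ₗ[A] N) (t t' : ℤ) (hφ : IsGrD ℳ 𝒩 φ (t - t'))
    (U : (Opens (ProjectiveSpectrum.top 𝒜))ᵒᵖ) (s : GrTilde.sect 𝒜 ℳ t U) :
    ∀ x : U.unop, GrTilde.tildeAt 𝒜 𝒩 t' x.1 :=
  fun x => ⟨locMap φ x.1 (s.1 x).1, locMap_memD φ t t' hφ x.1 _ (s.1 x).2⟩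

theorem mapSectFunD_pred (φ : M →ₗ[A] N) (t t' : ℤ) (hφ : IsGrD ℳ 𝒩 φ (t - t'))
    (U : (Opens (ProjectiveSpectrum.top 𝒜))ᵒᵖ) (s : GrTilde.sect 𝒜 ℳ t U) :
    (GrTilde.isLocFrac 𝒜 𝒩 t').pred (mapSectFunD φ t t' hφ U s) := by
  intro x
  obtain ⟨V, hxV, i, i', j, m, a, nin, h, w⟩ := s.2 x
  have hw : ∀ y : V, locMap φ _ ((s.1 (i y)).1) = LocalizedModule.mk (φ m.1) ⟨a.1, nin y⟩ := by
    intro y
    have := w y
    dsimp only at this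
    erw [this, locMap_mk]
  rcases hφ i' m.1 m.2 with ⟨i'', hi'', hm⟩ | hm
  · refine ⟨V, hxV, i, i'', j, ⟨φ m.1, hm⟩, a, nin, ?_, fun y => hw y⟩
    rcases h with h | h
    · exact Or.inl (by omega)
    · refine Or.inr ?_
      show φ m.1 = 0
      rw [h, map_zero]
  · refine ⟨V, hxV, i, 0, j, 0, a, nin, Or.inr rfl, fun y => ?_⟩
    refine (hw y).trans ?_
    rw [hm]
    rfl

/-- the map on sections -/
noncomputable def mapSectD (φ : M →ₗ[A] N) (t t' : ℤ) (hφ : IsGrD ℳ 𝒩 φ (t - t'))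
    (U : (Opens (ProjectiveSpectrum.top 𝒜))ᵒᵖ) :
    GrTilde.sect 𝒜 ℳ t U →ₗ[Twist.O (𝒜 := 𝒜) U] GrTilde.sect 𝒜 𝒩 t' U where
  toFun s := ⟨mapSectFunD φ t t' hφ U s, mapSectFunD_pred φ t t' hφ U s⟩
  map_add' s s' := by
    apply Subtype.ext
    funext x
    apply Subtype.ext
    show locMap φ x.1 ((s.1 x).1 + (s'.1 x).1) = locMap φ x.1 (s.1 x).1 + locMap φ x.1 (s'.1 x).1
    rw [map_add]
  map_smul' r s := by
    apply Subtype.ext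
    funext x
    apply Subtype.ext
    show locMap φ x.1 ((r.1 x • s.1 x : GrTilde.tildeAt 𝒜 ℳ t x.1) : GrTilde.LocMod 𝒜 (M := M) x.1) =
      ((r.1 x • (⟨locMap φ x.1 (s.1 x).1, locMap_memD φ t t' hφ x.1 _ (s.1 x).2⟩ :
        GrTilde.tildeAt 𝒜 𝒩 t' x.1) : GrTilde.tildeAt 𝒜 𝒩 t' x.1) : GrTilde.LocMod 𝒜 (M := N) x.1)
    rw [GrTilde.coe_smul_val, GrTilde.coe_smul_val, map_smul]

/-- **degree-shifting functoriality of `M(t)~`** -/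
noncomputable def tildeMapD (φ : M →ₗ[A] N) (t t' : ℤ) (hφ : IsGrD ℳ 𝒩 φ (t - t')) :
    GrTilde.tilde 𝒜 ℳ t ⟶ GrTilde.tilde 𝒜 𝒩 t' :=
  SheafOfModules.Hom.mk
    (PresheafOfModules.homMk (M₁ := GrTilde.tildePMod 𝒜 ℳ t) (M₂ := GrTilde.tildePMod 𝒜 𝒩 t')
      { app := fun U => AddCommGrpCat.ofHom (mapSectD φ t t' hφ U).toAddMonoidHom
        naturality := fun _ _ _ => rfl }
      (fun U r s => (mapSectD φ t t' hφ U).map_smul r s))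

theorem mv_tildeMapD (φ : M →ₗ[A] N) (t t' : ℤ) (hφ : IsGrD ℳ 𝒩 φ (t - t')) {U : (Proj 𝒜).Opens}
    (s : Γ(GrTilde.tilde 𝒜 ℳ t, U)) (p : U) :
    mv t' ((tildeMapD φ t t' hφ).app U s) p = locMap φ p.1 (mv t s p) := rfl

/-- epimorphism from surjectivity up to homogeneous multiples -/
theorem tildeMap_epi_weak (ψ : M →ₗ[A] N) (hψ : IsGr ℳ 𝒩 ψ)
    (hsurj : ∀ i, ∀ n ∈ 𝒩 i, ∀ x : ProjectiveSpectrum 𝒜, ∃ (j : ℕ) (c : 𝒜 j),
      c.1 ∉ x.asHomogeneousIdeal ∧ ∃ m ∈ ℳ (j + i), ψ m = c.1 • n) (t : ℤ) :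
    Epi (tildeMap (𝒜 := 𝒜) ψ hψ t) := by
  apply epi_of_locally_surjective
  intro V n x hx
  obtain ⟨W, hxW, hWV, i, j, n0, a, nin, hij, hw⟩ := exists_frac t n ⟨x, hx⟩
  by_cases h0 : n0.1 = 0
  · refine ⟨W, hWV, hxW, fracSect t (0 : ℳ i) a (Or.inr rfl) W nin, ?_⟩
    apply mv_ext
    intro y
    rw [mv_tildeMap, mv_fracSect, mv_map, hw y, locMap_mk, h0]
    simp
  · obtain ⟨j', c, hcx, m0, hm0, hm0n⟩ := hsurj i n0.1 n0.2 x
    have hij' : (i : ℤ) = j + t := hij.resolve_right h0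
    have hnin' : ∀ y : (W ⊓ Proj.basicOpen 𝒜 c.1 : (Proj 𝒜).Opens),
        (c.1 * a.1) ∉ y.1.asHomogeneousIdeal := fun y hy =>
      (y.1.isPrime.mem_or_mem hy).elim
        ((ProjectiveSpectrum.mem_basicOpen 𝒜 c.1 y.1).1 y.2.2) (nin ⟨y.1, y.2.1⟩)
    refine ⟨W ⊓ Proj.basicOpen 𝒜 c.1, inf_le_left.trans hWV,
      ⟨hxW, (ProjectiveSpectrum.mem_basicOpen 𝒜 c.1 x).2 hcx⟩,
      fracSect t (⟨m0, hm0⟩ : ℳ (j' + i)) (⟨c.1 * a.1, SetLike.mul_mem_graded c.2 a.2⟩ : 𝒜 (j' + j))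
        (Or.inl (by push_cast; omega)) _ hnin', ?_⟩
    apply mv_ext
    intro y
    rw [mv_tildeMap, mv_fracSect, mv_map, hw ⟨y.1, y.2.1⟩, locMap_mk]
    show LocalizedModule.mk (ψ m0) _ = _
    rw [hm0n]
    exact LocalizedModule.mk_cancel_common_left
      (⟨c.1, (ProjectiveSpectrum.mem_basicOpen 𝒜 c.1 y.1).1 y.2.2⟩ :
        y.1.asHomogeneousIdeal.toIdeal.primeCompl) ⟨a.1, nin ⟨y.1, y.2.1⟩⟩ n0.1

variable (φ : K →ₗ[A] M) (hφ : IsGr 𝒦 ℳ φ) (ψ : M →ₗ[A] N) (hψ : IsGr ℳ 𝒩 ψ)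

/-- exactness of `M ↦ M(t)~`, the epimorphism being given -/
theorem tilde_shortExact_of_epi (hinj : Function.Injective φ) (hzero : ψ.comp φ = 0)
    (hex : ∀ i, ∀ m ∈ ℳ i, ψ m = 0 → ∃ k ∈ 𝒦 i, φ k = m)
    (hann : HomAnn 𝒜 𝒩) (t : ℤ) (hepi : Epi (tildeMap (𝒜 := 𝒜) ψ hψ t)) :
    (ShortComplex.mk (tildeMap (𝒜 := 𝒜) φ hφ t) (tildeMap (𝒜 := 𝒜) ψ hψ t)
      (tildeMap_comp_eq_zero φ hφ ψ hψ hzero t)).ShortExact := by
  have hmono := tildeMap_mono (𝒜 := 𝒜) φ hφ hinj t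
  refine { exact := ?_, mono_f := hmono, epi_g := hepi }
  rw [ShortComplex.exact_iff_epi_kernel_lift]
  apply epi_of_locally_surjective
  intro V n' x hx
  set f := tildeMap (𝒜 := 𝒜) φ hφ t with hf
  set g := tildeMap (𝒜 := 𝒜) ψ hψ t with hg
  set s : Γ(GrTilde.tilde 𝒜 ℳ t, V) := (kernel.ι g).app V n' with hs
  have hgs : g.app V s = 0 := by
    have h1 : kernel.ι g ≫ g = 0 := kernel.condition g
    have := congr(($h1).app V n')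
    exact this
  obtain ⟨W, hxW, hWV, i, j, m, a, nin, hij, hw⟩ := exists_frac t s ⟨x, hx⟩
  -- a local preimage
  have key : ∃ (W' : (Proj 𝒜).Opens) (hW'V : W' ≤ V) (_ : x ∈ W') (σ : Γ(GrTilde.tilde 𝒜 𝒦 t, W')),
      f.app W' σ = (GrTilde.tilde 𝒜 ℳ t).presheaf.map (homOfLE hW'V).op s := by
    by_cases h0 : m.1 = 0
    · refine ⟨W, hWV, hxW, fracSect t (0 : 𝒦 i) a (Or.inr rfl) W nin, ?_⟩
      apply mv_ext
      intro y
      rw [hf, mv_tildeMap, mv_fracSect, mv_map, hw y, locMap_mk, h0]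
      simp
    · have hij' : (i : ℤ) = j + t := hij.resolve_right h0
      have hz : (LocalizedModule.mk (ψ m.1) ⟨a.1, nin ⟨x, hxW⟩⟩ :
          GrTilde.LocMod 𝒜 (M := N) x) = 0 := by
        have h1 := congrArg (fun z => mv t z ⟨x, hx⟩) hgs
        simp only [hg, mv_tildeMap] at h1
        have h2 := hw ⟨x, hxW⟩
        rw [h2, locMap_mk] at h1
        exact h1
      obtain ⟨j', c, hcx, hc⟩ := exists_homogeneous_kill hann x (ψ m.1) (hψ i m.1 m.2) _ hz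
      have hcm : c.1 • m.1 ∈ ℳ (j' + i) := SetLike.GradedSMul.smul_mem c.2 m.2
      have hψcm : ψ (c.1 • m.1) = 0 := by rw [map_smul, hc]
      obtain ⟨k, hk, hkm⟩ := hex (j' + i) _ hcm hψcm
      have hnin' : ∀ y : (W ⊓ Proj.basicOpen 𝒜 c.1 : (Proj 𝒜).Opens),
          (c.1 * a.1) ∉ y.1.asHomogeneousIdeal := fun y hy =>
        (y.1.isPrime.mem_or_mem hy).elim
          ((ProjectiveSpectrum.mem_basicOpen 𝒜 c.1 y.1).1 y.2.2) (nin ⟨y.1, y.2.1⟩)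
      refine ⟨W ⊓ Proj.basicOpen 𝒜 c.1, inf_le_left.trans hWV,
        ⟨hxW, (ProjectiveSpectrum.mem_basicOpen 𝒜 c.1 x).2 hcx⟩,
        fracSect t (⟨k, hk⟩ : 𝒦 (j' + i)) (⟨c.1 * a.1, SetLike.mul_mem_graded c.2 a.2⟩ : 𝒜 (j' + j))
          (Or.inl (by push_cast; omega)) _ hnin', ?_⟩
      apply mv_ext
      intro y
      rw [hf, mv_tildeMap, mv_fracSect, mv_map, hw ⟨y.1, y.2.1⟩, locMap_mk]
      show LocalizedModule.mk (φ k) _ = _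
      rw [hkm]
      exact LocalizedModule.mk_cancel_common_left
        (⟨c.1, (ProjectiveSpectrum.mem_basicOpen 𝒜 c.1 y.1).1 y.2.2⟩ :
          y.1.asHomogeneousIdeal.toIdeal.primeCompl) ⟨a.1, nin ⟨y.1, y.2.1⟩⟩ m.1
  obtain ⟨W', hW'V, hxW', σ, hσ⟩ := key
  refine ⟨W', hW'V, hxW', σ, ?_⟩
  have hι : Function.Injective ((kernel.ι g).app W') := app_injective_of_mono (kernel.ι g) W'
  apply hι
  have h1 : kernel.lift g f (tildeMap_comp_eq_zero φ hφ ψ hψ hzero t) ≫ kernel.ι g = f :=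
    kernel.lift_ι _ _ _
  have h2 := congr(($h1).app W' σ)
  rw [Scheme.Modules.Hom.comp_app] at h2
  rw [app_naturality_apply (kernel.ι g) (homOfLE hW'V) n', ← hs, ← hσ]
  exact h2


theorem tilde_shortExact_weak (hinj : Function.Injective φ) (hzero : ψ.comp φ = 0)
    (hex : ∀ i, ∀ m ∈ ℳ i, ψ m = 0 → ∃ k ∈ 𝒦 i, φ k = m)
    (hsurj : ∀ i, ∀ n ∈ 𝒩 i, ∀ x : ProjectiveSpectrum 𝒜, ∃ (j : ℕ) (c : 𝒜 j),
      c.1 ∉ x.asHomogeneousIdeal ∧ ∃ m ∈ ℳ (j + i), ψ m = c.1 • n) (hann : HomAnn 𝒜 𝒩) (t : ℤ) :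
    (ShortComplex.mk (tildeMap (𝒜 := 𝒜) φ hφ t) (tildeMap (𝒜 := 𝒜) ψ hψ t)
      (tildeMap_comp_eq_zero φ hφ ψ hψ hzero t)).ShortExact :=
  tilde_shortExact_of_epi φ hφ ψ hψ hinj hzero hex hann t (tildeMap_epi_weak ψ hψ hsurj t)

end Groth.Agent.Lib.Helper77.TM
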