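import Mathlib
import Groth.Prelude.Def_GrMod2
import Groth.Agent.Lib.Helper77.MF1
import Groth.Agent.Lib.Helper66.HomogSubmodule
import Groth.Agent.Lib.Cohomology.helper5_HHLES

/-!
MF2 (helper77): for a graded module `N` over a graded ring and degree-one elements `x_v`
(`v : Fin q`), the graded module `N(-1)^q` (`pgr`), the map `μ : N(-1)^q → N`, `(n_v) ↦ Σ x_v n_v`,
its graded kernel, and the short exact sequence of sheaves
`0 → K~(t) → (N(-1)^q)~(t) → N~(t) → 0` on `Proj` when the `D₊(x_v)` cover.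
-/

set_option autoImplicit false
set_option linter.unusedSectionVars false
universe u
open CategoryTheory CategoryTheory.Limits AlgebraicGeometry Opposite TopologicalSpace DirectSum

namespace Groth.Agent.Lib.Helper77.TM

open Groth.Agent.Lib.QCoh Groth.Agent.Lib.Helper66

variable {R A : Type u} [CommRing R] [CommRing A] [Algebra R A] {𝒜 : ℕ → Submodule R A}
  [GradedAlgebra 𝒜]
  {N : Type u} [AddCommGroup N] [Module R N] [Module A N] [IsScalarTower R A N]
  (𝒩 : ℕ → Submodule R N)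

/-- the shifted grading `N(-1)` -/
def sh : ℕ → Submodule R N
  | 0 => ⊥
  | i + 1 => 𝒩 i

variable (q : ℕ)

/-- the pieces of `N(-1)^q` -/
def pgr (i : ℕ) : Submodule R (Fin q → N) where
  carrier := {f | ∀ v, f v ∈ sh 𝒩 i}
  add_mem' ha hb := fun v => add_mem (ha v) (hb v)
  zero_mem' := fun _ => zero_mem _
  smul_mem' c f hf := fun v => Submodule.smul_mem _ c (hf v)

theorem mem_pgr {i : ℕ} {f : Fin q → N} : f ∈ pgr 𝒩 q i ↔ ∀ v, f v ∈ sh 𝒩 i := Iff.rfl

theorem eq_zero_of_mem_pgr_zero {f : Fin q → N} (hf : f ∈ pgr 𝒩 q 0) : f = 0 := by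
  funext v
  exact (Submodule.mem_bot R).1 (hf v)

theorem single_mem_pgr (v : Fin q) {x : N} {i : ℕ} (hx : x ∈ 𝒩 i) :
    Pi.single v x ∈ pgr 𝒩 q (i + 1) := by
  intro v'
  by_cases hv : v' = v
  · subst hv; rw [Pi.single_eq_same]; exact hx
  · rw [Pi.single_eq_of_ne hv]; exact zero_mem _

/-- `x ↦ x e_v` on pieces -/
def psing (v : Fin q) (i : ℕ) : 𝒩 i →+ pgr 𝒩 q (i + 1) where
  toFun x := ⟨Pi.single v (x : N), single_mem_pgr 𝒩 q v x.2⟩
  map_zero' := Subtype.ext (Pi.single_zero v)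
  map_add' x y := Subtype.ext (by
    change (Pi.single v ((x : N) + (y : N)) : Fin q → N) =
      (Pi.single v (x : N) : Fin q → N) + (Pi.single v (y : N) : Fin q → N)
    exact Pi.single_add v _ _)

/-- the `v`-th summand of the decomposition map -/
noncomputable def pT (v : Fin q) : (⨁ i, 𝒩 i) →+ ⨁ i, pgr 𝒩 q i :=
  DirectSum.toAddMonoid
    (fun i => (DirectSum.of (fun i => pgr 𝒩 q i) (i + 1)).comp (psing 𝒩 q v i))

theorem coe_pT (v : Fin q) (z : ⨁ i, 𝒩 i) :
    DirectSum.coeAddMonoidHom (pgr 𝒩 q) (pT 𝒩 q v z) =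
      Pi.single v (DirectSum.coeAddMonoidHom 𝒩 z) := by
  induction z using DirectSum.induction_on with
  | zero => rw [map_zero, map_zero, map_zero, Pi.single_zero]
  | of h x =>
    rw [pT, DirectSum.toAddMonoid_of, AddMonoidHom.comp_apply, DirectSum.coeAddMonoidHom_of,
      DirectSum.coeAddMonoidHom_of]
    rfl
  | add z w hz hw => rw [map_add, map_add, map_add, hz, hw, Pi.single_add]

variable [DirectSum.Decomposition 𝒩]

/-- the decomposition map of `N(-1)^q` -/
noncomputable def pdecomp : (Fin q → N) →+ ⨁ i, pgr 𝒩 q i :=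
  ∑ v : Fin q, (pT 𝒩 q v).comp
    ((decomposeAddEquiv 𝒩).toAddMonoidHom.comp (Pi.evalAddMonoidHom (fun _ : Fin q => N) v))

theorem pdecomp_apply (f : Fin q → N) :
    pdecomp 𝒩 q f = ∑ v : Fin q, pT 𝒩 q v (decompose 𝒩 (f v)) := by
  rw [pdecomp, AddMonoidHom.finsetSum_apply]
  rfl

noncomputable instance pgrDecomposition : Decomposition (pgr 𝒩 q) :=
  Decomposition.ofAddHom (pgr 𝒩 q) (pdecomp 𝒩 q)
    (by
      refine AddMonoidHom.ext fun f => ?_
      change DirectSum.coeAddMonoidHom (pgr 𝒩 q) (pdecomp 𝒩 q f) = f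
      rw [pdecomp_apply, map_sum]
      have : ∀ v ∈ Finset.univ, DirectSum.coeAddMonoidHom (pgr 𝒩 q)
          (pT 𝒩 q v (decompose 𝒩 (f v))) = Pi.single v (f v) := by
        intro v _
        rw [coe_pT]
        congr 1
        exact (decompose 𝒩).symm_apply_apply (f v)
      rw [Finset.sum_congr rfl this]
      exact Finset.univ_sum_single f)
    (by
      apply DirectSum.addHom_ext
      intro g w
      change pdecomp 𝒩 q
        (DirectSum.coeAddMonoidHom (pgr 𝒩 q) (DirectSum.of (fun g => pgr 𝒩 q g) g w)) = _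
      rw [DirectSum.coeAddMonoidHom_of]
      cases g with
      | zero =>
        have hw : w = 0 := Subtype.ext (eq_zero_of_mem_pgr_zero 𝒩 q w.2)
        rw [hw]
        simp
      | succ g =>
        rw [pdecomp_apply]
        have : ∀ v ∈ Finset.univ, pT 𝒩 q v (decompose 𝒩 ((w : Fin q → N) v)) =
            DirectSum.of (fun g => pgr 𝒩 q g) (g + 1)
              ⟨Pi.single v ((w : Fin q → N) v), single_mem_pgr 𝒩 q v (w.2 v)⟩ := by
          intro v _
          rw [DirectSum.decompose_of_mem 𝒩 (w.2 v), pT, DirectSum.toAddMonoid_of,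
            AddMonoidHom.comp_apply]
          rfl
        rw [Finset.sum_congr rfl this, ← map_sum]
        refine congrArg (DirectSum.of (fun g => pgr 𝒩 q g) (g + 1)) ?_
        apply Subtype.ext
        rw [Submodule.coe_sum]
        exact Finset.univ_sum_single (w : Fin q → N))

variable [SetLike.GradedSMul 𝒜 𝒩]

omit [DirectSum.Decomposition 𝒩] [IsScalarTower R A N] in
theorem smul_mem_sh {i j : ℕ} {a : A} {n : N} (ha : a ∈ 𝒜 i) (hn : n ∈ sh 𝒩 j) :
    a • n ∈ sh 𝒩 (i + j) := by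
  cases j with
  | zero =>
    have : n = 0 := (Submodule.mem_bot R).1 hn
    rw [this, smul_zero]
    exact zero_mem _
  | succ j =>
    have h : a • n ∈ 𝒩 (i +ᵥ j) := SetLike.GradedSMul.smul_mem ha hn
    exact h

instance pgrGradedSMul : SetLike.GradedSMul 𝒜 (pgr 𝒩 q) where
  smul_mem := by
    intro i j a f ha hf v
    exact smul_mem_sh 𝒩 ha (hf v)

section mu

variable (x : Fin q → A) (hx : ∀ v, x v ∈ 𝒜 1)

/-- `(n_v) ↦ Σ x_v n_v` -/
noncomputable def mu : (Fin q → N) →ₗ[A] N :=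
  ∑ v : Fin q, (x v) • (LinearMap.proj v : (Fin q → N) →ₗ[A] N)

omit [IsScalarTower R A N] [GradedAlgebra 𝒜] [Algebra R A] [Module R N] in
theorem mu_apply (f : Fin q → N) : mu q x f = ∑ v : Fin q, x v • f v := by
  rw [mu, LinearMap.sum_apply]
  rfl

omit [IsScalarTower R A N] [GradedAlgebra 𝒜] [Algebra R A] [Module R N] in
theorem mu_single (v : Fin q) (n : N) : mu q x (Pi.single v n) = x v • n := by
  rw [mu_apply, Finset.sum_eq_single v]
  · rw [Pi.single_eq_same]
  · intro b _ hb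
    rw [Pi.single_eq_of_ne hb, smul_zero]
  · intro h; exact absurd (Finset.mem_univ v) h

include hx in
omit [DirectSum.Decomposition 𝒩] [IsScalarTower R A N] in
theorem mu_isGr : IsGr (pgr 𝒩 q) 𝒩 (mu q x) := by
  intro i f hf
  rw [mu_apply]
  cases i with
  | zero =>
    rw [eq_zero_of_mem_pgr_zero 𝒩 q hf]
    simp
  | succ i =>
    refine sum_mem fun v _ => ?_
    have h : x v • f v ∈ 𝒩 (1 +ᵥ i) := SetLike.GradedSMul.smul_mem (hx v) (hf v)
    rw [vadd_eq_add, add_comm] at h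
    exact h

end mu

section decomp

variable {M : Type u} [AddCommGroup M] [Module R M] [Module A M]
  (ℳ : ℕ → Submodule R M) [DirectSum.Decomposition ℳ]

omit [IsScalarTower R A N] [SetLike.GradedSMul 𝒜 𝒩] [GradedAlgebra 𝒜] in
/-- graded maps commute with taking components -/
theorem decompose_isGr (φ : M →ₗ[A] N) (hφ : IsGr ℳ 𝒩 φ) (z : M) (n : ℕ) :
    (decompose 𝒩 (φ z) n : N) = φ (decompose ℳ z n : M) := by
  classical
  conv_lhs => rw [← DirectSum.sum_support_decompose ℳ z]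
  rw [map_sum, DirectSum.decompose_sum, DFinsupp.finset_sum_apply, AddSubmonoidClass.coe_finset_sum]
  rw [Finset.sum_eq_single n]
  · rw [DirectSum.decompose_of_mem_same 𝒩 (hφ n _ (SetLike.coe_mem _))]
  · intro b _ hb
    rw [DirectSum.decompose_of_mem_ne 𝒩 (hφ b _ (SetLike.coe_mem _)) hb]
  · intro hn
    have : (decompose ℳ z n : M) = 0 := by
      rw [DFinsupp.mem_support_toFun, not_not] at hn
      rw [hn]; rfl
    rw [this, map_zero, DirectSum.decompose_zero]
    rfl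

omit [GradedAlgebra 𝒜] in
/-- the kernel of a graded map is homogeneous -/
theorem ker_homogeneous (φ : M →ₗ[A] N) (hφ : IsGr ℳ 𝒩 φ) :
    ∀ z ∈ LinearMap.ker φ, ∀ n, (DirectSum.decompose ℳ z n : M) ∈ LinearMap.ker φ := by
  intro z hz n
  rw [LinearMap.mem_ker] at hz ⊢
  rw [← decompose_isGr 𝒩 ℳ φ hφ z n, hz, DirectSum.decompose_zero]
  rfl

end decomp

/-- homogeneous annihilators, from a decomposition -/
theorem homAnn_of_decomposition : HomAnn 𝒜 𝒩 := by
  intro c i n hn hc j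
  have h := HomogSub.decompose_smul_of_le 𝒜 𝒩 hn c (Nat.le_add_left i j)
  rw [hc, DirectSum.decompose_zero, Nat.add_sub_cancel] at h
  exact h.symm

section ses

variable (x : Fin q → A) (hx : ∀ v, x v ∈ 𝒜 1)
  (hcov : ∀ p : ProjectiveSpectrum 𝒜, ∃ v, x v ∉ p.asHomogeneousIdeal)

/-- the grading on the kernel of `μ` -/
noncomputable def kgr : ℕ → Submodule R (LinearMap.ker (mu (N := N) q x)) :=
  HomogSub.grading (pgr 𝒩 q) (LinearMap.ker (mu (N := N) q x))

noncomputable instance kgrSMul : SetLike.GradedSMul 𝒜 (kgr 𝒩 q x) :=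
  HomogSub.gradedSMul 𝒜 (pgr 𝒩 q) (LinearMap.ker (mu (N := N) q x))

include hx in
theorem kgr_homogeneous : ∀ z ∈ LinearMap.ker (mu (N := N) q x), ∀ n,
    (DirectSum.decompose (pgr 𝒩 q) z n : Fin q → N) ∈ LinearMap.ker (mu (N := N) q x) :=
  ker_homogeneous 𝒩 (pgr 𝒩 q) (mu q x) (mu_isGr 𝒩 q x hx)

/-- the decomposition of the kernel -/
noncomputable def kdec : DirectSum.Decomposition (kgr 𝒩 q x) :=
  HomogSub.decomposition (pgr 𝒩 q) _ (kgr_homogeneous 𝒩 q x hx)

theorem subtype_isGr :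
    IsGr (kgr 𝒩 q x) (pgr 𝒩 q) (LinearMap.ker (mu (N := N) q x)).subtype := fun _ _ hz => hz

include hcov in
/-- **the Euler-type sequence** `0 → K~(t) → (N(-1)^q)~(t) → N~(t) → 0` -/
theorem pses (t : ℤ) :
    (ShortComplex.mk (tildeMap (𝒜 := 𝒜) (ℳ := kgr 𝒩 q x) (𝒩 := pgr 𝒩 q)
        (LinearMap.ker (mu (N := N) q x)).subtype (subtype_isGr 𝒩 q x) t)
      (tildeMap (𝒜 := 𝒜) (ℳ := pgr 𝒩 q) (𝒩 := 𝒩) (mu q x) (mu_isGr 𝒩 q x hx) t)
      (tildeMap_comp_eq_zero (LinearMap.ker (mu (N := N) q x)).subtype (subtype_isGr 𝒩 q x)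
        (mu q x) (mu_isGr 𝒩 q x hx) (LinearMap.ext fun z => z.2) t)).ShortExact := by
  refine tilde_shortExact_weak _ _ _ _ Subtype.val_injective (LinearMap.ext fun z => z.2) ?_ ?_
    (homAnn_of_decomposition 𝒩) t
  · intro i m hm hm0
    exact ⟨⟨m, hm0⟩, hm, rfl⟩
  · intro i n hn p
    obtain ⟨v, hv⟩ := hcov p
    refine ⟨1, ⟨x v, hx v⟩, hv, Pi.single v n, ?_, mu_single q x v n⟩
    rw [add_comm]
    exact single_mem_pgr 𝒩 q v hn

end ses

section transfer

omit [DirectSum.Decomposition 𝒩] [IsScalarTower R A N] [SetLike.GradedSMul 𝒜 𝒩] [GradedAlgebra 𝒜] in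
theorem single_isGrD (v : Fin q) (t : ℤ) :
    IsGrD 𝒩 (pgr 𝒩 q) (LinearMap.single A (fun _ : Fin q => N) v) ((t - 1) - t) := by
  intro i m hm
  exact Or.inl ⟨i + 1, by push_cast; ring, single_mem_pgr 𝒩 q v hm⟩

omit [DirectSum.Decomposition 𝒩] [IsScalarTower R A N] [SetLike.GradedSMul 𝒜 𝒩] [GradedAlgebra 𝒜] in
theorem proj_isGrD (v : Fin q) (t : ℤ) :
    IsGrD (pgr 𝒩 q) 𝒩 (LinearMap.proj v : (Fin q → N) →ₗ[A] N) (t - (t - 1)) := by
  intro i f hf
  cases i with
  | zero =>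
    refine Or.inr ?_
    rw [eq_zero_of_mem_pgr_zero 𝒩 q hf, map_zero]
  | succ i => exact Or.inl ⟨i, by push_cast; ring, hf v⟩

omit [DirectSum.Decomposition 𝒩] [IsScalarTower R A N] [SetLike.GradedSMul 𝒜 𝒩] [GradedAlgebra 𝒜] in
theorem single_proj_isGr (v : Fin q) :
    IsGr (pgr 𝒩 q) (pgr 𝒩 q)
      ((LinearMap.single A (fun _ : Fin q => N) v).comp (LinearMap.proj v)) := by
  intro i f hf v'
  show (Pi.single v (f v) : Fin q → N) v' ∈ sh 𝒩 i
  by_cases hv : v' = v
  · subst hv; rw [Pi.single_eq_same]; exact hf v'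
  · rw [Pi.single_eq_of_ne hv]; exact zero_mem _

omit [DirectSum.Decomposition 𝒩] [IsScalarTower R A N] in
theorem proj_comp_single (v : Fin q) (t : ℤ) :
    tildeMapD (𝒜 := 𝒜) (LinearMap.proj v : (Fin q → N) →ₗ[A] N) t (t - 1) (proj_isGrD 𝒩 q v t) ≫
      tildeMapD (𝒜 := 𝒜) (LinearMap.single A (fun _ : Fin q => N) v) (t - 1) t
        (single_isGrD 𝒩 q v t) =
    tildeMap (𝒜 := 𝒜) _ (single_proj_isGr 𝒩 q v) t := by
  apply Scheme.Modules.hom_ext
  intro U
  ext s
  apply mv_ext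
  intro p
  rw [mv_tildeMap, locMap_comp]
  rfl

open Groth.Agent.Lib.Cohomology.HHLES in
theorem hmap_sum {X : Scheme.{u}} {F G : X.Modules} {ι : Type*} (s : Finset ι) (f : ι → (F ⟶ G))
    (i : ℕ) (z : Coh.HH X F i) : hmap (∑ v ∈ s, f v) i z = ∑ v ∈ s, hmap (f v) i z := by
  classical
  induction s using Finset.induction_on with
  | empty => rw [Finset.sum_empty, Finset.sum_empty, hmap_zero]
  | insert a s ha ih => rw [Finset.sum_insert ha, Finset.sum_insert ha, hmap_add, ih]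

open Groth.Agent.Lib.Cohomology.HHLES in
omit [DirectSum.Decomposition 𝒩] [IsScalarTower R A N] in
/-- cohomology of `(N(-1)^q)~(t)` vanishes if that of `N~(t-1)` does -/
theorem subsingleton_HH_pgr (t : ℤ) (i : ℕ)
    (h : Subsingleton (Coh.HH (Proj 𝒜) (GrTilde.tilde 𝒜 𝒩 (t - 1)) i)) :
    Subsingleton (Coh.HH (Proj 𝒜) (GrTilde.tilde 𝒜 (pgr 𝒩 q) t) i) := by
  refine subsingleton_of_forall_eq 0 fun z => ?_
  have hid : (𝟙 (GrTilde.tilde 𝒜 (pgr 𝒩 q) t)) =
      ∑ v : Fin q, (tildeMapD (𝒜 := 𝒜) (LinearMap.proj v : (Fin q → N) →ₗ[A] N) t (t - 1)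
          (proj_isGrD 𝒩 q v t) ≫
        tildeMapD (𝒜 := 𝒜) (LinearMap.single A (fun _ : Fin q => N) v) (t - 1) t
          (single_isGrD 𝒩 q v t)) := by
    rw [Finset.sum_congr rfl fun v _ => proj_comp_single 𝒩 q v t, ← tildeMap_sum, ← tildeMap_id]
    refine tildeMap_congr ?_ _ _ t
    refine LinearMap.ext fun f => funext fun v' => ?_
    show f v' = (∑ j, ((LinearMap.single A (fun _ : Fin q => N) j).comp
      (LinearMap.proj j : (Fin q → N) →ₗ[A] N))) f v'
    rw [LinearMap.sum_apply, Finset.sum_apply]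
    have := congrFun (Finset.univ_sum_single f) v'
    rw [Finset.sum_apply] at this
    exact this.symm
  have hz : hmap (𝟙 _) i z = z := hmap_id _ i z
  rw [← hz, hid, hmap_sum]
  refine Finset.sum_eq_zero fun v _ => ?_
  rw [hmap_comp, Subsingleton.elim (hmap _ i z) 0, map_zero]

end transfer

end Groth.Agent.Lib.Helper77.TM
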