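import Mathlib
import Groth.Prelude.Def_GrMod2
import Groth.Prelude.Def_CohB1
import Groth.Agent.Lib.Helper77.MF2
import Groth.Agent.Lib.Proj.Helper66_QCohTilde
import Groth.Agent.S0022

/-!
MF3 (helper77): **Mumford's theorem** (`m`-regular ⇒ `(m+1)`-regular) for the sheaves `N~` on
`P^r` of graded modules `N` over the polynomial ring, via the Euler-type sequences
`0 → K~ → (N(-1)^{r+1})~ → N~ → 0` (no generic hyperplanes, any base ring).
-/

set_option autoImplicit false
set_option linter.unusedSectionVars false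
universe u
open CategoryTheory CategoryTheory.Limits AlgebraicGeometry Opposite TopologicalSpace DirectSum

namespace Groth.Agent.Lib.Helper77.TM

open Groth.Agent.Lib.QCoh Groth.Agent.Lib.Helper66 Groth.Agent.Lib.Cohomology.HHLES

variable (k : Type u) [CommRing k] (r : ℕ)

section PV

variable {N : Type u} [AddCommGroup N] [Module k N] [Module (MvPolynomial (Fin (r + 1)) k) N]
  [IsScalarTower k (MvPolynomial (Fin (r + 1)) k) N]
  (𝒩 : ℕ → Submodule k N) [SetLike.GradedSMul (CohB1.polyGrading r k) 𝒩]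

/-- vanishing of `H^i(P^r, N~(t))` -/
def PV (t : ℤ) (i : ℕ) : Prop :=
  Subsingleton (Coh.HH (CohB1.ProjSpace r k) (GrTilde.tilde (CohB1.polyGrading r k) 𝒩 t) i)

theorem PV_of_lt [DirectSum.Decomposition 𝒩] (t : ℤ) (i : ℕ) (hi : r < i) : PV k r 𝒩 t i := by
  have hq : (GrTilde.tilde (CohB1.polyGrading r k) 𝒩 t).IsQuasicoherent :=
    Groth.Agent.Lib.Proj.QCohTilde.tilde_isQuasicoherent (CohB1.polyGrading r k) 𝒩 t
  exact @Groth.Agent.S0022.result r k _ (GrTilde.tilde (CohB1.polyGrading r k) 𝒩 t) hq i hi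

end PV

theorem X_mem_one (v : Fin (r + 1)) :
    (MvPolynomial.X v : MvPolynomial (Fin (r + 1)) k) ∈ CohB1.polyGrading r k 1 :=
  MvPolynomial.isHomogeneous_X k v

theorem X_cover (p : ProjectiveSpectrum (CohB1.polyGrading r k)) :
    ∃ v : Fin (r + 1), (MvPolynomial.X v : MvPolynomial (Fin (r + 1)) k) ∉ p.asHomogeneousIdeal := by
  have h := Groth.Agent.S0022.iSup_basicOpen_X r k
  have hp : (show ↥(Proj (CohB1.polyGrading r k)) from p) ∈
      (⨆ v : Fin (r + 1), Proj.basicOpen (CohB1.polyGrading r k)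
        (MvPolynomial.X v : MvPolynomial (Fin (r + 1)) k)) := by
    rw [h]; trivial
  obtain ⟨v, hv⟩ := TopologicalSpace.Opens.mem_iSup.1 hp
  exact ⟨v, (ProjectiveSpectrum.mem_basicOpen (CohB1.polyGrading r k) _ p).1 hv⟩

/-- the inductive form of Mumford's theorem -/
theorem mumford_aux (d : ℕ) : ∀ (N : Type u) [AddCommGroup N] [Module k N]
    [Module (MvPolynomial (Fin (r + 1)) k) N] [IsScalarTower k (MvPolynomial (Fin (r + 1)) k) N]
    (𝒩 : ℕ → Submodule k N) [DirectSum.Decomposition 𝒩]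
    [SetLike.GradedSMul (CohB1.polyGrading r k) 𝒩] (c : ℕ) (_ : 1 ≤ c) (_ : r + 1 ≤ c + d) (m : ℤ),
    (∀ i, c ≤ i → PV k r 𝒩 (m - i) i) → ∀ i, c ≤ i → PV k r 𝒩 (m + 1 - i) i := by
  induction d with
  | zero =>
    intro N _ _ _ _ 𝒩 _ _ c _ hcd m _ i hi
    exact PV_of_lt k r 𝒩 _ i (by omega)
  | succ d ih =>
    intro N _ _ _ _ 𝒩 _ _ c hc hcd m hreg i hi
    let _ := kdec 𝒩 (r + 1) (fun v => (MvPolynomial.X v : MvPolynomial (Fin (r + 1)) k))
      (X_mem_one k r)
    have hses := pses 𝒩 (r + 1) (fun v => (MvPolynomial.X v : MvPolynomial (Fin (r + 1)) k))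
      (X_mem_one k r) (X_cover k r)
    -- the kernel is `(m+1)`-regular from level `c + 1`
    have hK : ∀ j, c + 1 ≤ j →
        PV k r (kgr 𝒩 (r + 1) (fun v => (MvPolynomial.X v : MvPolynomial (Fin (r + 1)) k)))
          (m + 1 - j) j := by
      intro j hj
      obtain ⟨j', rfl⟩ : ∃ j', j = j' + 1 := ⟨j - 1, by omega⟩
      have h1 : PV k r 𝒩 (m + 1 - ((j' + 1 : ℕ) : ℤ)) j' := by
        have := hreg j' (by omega)
        rwa [show m - (j' : ℤ) = m + 1 - ((j' + 1 : ℕ) : ℤ) by push_cast; ring] at this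
      have h2 : Subsingleton (Coh.HH (CohB1.ProjSpace r k)
          (GrTilde.tilde (CohB1.polyGrading r k) (pgr 𝒩 (r + 1)) (m + 1 - ((j' + 1 : ℕ) : ℤ)))
          (j' + 1)) := by
        apply subsingleton_HH_pgr
        have := hreg (j' + 1) (by omega)
        rwa [show m - ((j' + 1 : ℕ) : ℤ) = m + 1 - ((j' + 1 : ℕ) : ℤ) - 1 by ring] at this
      refine subsingleton_of_forall_eq 0 fun z => ?_
      obtain ⟨y, rfl⟩ := exact₁ (hses (m + 1 - ((j' + 1 : ℕ) : ℤ))) j' z (h2.elim _ _)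
      have hy : y = 0 := h1.elim y 0
      subst hy
      exact map_zero _
    -- induction hypothesis for the kernel
    have hK' := ih _ (kgr 𝒩 (r + 1) (fun v => (MvPolynomial.X v : MvPolynomial (Fin (r + 1)) k)))
      (c + 1) (by omega) (by omega) (m + 1) hK
    -- conclusion
    have h3 : Subsingleton (Coh.HH (CohB1.ProjSpace r k)
        (GrTilde.tilde (CohB1.polyGrading r k) (pgr 𝒩 (r + 1)) (m + 1 - (i : ℤ))) i) := by
      apply subsingleton_HH_pgr
      have := hreg i hi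
      rwa [show m - (i : ℤ) = m + 1 - (i : ℤ) - 1 by ring] at this
    have h4 : PV k r (kgr 𝒩 (r + 1) (fun v => (MvPolynomial.X v : MvPolynomial (Fin (r + 1)) k)))
        (m + 1 - (i : ℤ)) (i + 1) := by
      have := hK' (i + 1) (by omega)
      rwa [show m + 1 + 1 - ((i + 1 : ℕ) : ℤ) = m + 1 - (i : ℤ) by push_cast; ring] at this
    refine subsingleton_of_forall_eq 0 fun z => ?_
    obtain ⟨y, rfl⟩ := exact₃ (hses (m + 1 - (i : ℤ))) i z (h4.elim _ _)
    have hy : y = 0 := h3.elim y 0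
    subst hy
    exact map_zero _

/-- **Mumford's theorem** for `N~` -/
theorem mumford {N : Type u} [AddCommGroup N] [Module k N]
    [Module (MvPolynomial (Fin (r + 1)) k) N] [IsScalarTower k (MvPolynomial (Fin (r + 1)) k) N]
    (𝒩 : ℕ → Submodule k N) [DirectSum.Decomposition 𝒩]
    [SetLike.GradedSMul (CohB1.polyGrading r k) 𝒩] (m : ℤ)
    (h : ∀ i : ℕ, 1 ≤ i → PV k r 𝒩 (m - i) i) : ∀ i : ℕ, 1 ≤ i → PV k r 𝒩 (m + 1 - i) i :=
  mumford_aux k r r N 𝒩 1 le_rfl (by omega) m h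

end Groth.Agent.Lib.Helper77.TM
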