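import Groth.Agent.Lib.Proj.TwistMul
import Groth.Agent.Lib.Proj.TwistAmple
import Groth.Prelude.Def_GrMod2

/-!
# `M(m)~ ⊗ O(n) ≅ M(m+n)~` on `Proj` (helper66), after lead's `TwistMul`

ns `Groth.Agent.Lib.Proj.TildeMul`.
* `MSec 𝒜 ℳ m V`, `mvalS`, `msec_ext`, `mvalS_smul`
* `smul_mem_tildeAt`, `mulSectM V m n k h : MSec m V →ₗ Sec n V →ₗ MSec k V` (pointwise action)
* `mulFracSectM` (multiplication by a unit fraction on sections of `M(m)~`), bijective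
* `mulPreHomM`, `WX_mulPreHomM`, **`tildeMulIso m n k h hn : tensorMod (tilde 𝒜 ℳ m) (twist 𝒜 n) ≅ tilde 𝒜 ℳ k`**
  provided `HasUnitFrac 𝒜 n`.
-/

set_option autoImplicit false
set_option linter.unusedSectionVars false
universe u
open CategoryTheory CategoryTheory.Limits AlgebraicGeometry TopologicalSpace Opposite TopCat MonoidalCategory
open scoped TensorProduct

namespace Groth.Agent.Lib.Helper77.TMul

open Twist Scheme.Modules QCoh Groth.Agent.Lib.Proj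

variable {R A : Type u} [CommRing R] [CommRing A] [Algebra R A] {𝒜 : ℕ → Submodule R A} [GradedAlgebra 𝒜]
  {M : Type u} [AddCommGroup M] [Module R M] [Module A M] [IsScalarTower R A M]
  {ℳ : ℕ → Submodule R M} [SetLike.GradedSMul 𝒜 ℳ]

variable (𝒜 ℳ) in
/-- sections of `M(m)~` over `V` -/
abbrev MSec (m : ℤ) (V : (Opens (ProjectiveSpectrum.top 𝒜))ᵒᵖ) := GrTilde.sect 𝒜 ℳ m V

/-- value of a section at a point, in the localized module -/
abbrev mvalS {m : ℤ} {V : (Opens (ProjectiveSpectrum.top 𝒜))ᵒᵖ} (s : MSec 𝒜 ℳ m V) (x : V.unop) :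
    GrTilde.LocMod 𝒜 (M := M) x.1 :=
  ((s.1 x : GrTilde.tildeAt 𝒜 ℳ m x.1) : GrTilde.LocMod 𝒜 (M := M) x.1)

lemma msec_ext {m : ℤ} {V : (Opens (ProjectiveSpectrum.top 𝒜))ᵒᵖ} {s t : MSec 𝒜 ℳ m V}
    (h : ∀ x, mvalS s x = mvalS t x) : s = t := by
  apply Subtype.ext
  funext x
  exact Subtype.ext (h x)

lemma mvalS_smul {m : ℤ} {V : (Opens (ProjectiveSpectrum.top 𝒜))ᵒᵖ} (r : O V) (s : MSec 𝒜 ℳ m V)
    (x : V.unop) : mvalS (r • s) x = (r.1 x).val • mvalS s x := by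
  change ((r.1 x • s.1 x : GrTilde.tildeAt 𝒜 ℳ m x.1) : GrTilde.LocMod 𝒜 (M := M) x.1) = _
  exact GrTilde.coe_smul_val m x.1 _ _

/-- a fraction of degree `n` times a fraction of `M` of degree `m` is a fraction of degree `m + n` -/
lemma smul_mem_tildeAt (x : ProjectiveSpectrum 𝒜) {m n k : ℤ} (h : k = m + n) {q : Loc 𝒜 x}
    (hq : q ∈ twistAt 𝒜 n x) {p : GrTilde.LocMod 𝒜 (M := M) x} (hp : p ∈ GrTilde.tildeAt 𝒜 ℳ m x) :
    q • p ∈ GrTilde.tildeAt 𝒜 ℳ k x := by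
  -- first for generators `q = a / s`
  have gen : ∀ (i j : ℕ) (a : 𝒜 i) (s : 𝒜 j) (hs : s.1 ∉ x.asHomogeneousIdeal), (i : ℤ) = j + n →
      ∀ p ∈ GrTilde.tildeAt 𝒜 ℳ m x,
        (Localization.mk a.1 ⟨s.1, hs⟩ : Loc 𝒜 x) • p ∈ GrTilde.tildeAt 𝒜 ℳ k x := by
    intro i j a s hs hdeg p hp
    let L : GrTilde.LocMod 𝒜 (M := M) x →ₗ[A0 𝒜 x] GrTilde.LocMod 𝒜 (M := M) x :=
      { toFun := fun p => (Localization.mk a.1 ⟨s.1, hs⟩ : Loc 𝒜 x) • p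
        map_add' := fun p p' => smul_add _ _ _
        map_smul' := fun c p => by
          simp only [RingHom.id_apply, GrTilde.a0_smul_def]
          exact smul_comm _ _ _ }
    have key : GrTilde.tildeAt 𝒜 ℳ m x ≤ (GrTilde.tildeAt 𝒜 ℳ k x).comap L := by
      refine Submodule.span_le.mpr ?_
      rintro _ ⟨i', j', m', t, ht, hdeg', rfl⟩
      simp only [Submodule.comap_coe, Set.mem_preimage, SetLike.mem_coe]
      refine Submodule.subset_span ⟨i + i', j + j',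
        ⟨a.1 • m'.1, SetLike.GradedSMul.smul_mem a.2 m'.2⟩,
        ⟨s.1 * t.1, SetLike.mul_mem_graded s.2 t.2⟩,
        fun hh => (x.isPrime.mem_or_mem hh).elim hs ht, by push_cast; omega, ?_⟩
      exact LocalizedModule.mk_smul_mk _ _ _ _
    exact key hp
  let L' : Loc 𝒜 x →ₗ[A0 𝒜 x] GrTilde.LocMod 𝒜 (M := M) x :=
    { toFun := fun q => q • p
      map_add' := fun q q' => add_smul _ _ _
      map_smul' := fun c q => by
        simp only [RingHom.id_apply, GrTilde.a0_smul_def, Algebra.smul_def,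
          HomogeneousLocalization.algebraMap_apply]
        exact mul_smul _ _ _ }
  have key' : twistAt 𝒜 n x ≤ (GrTilde.tildeAt 𝒜 ℳ k x).comap L' := by
    refine Submodule.span_le.mpr ?_
    rintro _ ⟨i, j, a, s, hs, hdeg, rfl⟩
    exact gen i j a s hs hdeg p hp
  exact key' hq


/-- pointwise action of a section of `O(n)` on a section of `M(m)~` -/
noncomputable def mulSectMFun (V : (Opens (ProjectiveSpectrum.top 𝒜))ᵒᵖ) {m n k : ℤ} (h : k = m + n)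
    (s : MSec 𝒜 ℳ m V) (t : Sec 𝒜 n V) : ∀ x : V.unop, GrTilde.tildeAt 𝒜 ℳ k x.1 :=
  fun x => ⟨val t x • mvalS s x, smul_mem_tildeAt x.1 h (t.1 x).2 (s.1 x).2⟩

lemma mulSectMFun_pred (V : (Opens (ProjectiveSpectrum.top 𝒜))ᵒᵖ) {m n k : ℤ} (h : k = m + n)
    (s : MSec 𝒜 ℳ m V) (t : Sec 𝒜 n V) : (GrTilde.isLocFrac 𝒜 ℳ k).pred (mulSectMFun V h s t) := by
  intro x
  obtain ⟨W, hxW, iW, i, j, a, b, hb, hdeg, hw⟩ := s.2 x
  obtain ⟨W', hxW', iW', i', j', a', b', hb', hdeg', hw'⟩ := t.2 x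
  refine ⟨W ⊓ W', ⟨hxW, hxW'⟩, Opens.infLELeft _ _ ≫ iW, i' + i, j' + j,
    ⟨a'.1 • a.1, SetLike.GradedSMul.smul_mem a'.2 a.2⟩, ⟨b'.1 * b.1, SetLike.mul_mem_graded b'.2 b.2⟩,
    fun y h => (y.1.isPrime.mem_or_mem h).elim (hb' ⟨y.1, y.2.2⟩) (hb ⟨y.1, y.2.1⟩), ?_, fun y => ?_⟩
  · rcases hdeg with hdeg | hdeg
    · rcases hdeg' with hdeg' | hdeg'
      · exact Or.inl (by push_cast; omega)
      · exact Or.inr (by simp [hdeg'])
    · exact Or.inr (by simp [hdeg])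
  · have e1 := hw ⟨y.1, y.2.1⟩
    have e2 := hw' ⟨y.1, y.2.2⟩
    exact (congrArg₂ (· • ·) e2 e1).trans (LocalizedModule.mk_smul_mk _ _ _ _)

/-- the action `M(m)~(V) × O(n)(V) → M(m+n)~(V)`, bilinear over `O(V)` -/
noncomputable def mulSectM (V : (Opens (ProjectiveSpectrum.top 𝒜))ᵒᵖ) (m n k : ℤ) (h : k = m + n) :
    MSec 𝒜 ℳ m V →ₗ[O V] Sec 𝒜 n V →ₗ[O V] MSec 𝒜 ℳ k V :=
  LinearMap.mk₂ (O V) (fun s t => ⟨mulSectMFun V h s t, mulSectMFun_pred V h s t⟩)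
    (fun s s' t => by apply msec_ext; intro x; exact smul_add _ _ _)
    (fun r s t => by
      apply msec_ext; intro x
      refine Eq.trans ?_ (mvalS_smul r _ x).symm
      refine (congrArg (fun q => val t x • q) (mvalS_smul r s x)).trans ?_
      exact smul_comm _ _ _)
    (fun s t t' => by apply msec_ext; intro x; exact add_smul _ _ _)
    (fun r s t => by
      apply msec_ext; intro x
      refine Eq.trans ?_ (mvalS_smul r _ x).symm
      refine (congrArg (fun q => q • mvalS s x) (val_smul r t x)).trans ?_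
      exact mul_smul _ _ _)

lemma mvalS_mulSectM (V : (Opens (ProjectiveSpectrum.top 𝒜))ᵒᵖ) (m n k : ℤ) (h : k = m + n)
    (s : MSec 𝒜 ℳ m V) (t : Sec 𝒜 n V) (x : V.unop) :
    mvalS (mulSectM V m n k h s t) x = val t x • mvalS s x := rfl


/-- the section `a / b` of `O(n)` over `V` -/
noncomputable def fracSec (V : (Opens (ProjectiveSpectrum.top 𝒜))ᵒᵖ) {i j : ℕ} (a : 𝒜 i) (b : 𝒜 j)
    (hb : ∀ x : V.unop, b.1 ∉ x.1.asHomogeneousIdeal) (n : ℤ) (h : n + j = i) : Sec 𝒜 n V :=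
  genLin V a b hb n h 1

lemma val_genLin (V : (Opens (ProjectiveSpectrum.top 𝒜))ᵒᵖ) {i j : ℕ} (a : 𝒜 i) (b : 𝒜 j)
    (hb : ∀ x : V.unop, b.1 ∉ x.1.asHomogeneousIdeal) (n : ℤ) (h : n + j = i) (r : O V) (x : V.unop) :
    val (genLin V a b hb n h r) x = frac x.1 a.1 b.1 (hb x) * (r.1 x).val := rfl

lemma val_fracSec (V : (Opens (ProjectiveSpectrum.top 𝒜))ᵒᵖ) {i j : ℕ} (a : 𝒜 i) (b : 𝒜 j)
    (hb : ∀ x : V.unop, b.1 ∉ x.1.asHomogeneousIdeal) (n : ℤ) (h : n + j = i) (x : V.unop) :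
    val (fracSec V a b hb n h) x = frac x.1 a.1 b.1 (hb x) := by
  refine (val_genLin V a b hb n h 1 x).trans ?_
  have : ((1 : O V).1 x) = 1 := rfl
  rw [this, HomogeneousLocalization.val_one, mul_one]

/-- multiplication by the fraction `a / b` on sections of `M(m)~` -/
noncomputable def mulFracSectM (V : (Opens (ProjectiveSpectrum.top 𝒜))ᵒᵖ) {i j : ℕ} (a : 𝒜 i) (b : 𝒜 j)
    (hb : ∀ x : V.unop, b.1 ∉ x.1.asHomogeneousIdeal) (m n k : ℤ) (h : k = m + n) (hn : n + j = i) :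
    MSec 𝒜 ℳ m V →ₗ[O V] MSec 𝒜 ℳ k V :=
  (mulSectM (ℳ := ℳ) V m n k h).flip (fracSec V a b hb n hn)

lemma mvalS_mulFracSectM (V : (Opens (ProjectiveSpectrum.top 𝒜))ᵒᵖ) {i j : ℕ} (a : 𝒜 i) (b : 𝒜 j)
    (hb : ∀ x : V.unop, b.1 ∉ x.1.asHomogeneousIdeal) (m n k : ℤ) (h : k = m + n) (hn : n + j = i)
    (s : MSec 𝒜 ℳ m V) (x : V.unop) :
    mvalS (mulFracSectM V a b hb m n k h hn s) x = frac x.1 a.1 b.1 (hb x) • mvalS s x := by
  refine (mvalS_mulSectM V m n k h s _ x).trans ?_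
  rw [val_fracSec]

lemma mulFracSectM_comp_cancel (V : (Opens (ProjectiveSpectrum.top 𝒜))ᵒᵖ) {i j : ℕ} (a : 𝒜 i) (b : 𝒜 j)
    (ha : ∀ x : V.unop, a.1 ∉ x.1.asHomogeneousIdeal)
    (hb : ∀ x : V.unop, b.1 ∉ x.1.asHomogeneousIdeal) (m n k : ℤ) (h : k = m + n) (hn : n + j = i)
    (s : MSec 𝒜 ℳ m V) :
    mulFracSectM V b a ha k (-n) m (by omega) (by omega) (mulFracSectM V a b hb m n k h hn s) = s := by
  apply msec_ext
  intro x
  rw [mvalS_mulFracSectM, mvalS_mulFracSectM, ← mul_smul]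
  exact (congrArg (fun q => q • mvalS s x) (frac_mul_frac_cancel x.1 b.1 a.1 (hb x) (ha x))).trans
    (one_smul _ _)

lemma mulFracSectM_bijective (V : (Opens (ProjectiveSpectrum.top 𝒜))ᵒᵖ) {i j : ℕ} (a : 𝒜 i) (b : 𝒜 j)
    (ha : ∀ x : V.unop, a.1 ∉ x.1.asHomogeneousIdeal)
    (hb : ∀ x : V.unop, b.1 ∉ x.1.asHomogeneousIdeal) (m n k : ℤ) (h : k = m + n) (hn : n + j = i) :
    Function.Bijective (mulFracSectM (ℳ := ℳ) V a b hb m n k h hn) :=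
  Function.bijective_iff_has_inverse.mpr ⟨mulFracSectM V b a ha k (-n) m (by omega) (by omega),
    fun s => mulFracSectM_comp_cancel V a b ha hb m n k h hn s,
    fun s => by
      have := mulFracSectM_comp_cancel (ℳ := ℳ) V b a hb ha k (-n) m (by omega) (by omega) s
      simpa only [neg_neg] using this⟩

/-- the action map out of the tensor product, typed over `O V` -/
noncomputable def mulLinM' (V : (Opens (ProjectiveSpectrum.top 𝒜))ᵒᵖ) (m n k : ℤ) (h : k = m + n) :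
    (MSec 𝒜 ℳ m V) ⊗[O V] (Sec 𝒜 n V) →ₗ[O V] MSec 𝒜 ℳ k V :=
  TensorProduct.lift (mulSectM V m n k h)

lemma mulLinM'_bijective (V : (Opens (ProjectiveSpectrum.top 𝒜))ᵒᵖ) (m n k : ℤ) (h : k = m + n)
    {i j : ℕ} (a : 𝒜 i) (b : 𝒜 j)
    (ha : ∀ x : V.unop, a.1 ∉ x.1.asHomogeneousIdeal)
    (hb : ∀ x : V.unop, b.1 ∉ x.1.asHomogeneousIdeal) (hn : n + j = i) :
    Function.Bijective (mulLinM' (𝒜 := 𝒜) (ℳ := ℳ) V m n k h) := by
  let E1 : O V ≃ₗ[O V] Sec 𝒜 n V := LinearEquiv.ofBijective (genLin V a b hb n hn)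
    (genLin_bijective V a b ha hb n hn)
  let T : (MSec 𝒜 ℳ m V) ⊗[O V] (O V) ≃ₗ[O V] (MSec 𝒜 ℳ m V) ⊗[O V] (Sec 𝒜 n V) :=
    TensorProduct.congr (LinearEquiv.refl _ _) E1
  let e2 : MSec 𝒜 ℳ m V →ₗ[O V] MSec 𝒜 ℳ k V := mulFracSectM V a b hb m n k h hn
  have he2 : Function.Bijective e2 := mulFracSectM_bijective V a b ha hb m n k h hn
  have key : (mulLinM' (𝒜 := 𝒜) (ℳ := ℳ) V m n k h) ∘ₗ T.toLinearMap =
      e2 ∘ₗ (TensorProduct.rid (O V) (MSec 𝒜 ℳ m V)).toLinearMap := by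
    apply TensorProduct.ext'
    intro s r
    apply msec_ext
    intro x
    change mvalS (mulSectM V m n k h s (genLin V a b hb n hn r)) x = mvalS (e2 (r • s)) x
    rw [mvalS_mulSectM, val_genLin, mvalS_mulFracSectM, mvalS_smul, mul_smul]
  have h2 : (mulLinM' (𝒜 := 𝒜) (ℳ := ℳ) V m n k h : _ → _) =
      (e2 ∘ (TensorProduct.rid (O V) (MSec 𝒜 ℳ m V))) ∘ T.symm := by
    funext z
    have := LinearMap.congr_fun key (T.symm z)
    simp only [LinearMap.coe_comp, LinearEquiv.coe_coe, Function.comp_apply,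
      LinearEquiv.apply_symm_apply] at this
    exact this
  rw [h2]
  exact (he2.comp (TensorProduct.rid (O V) (MSec 𝒜 ℳ m V)).bijective).comp T.symm.bijective


variable (𝒜 ℳ) in
/-- `M(m)~` as a presheaf of modules in the form used by the tensor library -/
noncomputable abbrev tlP (m : ℤ) : PM (Proj 𝒜) := (incl (Proj 𝒜)).obj (GrTilde.tilde 𝒜 ℳ m)

example (m : ℤ) (V : (Opens (Proj 𝒜))ᵒᵖ) : ((tlP 𝒜 ℳ m).obj V : Type u) = MSec 𝒜 ℳ m V := rfl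

/-- the action map on sections as a linear map out of the tensor product -/
noncomputable def mulLinM (V : (Opens (Proj 𝒜))ᵒᵖ) (m n k : ℤ) (h : k = m + n) :
    ((tlP 𝒜 ℳ m).obj V : Type u) ⊗[((Proj 𝒜).presheaf.obj V : Type u)] ((twP 𝒜 n).obj V : Type u)
      →ₗ[((Proj 𝒜).presheaf.obj V : Type u)] ((tlP 𝒜 ℳ k).obj V : Type u) :=
  TensorProduct.lift (mulSectM V m n k h)

variable (𝒜 ℳ) in
/-- the action map of abelian presheaves -/
noncomputable def mulAbM (m n k : ℤ) (h : k = m + n) :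
    (tlP 𝒜 ℳ m ⊗ twP 𝒜 n).presheaf ⟶ (tlP 𝒜 ℳ k).presheaf where
  app V := AddCommGrpCat.ofHom (mulLinM V m n k h).toAddMonoidHom
  naturality {V W} i := by
    ext x
    induction x using TensorProduct.induction_on with
    | zero => exact (map_zero _).trans (map_zero _).symm
    | tmul s t => rfl
    | add x y hx hy =>
      exact (map_add _ x y).trans ((congrArg₂ (· + ·) hx hy).trans (map_add _ x y).symm)

variable (𝒜 ℳ) in
/-- the action map `M(m)~ ⊗ O(n) → M(m+n)~` of presheaves of modules -/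
noncomputable def mulPreHomM (m n k : ℤ) (h : k = m + n) : tlP 𝒜 ℳ m ⊗ twP 𝒜 n ⟶ tlP 𝒜 ℳ k :=
  PresheafOfModules.homMk (mulAbM 𝒜 ℳ m n k h) (fun V r x => (mulLinM V m n k h).map_smul r x)

lemma mulLinM_bijective (V : (Opens (Proj 𝒜))ᵒᵖ) (m n k : ℤ) (h : k = m + n) {i j : ℕ} (a : 𝒜 i) (b : 𝒜 j)
    (ha : ∀ x : V.unop, a.1 ∉ x.1.asHomogeneousIdeal)
    (hb : ∀ x : V.unop, b.1 ∉ x.1.asHomogeneousIdeal) (hn : n + j = i) :
    Function.Bijective (mulLinM (𝒜 := 𝒜) (ℳ := ℳ) V m n k h) :=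
  mulLinM'_bijective V m n k h a b ha hb hn

lemma WX_mulPreHomM (m n k : ℤ) (h : k = m + n) (hn : HasUnitFrac 𝒜 n) :
    WX (Proj 𝒜) (mulPreHomM 𝒜 ℳ m n k h) := by
  refine WX_of_bijective_of_isBasis _
    {V | ∃ (i j : ℕ) (a : 𝒜 i) (b : 𝒜 j), V ≤ Proj.basicOpen 𝒜 a.1 ∧ V ≤ Proj.basicOpen 𝒜 b.1 ∧
      n + j = i} ?_ ?_
  · rw [Opens.isBasis_iff_nbhd]
    intro W x hx
    obtain ⟨i, j, a, b, hxa, hxb, hij⟩ := hn x
    exact ⟨W ⊓ Proj.basicOpen 𝒜 a.1 ⊓ Proj.basicOpen 𝒜 b.1,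
      ⟨i, j, a, b, inf_le_left.trans inf_le_right, inf_le_right, hij⟩, ⟨⟨hx, hxa⟩, hxb⟩,
      inf_le_left.trans inf_le_left⟩
  · rintro V ⟨i, j, a, b, hVa, hVb, hij⟩
    exact mulLinM_bijective (op V) m n k h a b (fun x => hVa x.2) (fun x => hVb x.2) hij

variable (ℳ) in
/-- **`M(m)~ ⊗ O(n) ≅ M(m + n)~`** provided `O(n)` is locally generated by unit fractions -/
noncomputable def tildeMulIso (m n k : ℤ) (h : k = m + n) (hn : HasUnitFrac 𝒜 n) :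
    CohB1.tensorMod (GrTilde.tilde 𝒜 ℳ m) (twist 𝒜 n) ≅ GrTilde.tilde 𝒜 ℳ k :=
  have : IsIso ((shf (Proj 𝒜)).map (mulPreHomM 𝒜 ℳ m n k h)) :=
    (WX_iff_isIso _ _).1 (WX_mulPreHomM m n k h hn)
  (show (shf (Proj 𝒜)).obj (tlP 𝒜 ℳ m ⊗ twP 𝒜 n) ≅ (shf (Proj 𝒜)).obj (tlP 𝒜 ℳ k) from
    asIso ((shf (Proj 𝒜)).map (mulPreHomM 𝒜 ℳ m n k h))) ≪≫ shfCounitIso (Proj 𝒜) (GrTilde.tilde 𝒜 ℳ k)

/-- **`M(n)~ ≅ M~ ⊗ O(n)`** when `A₊` is generated by `𝒜 1` -/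
theorem nonempty_tilde_iso_twistBy
    (hgen : (HomogeneousIdeal.irrelevant 𝒜).toIdeal = Ideal.span (𝒜 1 : Set A)) (n : ℤ) :
    Nonempty (GrTilde.tilde 𝒜 ℳ n ≅ Twist.twistBy 𝒜 (GrTilde.tilde 𝒜 ℳ 0) n) :=
  ⟨(tildeMulIso ℳ 0 n n (by simp) (hasUnitFrac_of_cover
    (iSup_basicOpen_deg_one_eq_top (𝒜 1 : Set A) (fun f hf => hf) hgen.le) n)).symm⟩

end Groth.Agent.Lib.Helper77.TMul
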