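import Mathlib
import Groth.Prelude.Def_GrMod2
import Groth.Prelude.Def_CohB1
import Groth.Prelude.Def_Curv2
import Groth.Agent.Lib.Helper77.MF3
import Groth.Agent.Lib.Helper77.TMul
import Groth.Agent.Lib.Helper77.TwEx
import Groth.Agent.S3551

/-!
MF4 (helper77): Mumford's theorem for coherent modules on `P^r_k`:
`exists_graded_model` (a coherent `F` is `N~`, and `F(t) ≅ N~(t)`), `isMRegular_succ`,
`subsingleton_HH_twist_of_regular`.
-/

set_option autoImplicit false
set_option linter.unusedSectionVars false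
universe u
open CategoryTheory CategoryTheory.Limits AlgebraicGeometry Opposite TopologicalSpace DirectSum

namespace Groth.Agent.Lib.Helper77.TM

open Groth.Agent.Lib.QCoh Groth.Agent.Lib.Helper66 Groth.Agent.Lib.Cohomology.HHLES

variable (k : Type u) [CommRing k] (r : ℕ)

open Classical in
/-- the variables, as a finset -/
noncomputable def xvars : Finset (MvPolynomial (Fin (r + 1)) k) :=
  Finset.univ.image (fun i : Fin (r + 1) => (MvPolynomial.X i : MvPolynomial (Fin (r + 1)) k))

open Classical in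
lemma mem_xvars {f : MvPolynomial (Fin (r + 1)) k} : f ∈ xvars k r ↔ ∃ i, MvPolynomial.X i = f := by
  simp [xvars]

lemma xvars_mem : ∀ f ∈ xvars k r, f ∈ CohB1.polyGrading r k 1 := by
  intro f hf
  obtain ⟨i, rfl⟩ := (mem_xvars k r).1 hf
  exact X_mem_one k r i

/-- the irrelevant ideal of `k[T_0, …, T_r]` is generated by the variables -/
lemma irrelevant_eq_span_xvars :
    (HomogeneousIdeal.irrelevant (CohB1.polyGrading r k)).toIdeal =
      Ideal.span (xvars k r : Set (MvPolynomial (Fin (r + 1)) k)) := by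
  have hv : (xvars k r : Set (MvPolynomial (Fin (r + 1)) k)) =
      MvPolynomial.X '' (Set.univ : Set (Fin (r + 1))) := by
    ext f
    rw [Finset.mem_coe, mem_xvars]
    simp
  apply le_antisymm
  · intro p hp
    rw [hv, MvPolynomial.mem_ideal_span_X_image]
    intro m hm
    by_contra hcon
    push Not at hcon
    have hm0 : m = 0 := by
      ext i
      simpa using hcon i (Set.mem_univ i)
    subst hm0
    have h0 : (DirectSum.decompose (CohB1.polyGrading r k) p 0 :
        MvPolynomial (Fin (r + 1)) k) = 0 := hp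
    have h1 : (DirectSum.decompose (CohB1.polyGrading r k) p 0 :
        MvPolynomial (Fin (r + 1)) k) = MvPolynomial.homogeneousComponent 0 p :=
      MvPolynomial.decomposition.decompose'_apply p 0
    rw [h1] at h0
    have h2 := congrArg (MvPolynomial.coeff 0) h0
    rw [MvPolynomial.coeff_homogeneousComponent] at h2
    simp at h2
    exact (MvPolynomial.mem_support_iff.1 hm) h2
  · rw [Ideal.span_le]
    intro f hf
    exact HomogeneousIdeal.mem_irrelevant_of_mem _ one_pos (xvars_mem k r f hf)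

theorem subsingleton_HH_iff_of_iso {X : Scheme.{u}} {F G : X.Modules} (e : F ≅ G) (i : ℕ) :
    Subsingleton (Coh.HH X F i) ↔ Subsingleton (Coh.HH X G i) := by
  constructor
  · intro h
    refine subsingleton_of_forall_eq 0 fun x => ?_
    have h1 : hmap e.hom i (hmap e.inv i x) = x := by
      rw [← hmap_comp, e.inv_hom_id, hmap_id]
    rw [← h1, Subsingleton.elim (hmap e.inv i x) 0, map_zero]
  · intro h
    refine subsingleton_of_forall_eq 0 fun x => ?_
    have h1 : hmap e.inv i (hmap e.hom i x) = x := by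
      rw [← hmap_comp, e.hom_inv_id, hmap_id]
    rw [← h1, Subsingleton.elim (hmap e.hom i x) 0, map_zero]

/-- a coherent module on `P^r` is `N~`, compatibly with twists -/
theorem exists_graded_model (F : (CohB1.ProjSpace r k).Modules) (hF : Coh.IsCoh F) :
    ∃ (N : Type u) (_ : AddCommGroup N) (_ : Module k N)
      (_ : Module (MvPolynomial (Fin (r + 1)) k) N)
      (_ : IsScalarTower k (MvPolynomial (Fin (r + 1)) k) N)
      (𝒩 : ℕ → Submodule k N) (_ : DirectSum.Decomposition 𝒩)
      (_ : SetLike.GradedSMul (CohB1.polyGrading r k) 𝒩),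
      ∀ (t : ℤ) (i : ℕ), Subsingleton (Coh.HH (CohB1.ProjSpace r k)
        (CohB1.tensorMod F (Twist.twistProjSpace r k t)) i) ↔ PV k r 𝒩 t i := by
  obtain ⟨N, i1, i2, i3, i4, 𝒩, i5, i6, -, ⟨e⟩⟩ :=
    Groth.Agent.S3551.result (CohB1.polyGrading r k) (xvars k r) (xvars_mem k r)
      (irrelevant_eq_span_xvars k r) F hF.1 hF.2
  refine ⟨N, i1, i2, i3, i4, 𝒩, i5, i6, fun t i => ?_⟩
  have e' : CohB1.tensorMod F (Twist.twistProjSpace r k t) ≅
      GrTilde.tilde (CohB1.polyGrading r k) 𝒩 t :=
    tensorModCongr e.symm (Iso.refl _) ≪≫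
      Groth.Agent.Lib.Helper77.TMul.tildeMulIso (𝒜 := CohB1.polyGrading r k) 𝒩 0 t t (by ring)
        (Groth.Agent.Lib.Proj.hasUnitFrac_of_cover
          (Groth.Agent.Lib.Helper77.TwEx.hcov_polyGrading r k) t)
  exact subsingleton_HH_iff_of_iso e' i

/-- **Castelnuovo–Mumford**: the vanishing `H^i(F(m - i)) = 0`, `i ≥ 1`, propagates to `m + 1` -/
theorem regular_succ (F : (CohB1.ProjSpace r k).Modules) (hF : Coh.IsCoh F) (m : ℤ)
    (h : ∀ i : ℕ, 1 ≤ i → i ≤ r → Subsingleton (Coh.HH (CohB1.ProjSpace r k)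
      (CohB1.tensorMod F (Twist.twistProjSpace r k (m - i))) i)) :
    ∀ i : ℕ, 1 ≤ i → Subsingleton (Coh.HH (CohB1.ProjSpace r k)
      (CohB1.tensorMod F (Twist.twistProjSpace r k (m + 1 - i))) i) := by
  obtain ⟨N, i1, i2, i3, i4, 𝒩, i5, i6, hN⟩ := exists_graded_model k r F hF
  intro i hi
  rw [hN]
  refine mumford k r 𝒩 m (fun j hj => ?_) i hi
  by_cases hjr : j ≤ r
  · rw [← hN]; exact h j hj hjr
  · exact PV_of_lt k r 𝒩 _ j (by omega)

/-- all the vanishing implied by `m`-regularity -/
theorem regular_all (F : (CohB1.ProjSpace r k).Modules) (hF : Coh.IsCoh F) (m : ℤ)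
    (h : ∀ i : ℕ, 1 ≤ i → i ≤ r → Subsingleton (Coh.HH (CohB1.ProjSpace r k)
      (CohB1.tensorMod F (Twist.twistProjSpace r k (m - i))) i)) (e : ℕ) :
    ∀ i : ℕ, 1 ≤ i → Subsingleton (Coh.HH (CohB1.ProjSpace r k)
      (CohB1.tensorMod F (Twist.twistProjSpace r k (m + e - i))) i) := by
  induction e with
  | zero =>
    obtain ⟨N, i1, i2, i3, i4, 𝒩, i5, i6, hN⟩ := exists_graded_model k r F hF
    intro i hi
    by_cases hir : i ≤ r
    · have := h i hi hir
      rwa [show m - (i : ℤ) = m + ((0 : ℕ) : ℤ) - i by push_cast; ring] at this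
    · rw [hN]; exact PV_of_lt k r 𝒩 _ i (by omega)
  | succ e ih =>
    intro i hi
    have := regular_succ k r F hF (m + e) (fun j hj _ => ih j hj) i hi
    rwa [show m + (e : ℤ) + 1 - (i : ℤ) = m + ((e + 1 : ℕ) : ℤ) - i by push_cast; ring] at this

end Groth.Agent.Lib.Helper77.TM
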