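import Mathlib

/-!
VerDeg (helper77): the identity `Σ_I (-1)^{|I|} C(n - d|I|, n) = d^n` (degree of the Veronese
variety), via iterated forward differences.
-/

set_option autoImplicit false
open Finset Polynomial

namespace Groth.Agent.Lib.Helper77.VerDeg

/-- the polynomial `∏_{i<n} (-d x + i + 1)` -/
noncomputable def Q (n : ℕ) (d : ℚ) : Polynomial ℚ :=
  ∏ i ∈ range n, (C (-d) * X + C ((i : ℚ) + 1))

theorem Q_eval (n : ℕ) (d x : ℚ) : (Q n d).eval x = ∏ i ∈ range n, (-d * x + ((i : ℚ) + 1)) := by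
  unfold Q
  rw [eval_prod]
  refine prod_congr rfl fun i _ => ?_
  simp

theorem Q_natDegree (n : ℕ) (d : ℚ) (hd : d ≠ 0) : (Q n d).natDegree = n := by
  unfold Q
  rw [natDegree_prod]
  · have : ∀ i ∈ range n, (C (-d) * X + C ((i : ℚ) + 1)).natDegree = 1 := fun i _ =>
      natDegree_linear (neg_ne_zero.2 hd)
    rw [sum_congr rfl this]
    simp
  · intro i _ h
    have := congrArg natDegree h
    rw [natDegree_linear (neg_ne_zero.2 hd)] at this
    simp at this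

theorem Q_leadingCoeff (n : ℕ) (d : ℚ) (hd : d ≠ 0) : (Q n d).leadingCoeff = (-d) ^ n := by
  unfold Q
  rw [leadingCoeff_prod]
  have : ∀ i ∈ range n, (C (-d) * X + C ((i : ℚ) + 1)).leadingCoeff = -d := fun i _ =>
    leadingCoeff_linear (neg_ne_zero.2 hd)
  rw [prod_congr rfl this]
  simp

open Nat in
theorem sum_Q (n : ℕ) (d : ℚ) (hd : d ≠ 0) :
    ∑ k ∈ range (n + 1), ((-1 : ℤ) ^ (n - k) * (n.choose k : ℤ)) • (Q n d).eval (k : ℚ) =
      (-d) ^ n * (n ! : ℚ) := by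
  have h1 := Polynomial.fwdDiff_iter_degree_eq_factorial (Q n d)
  rw [Q_natDegree n d hd, Q_leadingCoeff n d hd] at h1
  have h2 := fwdDiff_iter_eq_sum_shift (1 : ℚ) (Q n d).eval n 0
  rw [h1] at h2
  have h3 : ∀ k : ℕ, (0 : ℚ) + k • (1 : ℚ) = (k : ℚ) := fun k => by simp
  simp only [h3] at h2
  rw [← h2]
  simp

open Nat in
theorem prod_eq_choose (n : ℕ) (r : ℤ) :
    (∏ j ∈ range n, ((r : ℚ) - (j : ℚ))) = (n ! : ℚ) * ((Ring.choose r n : ℤ) : ℚ) := by
  have h1 := Ring.descPochhammer_eq_factorial_smul_choose r n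
  rw [← Polynomial.eval_eq_smeval, descPochhammer_eval_eq_prod_range] at h1
  have h2 := congrArg (fun z : ℤ => (z : ℚ)) h1
  simp only [Int.cast_prod, Int.cast_sub, Int.cast_natCast, nsmul_eq_mul, Int.cast_mul] at h2
  exact h2

open Nat in
theorem Q_eval_nat (n d k : ℕ) :
    (Q n (d : ℚ)).eval (k : ℚ) =
      (n ! : ℚ) * ((Ring.choose (-(d : ℤ) * (k : ℤ) + (n : ℤ)) n : ℤ) : ℚ) := by
  rw [Q_eval, ← prod_eq_choose, ← Finset.prod_range_reflect]
  refine prod_congr rfl fun i hi => ?_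
  have hi' : i < n := mem_range.1 hi
  have : ((n - 1 - i : ℕ) : ℚ) = (n : ℚ) - 1 - i := by
    rw [Nat.cast_sub (by omega), Nat.cast_sub (by omega)]; simp
  rw [this]
  push_cast
  ring

open Nat in
/-- the alternating sum over `k` -/
theorem sum_choose (n d : ℕ) (hd : 0 < d) :
    ∑ k ∈ range (n + 1), ((-1 : ℤ) ^ k * (n.choose k : ℤ)) *
      Ring.choose (-(d : ℤ) * (k : ℤ) + (n : ℤ)) n = (d : ℤ) ^ n := by
  have h := sum_Q n (d : ℚ) (by exact_mod_cast hd.ne')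
  have hterm : ∀ k ∈ range (n + 1),
      ((-1 : ℤ) ^ (n - k) * (n.choose k : ℤ)) • (Q n (d : ℚ)).eval (k : ℚ) =
        ((-1 : ℚ) ^ n * (n ! : ℚ)) * (((-1 : ℤ) ^ k * (n.choose k : ℤ) *
          Ring.choose (-(d : ℤ) * (k : ℤ) + (n : ℤ)) n : ℤ) : ℚ) := by
    intro k hk
    have hk' : k ≤ n := Nat.lt_succ_iff.1 (mem_range.1 hk)
    rw [Q_eval_nat, zsmul_eq_mul]
    have hs : ((-1 : ℤ) ^ (n - k) : ℤ) = (-1) ^ n * (-1) ^ k := by
      rw [← pow_add]
      have e : n + k = (n - k) + 2 * k := by omega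
      rw [e, pow_add, pow_mul]
      simp
    rw [hs]
    push_cast
    ring
  rw [sum_congr rfl hterm, ← Finset.mul_sum] at h
  have hne : ((-1 : ℚ) ^ n * (n ! : ℚ)) ≠ 0 :=
    mul_ne_zero (pow_ne_zero _ (by norm_num)) (by exact_mod_cast Nat.factorial_ne_zero n)
  have h2 : ((∑ k ∈ range (n + 1), ((-1 : ℤ) ^ k * (n.choose k : ℤ)) *
      Ring.choose (-(d : ℤ) * (k : ℤ) + (n : ℤ)) n : ℤ) : ℚ) = (((d : ℤ) ^ n : ℤ) : ℚ) := by
    apply mul_left_cancel₀ hne
    rw [Int.cast_sum, h, neg_pow]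
    push_cast
    ring
  exact_mod_cast h2

/-- the alternating sum over subsets -/
theorem sum_subsets (n d : ℕ) (hd : 0 < d) :
    ∑ I : Finset (Fin n), (-1 : ℤ) ^ I.card *
      Ring.choose (-(d : ℤ) * (I.card : ℤ) + (n : ℤ)) n = (d : ℤ) ^ n := by
  have h := Finset.sum_powerset_apply_card
    (fun j : ℕ => (-1 : ℤ) ^ j * Ring.choose (-(d : ℤ) * (j : ℤ) + (n : ℤ)) n)
    (x := (Finset.univ : Finset (Fin n)))
  rw [Finset.powerset_univ, Finset.card_univ, Fintype.card_fin] at h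
  rw [h, ← sum_choose n d hd]
  refine sum_congr rfl fun k _ => ?_
  rw [nsmul_eq_mul]
  ring

end Groth.Agent.Lib.Helper77.VerDeg
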