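import Mathlib
import Groth.Prelude.Def_FGA
import Groth.Prelude.Def_CohB1
import Groth.Agent.Lib.Cohomology.helper5_HHLES
import Groth.Agent.Lib.Helper77.VerDeg

/-!
VerDeg2 (helper77): Euler characteristics are invariant under isomorphism; the intersection number
`(O(d)^n)` on `P^n_k` is `d^n`.
-/

set_option autoImplicit false
universe u
open CategoryTheory CategoryTheory.Limits AlgebraicGeometry Opposite TopologicalSpace

namespace Groth.Agent.Lib.Helper77.VerDeg

open Groth.Agent.Lib.Cohomology.HHLES

section Iso

variable (k : Type u) [Field k] {X : Scheme.{u}} [X.Over (Spec (CommRingCat.of k))]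

/-- cohomology of isomorphic modules, as `k`-vector spaces -/
noncomputable def hhEquiv {F G : X.Modules} (e : F ≅ G) (i : ℕ) :
    Coh.HH X F i ≃ₗ[k] Coh.HH X G i where
  toFun := hmap e.hom i
  invFun := hmap e.inv i
  map_add' x y := map_add _ x y
  map_smul' c x := hmap_smul e.hom i (Coh.toGlobal (X ↘ Spec (CommRingCat.of k)) c) x
  left_inv x := by
    show hmap e.inv i (hmap e.hom i x) = x
    rw [← hmap_comp, e.hom_inv_id, hmap_id]
  right_inv x := by
    show hmap e.hom i (hmap e.inv i x) = x
    rw [← hmap_comp, e.inv_hom_id, hmap_id]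

theorem finrank_HH_congr {F G : X.Modules} (e : F ≅ G) (i : ℕ) :
    Module.finrank k (Coh.HH X F i) = Module.finrank k (Coh.HH X G i) :=
  LinearEquiv.finrank_eq (hhEquiv k e i)

theorem eulerCharLE_congr {F G : X.Modules} (e : F ≅ G) (d : ℕ) :
    FGA.eulerCharLE k X F d = FGA.eulerCharLE k X G d := by
  unfold FGA.eulerCharLE
  refine Finset.sum_congr rfl fun i _ => ?_
  rw [finrank_HH_congr k e i]

end Iso

end Groth.Agent.Lib.Helper77.VerDeg
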