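import Mathlib

/-!
# The binomial polynomial `(x+1)…(x+r)/r!` and its integer values
-/

namespace Groth.Agent.Lib.Helper77.BinomPoly

open Polynomial

/-- the polynomial `(x+1)(x+2)…(x+r)/r!`. -/
noncomputable def binomPoly (r : ℕ) : Polynomial ℚ :=
  C (1 / (r.factorial : ℚ)) * ∏ j ∈ Finset.range r, (X + C ((j : ℚ) + 1))

theorem binomPoly_eval (r : ℕ) (x : ℚ) :
    (binomPoly r).eval x = (1 / (r.factorial : ℚ)) * ∏ j ∈ Finset.range r, (x + ((j : ℚ) + 1)) := by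
  simp [binomPoly, eval_prod]

theorem binomPoly_eval_nat (r n : ℕ) : (binomPoly r).eval (n : ℚ) = ((Nat.choose (r + n) r : ℕ) : ℚ) := by
  rw [binomPoly_eval]
  have h1 : ∏ j ∈ Finset.range r, ((n : ℚ) + ((j : ℚ) + 1)) = (((n + 1).ascFactorial r : ℕ) : ℚ) := by
    rw [Nat.ascFactorial_eq_prod_range]
    push_cast
    refine Finset.prod_congr rfl fun j _ => ?_
    ring
  rw [h1, Nat.ascFactorial_eq_factorial_mul_choose, add_comm n r]
  push_cast
  have : (r.factorial : ℚ) ≠ 0 := by exact_mod_cast Nat.factorial_ne_zero r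
  field_simp

theorem binomPoly_eval_neg (r : ℕ) (x : ℤ) (h1 : -(r : ℤ) ≤ x) (h2 : x < 0) :
    (binomPoly r).eval (x : ℚ) = 0 := by
  rw [binomPoly_eval]
  have hj : (-x - 1).toNat ∈ Finset.range r := by
    rw [Finset.mem_range]; omega
  rw [Finset.prod_eq_zero hj, mul_zero]
  have : ((-x - 1).toNat : ℤ) = -x - 1 := Int.toNat_of_nonneg (by omega)
  have h3 : (((-x - 1).toNat : ℕ) : ℚ) = -(x : ℚ) - 1 := by exact_mod_cast this
  rw [h3]; ring

theorem binomPoly_eval_int (r : ℕ) (x : ℤ) (h1 : -(r : ℤ) ≤ x) :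
    (binomPoly r).eval (x : ℚ) = (((if 0 ≤ x then ((Nat.choose (r + x.toNat) r : ℕ) : ℤ) else 0 : ℤ)) : ℚ) := by
  split_ifs with h
  · obtain ⟨n, rfl⟩ := Int.eq_ofNat_of_zero_le h
    simpa using binomPoly_eval_nat r n
  · rw [binomPoly_eval_neg r x h1 (by omega)]; simp

end Groth.Agent.Lib.Helper77.BinomPoly
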