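import Mathlib

/-!
Minimal numbers of generators `μ(M) = dim_k (k ⊗ M)` of finite modules over a discrete valuation ring,
and duality into `R ⧸ (ϖ ^ n)`.
-/

set_option autoImplicit false
universe u v w

open TensorProduct DirectSum

namespace Groth.Agent.Lib.Helper77

section Local

variable (R : Type u) [CommRing R] [IsLocalRing R]

/-- `μ(M)`: the dimension of `k ⊗ M` over the residue field. -/
noncomputable abbrev muGen (M : Type v) [AddCommGroup M] [Module R M] : ℕ :=
  Module.finrank (IsLocalRing.ResidueField R) (IsLocalRing.ResidueField R ⊗[R] M)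

variable {R}

/-- Nakayama: a finite module over a local ring is generated by `μ(M)` elements. -/
theorem exists_surjective_of_muGen (M : Type v) [AddCommGroup M] [Module R M] [Module.Finite R M] :
    ∃ φ : (Fin (muGen R M) → R) →ₗ[R] M, Function.Surjective φ := by
  classical
  let b : Module.Basis (Fin (muGen R M)) (IsLocalRing.ResidueField R)
      (IsLocalRing.ResidueField R ⊗[R] M) :=
    Module.finBasis (IsLocalRing.ResidueField R) (IsLocalRing.ResidueField R ⊗[R] M)
  have hsurj : Function.Surjective (TensorProduct.mk R (IsLocalRing.ResidueField R) M 1) :=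
    TensorProduct.mk_surjective R M (IsLocalRing.ResidueField R) Ideal.Quotient.mk_surjective
  choose f hf using fun i => hsurj (b i)
  have hspan : Submodule.span R (Set.range f) = ⊤ :=
    IsLocalRing.span_eq_top_of_tmul_eq_basis f b hf
  refine ⟨Fintype.linearCombination R f, ?_⟩
  rw [← LinearMap.range_eq_top, Fintype.range_linearCombination, hspan]

/-- `μ` decreases along surjections. -/
theorem muGen_le_of_surjective {M : Type v} {N : Type w} [AddCommGroup M] [Module R M]
    [AddCommGroup N] [Module R N] [Module.Finite R M] (f : M →ₗ[R] N) (hf : Function.Surjective f) :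
    muGen R N ≤ muGen R M := by
  have hbc : Function.Surjective (LinearMap.baseChange (IsLocalRing.ResidueField R) f) :=
    LinearMap.lTensor_surjective _ hf
  exact LinearMap.finrank_le_finrank_of_surjective hbc

theorem muGen_eq_of_equiv {M : Type v} {N : Type w} [AddCommGroup M] [Module R M]
    [AddCommGroup N] [Module R N] (e : M ≃ₗ[R] N) : muGen R M = muGen R N :=
  LinearEquiv.finrank_eq (TensorProduct.AlgebraTensorModule.congr
    (LinearEquiv.refl (IsLocalRing.ResidueField R) (IsLocalRing.ResidueField R)) e)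

theorem muGen_pi_self (r : ℕ) : muGen R (Fin r → R) = r := by
  rw [muGen, Module.finrank_baseChange]
  simp

end Local

section DVR

variable {R : Type u} [CommRing R] [IsDomain R] [IsDiscreteValuationRing R]

/-- Over a DVR, `μ` is monotone for submodules of finite modules. -/
theorem muGen_submodule_le {M : Type v} [AddCommGroup M] [Module R M] [Module.Finite R M]
    (N : Submodule R M) : muGen R N ≤ muGen R M := by
  classical
  obtain ⟨φ, hφ⟩ := exists_surjective_of_muGen (R := R) M
  let N' : Submodule R (Fin (muGen R M) → R) := N.comap φ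
  have hle : Module.finrank R N' ≤ muGen R M := by
    simpa using Submodule.finrank_le N'
  let ψ : N' →ₗ[R] N := φ.restrict (p := N') (q := N) (fun x hx => hx)
  have hψ : Function.Surjective ψ := by
    rintro ⟨y, hy⟩
    obtain ⟨x, rfl⟩ := hφ y
    exact ⟨⟨x, hy⟩, rfl⟩
  calc muGen R N ≤ muGen R N' := muGen_le_of_surjective ψ hψ
    _ = Module.finrank R N' := Module.finrank_baseChange
    _ ≤ _ := hle

theorem muGen_le_of_injective {M : Type v} {N : Type w} [AddCommGroup M] [Module R M]
    [AddCommGroup N] [Module R N] [Module.Finite R M] (f : N →ₗ[R] M) (hf : Function.Injective f) :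
    muGen R N ≤ muGen R M := by
  rw [muGen_eq_of_equiv (LinearEquiv.ofInjective f hf)]
  exact muGen_submodule_le (LinearMap.range f)

/-- The dual `Hom(M, S)` of a finite module embeds into `S ^ μ(M)`. -/
theorem exists_injective_dual (S : Type w) [AddCommGroup S] [Module R S]
    (M : Type v) [AddCommGroup M] [Module R M] [Module.Finite R M] :
    ∃ ι : (M →ₗ[R] S) →ₗ[R] (Fin (muGen R M) → S), Function.Injective ι := by
  obtain ⟨φ, hφ⟩ := exists_surjective_of_muGen (R := R) M
  refine ⟨LinearMap.pi fun i => (LinearMap.applyₗ (φ (Pi.single i 1))), ?_⟩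
  rw [← LinearMap.ker_eq_bot, LinearMap.ker_eq_bot']
  intro l hl
  have h0 : l ∘ₗ φ = 0 := by
    apply LinearMap.pi_ext
    intro i x
    have := congrFun hl i
    simp only [LinearMap.pi_apply, LinearMap.applyₗ_apply_apply, Pi.zero_apply] at this
    have hx : (Pi.single i x : Fin (muGen R M) → R) = x • Pi.single i 1 := by
      rw [← Pi.single_smul, smul_eq_mul, mul_one]
    rw [hx, map_smul, LinearMap.comp_apply, this]
    simp
  ext m
  obtain ⟨x, rfl⟩ := hφ m
  exact congrArg (fun t => t x) h0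

theorem finite_dual (S : Type w) [AddCommGroup S] [Module R S] [Module.Finite R S]
    (M : Type v) [AddCommGroup M] [Module R M] [Module.Finite R M] :
    Module.Finite R (M →ₗ[R] S) := by
  obtain ⟨ι, hι⟩ := exists_injective_dual (R := R) S M
  exact Module.Finite.of_injective ι hι

/-- `μ(Hom(M, S)) ≤ μ(M)` when `S` is cyclic. -/
theorem muGen_dual_le (S : Type w) [AddCommGroup S] [Module R S] (g : R →ₗ[R] S)
    (hg : Function.Surjective g)
    (M : Type v) [AddCommGroup M] [Module R M] [Module.Finite R M] :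
    muGen R (M →ₗ[R] S) ≤ muGen R M := by
  have : Module.Finite R S := Module.Finite.of_surjective g hg
  obtain ⟨ι, hι⟩ := exists_injective_dual (R := R) S M
  have h1 : muGen R (M →ₗ[R] S) ≤ muGen R (Fin (muGen R M) → S) := muGen_le_of_injective ι hι
  have h2 : muGen R (Fin (muGen R M) → S) ≤ muGen R (Fin (muGen R M) → R) := by
    refine muGen_le_of_surjective (LinearMap.pi fun i => g ∘ₗ LinearMap.proj i) ?_
    intro y
    choose x hx using fun i => hg (y i)
    exact ⟨x, funext fun i => by simp [hx]⟩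
  exact h1.trans (h2.trans (muGen_pi_self _).le)

/-- Multiplication by `ϖ ^ (n - a)` induces an injective map `R ⧸ (ϖ ^ a) → R ⧸ (ϖ ^ n)` for `a ≤ n`. -/
theorem exists_injective_quot_pow {ϖ : R} (hϖ : Irreducible ϖ) {a n : ℕ} (han : a ≤ n) :
    ∃ μ : (R ⧸ Submodule.span R {ϖ ^ a}) →ₗ[R] (R ⧸ Ideal.span {ϖ ^ n}), Function.Injective μ := by
  let f : R →ₗ[R] (R ⧸ Ideal.span {ϖ ^ n}) :=
    (Submodule.mkQ (Ideal.span {ϖ ^ n})) ∘ₗ (LinearMap.lsmul R R (ϖ ^ (n - a)))
  have hpow : ϖ ^ (n - a) * ϖ ^ a = ϖ ^ n := by rw [← pow_add, Nat.sub_add_cancel han]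
  have h1 : Submodule.span R {ϖ ^ a} ≤ LinearMap.ker f := by
    rw [Submodule.span_le]
    rintro _ rfl
    simp only [SetLike.mem_coe, LinearMap.mem_ker, f, LinearMap.comp_apply, LinearMap.lsmul_apply,
      smul_eq_mul, Submodule.mkQ_apply, Submodule.Quotient.mk_eq_zero, hpow]
    exact Ideal.subset_span rfl
  have h2 : LinearMap.ker f ≤ Submodule.span R {ϖ ^ a} := by
    intro y hy
    simp only [LinearMap.mem_ker, f, LinearMap.comp_apply, LinearMap.lsmul_apply,
      smul_eq_mul, Submodule.mkQ_apply, Submodule.Quotient.mk_eq_zero] at hy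
    obtain ⟨c, hc⟩ := Ideal.mem_span_singleton'.mp hy
    rw [Submodule.mem_span_singleton]
    refine ⟨c, ?_⟩
    have hne : ϖ ^ (n - a) ≠ 0 := pow_ne_zero _ hϖ.ne_zero
    apply mul_left_cancel₀ hne
    rw [smul_eq_mul, ← hc, ← hpow]
    ring
  refine ⟨Submodule.liftQ _ f h1, ?_⟩
  rw [← LinearMap.ker_eq_bot]
  exact Submodule.ker_liftQ_eq_bot _ _ h1 h2

/-- Functionals into `R ⧸ (ϖ ^ n)` separate the points of a finite module killed by `ϖ ^ n`. -/
theorem exists_dual_apply_ne_zero {ϖ : R} (hϖ : Irreducible ϖ) (n : ℕ)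
    (M : Type v) [AddCommGroup M] [Module R M] [Module.Finite R M] (hM : ∀ m : M, ϖ ^ n • m = 0)
    (m : M) (hm : m ≠ 0) : ∃ l : M →ₗ[R] (R ⧸ Ideal.span {ϖ ^ n}), l m ≠ 0 := by
  classical
  have htors : Module.IsTorsion' M (Submonoid.powers ϖ) := fun x => ⟨⟨ϖ ^ n, n, rfl⟩, hM x⟩
  obtain ⟨d, k, ⟨e⟩⟩ := Module.torsion_by_prime_power_decomposition hϖ htors
  have hx : e m ≠ 0 := fun h => hm (e.map_eq_zero_iff.mp h)
  obtain ⟨i, hi⟩ : ∃ i, (e m) i ≠ 0 := by
    by_contra hcon
    push Not at hcon
    exact hx (DFinsupp.ext hcon)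
  -- k i ≤ n
  have hki : k i ≤ n := by
    let z : M := e.symm (DirectSum.lof R (Fin d) (fun i => R ⧸ Submodule.span R {ϖ ^ k i}) i
      (Submodule.Quotient.mk 1))
    have hz := hM z
    have hz' : ϖ ^ n • (DirectSum.lof R (Fin d) (fun i => R ⧸ Submodule.span R {ϖ ^ k i}) i
      (Submodule.Quotient.mk 1)) = 0 := by
      have := congrArg e hz
      rwa [map_smul, map_zero, LinearEquiv.apply_symm_apply] at this
    rw [← map_smul, ← Submodule.Quotient.mk_smul] at hz'
    have hz'' : (Submodule.Quotient.mk (ϖ ^ n • (1 : R)) : R ⧸ Submodule.span R {ϖ ^ k i}) = 0 := by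
      apply DirectSum.of_injective (β := fun i => R ⧸ Submodule.span R {ϖ ^ k i}) i
      rw [map_zero]
      exact hz'
    rw [Submodule.Quotient.mk_eq_zero, smul_eq_mul, mul_one, Submodule.mem_span_singleton] at hz''
    obtain ⟨c, hc⟩ := hz''
    have hdvd : ϖ ^ k i ∣ ϖ ^ n := ⟨c, by rw [← hc, smul_eq_mul, mul_comm]⟩
    exact (pow_dvd_pow_iff hϖ.ne_zero hϖ.not_isUnit).mp hdvd
  obtain ⟨μ, hμ⟩ := exists_injective_quot_pow hϖ hki
  refine ⟨μ ∘ₗ (DirectSum.component R (Fin d) (fun i => R ⧸ Submodule.span R {ϖ ^ k i}) i) ∘ₗ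
    e.toLinearMap, ?_⟩
  intro h0
  apply hi
  apply hμ
  rw [map_zero]
  exact h0

end DVR

end Groth.Agent.Lib.Helper77
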