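import Mathlib
import Groth.Prelude.Def_DeRham

/-!
# Additive generation of exterior powers by the elements `DeRham.gen`

When `δ(A)` spans `M` over `A`, every element of `⋀[A]^p M` is a finite sum of elements
`DeRham.gen δ p b₀ b`.  We package this as an induction principle.
-/

universe v u

namespace Groth.Agent.Lib.Helper77.DeRhamGen

open exteriorPower

variable {R : Type v} {A M : Type u} [CommRing R] [CommRing A] [Algebra R A]
  [AddCommGroup M] [Module A M] [Module R M]

/-- Additive induction on the elements `b₀ • δ b₁ ∧ … ∧ δ b_p`. -/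
theorem gen_induction (δ : Derivation R A M) (hspan : Submodule.span A (Set.range δ) = ⊤) (p : ℕ)
    (P : ↥(⋀[A]^p M) → Prop) (h0 : P 0) (hadd : ∀ x y, P x → P y → P (x + y))
    (hgen : ∀ (b₀ : A) (b : Fin p → A), P (DeRham.gen δ p b₀ b)) (x : ↥(⋀[A]^p M)) : P x := by
  have hx : x ∈ Submodule.span A (ιMulti A p '' {a | Set.range a ⊆ Set.range δ}) := by
    rw [exteriorPower.ιMulti_span_of_span A p _ hspan]
    trivial
  suffices h : ∀ c : A, P (c • x) by simpa using h 1
  induction hx using Submodule.span_induction with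
  | mem y hy =>
    obtain ⟨a, ha, rfl⟩ := hy
    intro c
    have : ∀ i, ∃ b, δ b = a i := fun i => ha ⟨i, rfl⟩
    choose b hb using this
    have e1 : c • ιMulti A p a = DeRham.gen δ p c b := by
      unfold DeRham.gen
      congr 2
      funext i
      exact (hb i).symm
    rw [e1]
    exact hgen c b
  | zero => intro c; simpa using h0
  | add y z _ _ hy hz => intro c; rw [smul_add]; exact hadd _ _ (hy c) (hz c)
  | smul r y _ hy => intro c; rw [smul_smul]; exact hy (c * r)

/-- Kähler version of `gen_induction`. -/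
theorem gen_induction_kaehler (R A : Type u) [CommRing R] [CommRing A] [Algebra R A] (p : ℕ)
    (P : ↥(⋀[A]^p (Ω[A⁄R])) → Prop) (h0 : P 0) (hadd : ∀ x y, P x → P y → P (x + y))
    (hgen : ∀ (b₀ : A) (b : Fin p → A), P (DeRham.gen (KaehlerDifferential.D R A) p b₀ b))
    (x : ↥(⋀[A]^p (Ω[A⁄R]))) : P x :=
  gen_induction (KaehlerDifferential.D R A) (KaehlerDifferential.span_range_derivation R A) p P
    h0 hadd hgen x

/-- `ιMulti (cons (δ b₀) (δ ∘ b))` is the generator `gen 1 (cons b₀ b)`. -/
theorem ιMulti_cons_eq_gen (δ : Derivation R A M) (p : ℕ) (b₀ : A) (b : Fin p → A) :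
    ιMulti A (p + 1) (Fin.cons (δ b₀) (fun i => δ (b i)) : Fin (p + 1) → M) =
      DeRham.gen δ (p + 1) 1 (Fin.cons b₀ b : Fin (p + 1) → A) := by
  unfold DeRham.gen
  rw [one_smul]
  congr 1
  funext i
  refine Fin.cases ?_ (fun j => ?_) i <;> simp

end Groth.Agent.Lib.Helper77.DeRhamGen
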