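import Mathlib
import Groth.Prelude.Def_DeRham
import Groth.Agent.Lib.Helper77.DeRhamGen

/-!
# The map of de Rham complexes attached to a square of rings

`psi R S A B p : ⋀[A]^p Ω[A⁄R] →ₗ[A] ⋀[B]^p Ω[B⁄S]`, with `psi_gen` its values on generators.
-/

universe u

namespace Groth.Agent.Lib.Helper77.DeRhamMap

open exteriorPower

variable (R S A B : Type u) [CommRing R] [CommRing S] [CommRing A] [CommRing B]
    [Algebra R S] [Algebra R A] [Algebra R B] [Algebra A B] [Algebra S B]
    [IsScalarTower R A B] [IsScalarTower R S B]

/-- the `A`-alternating map `(ω₁,…,ω_p) ↦ map ω₁ ∧ … ∧ map ω_p`. -/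
noncomputable def altMap (p : ℕ) : (Ω[A⁄R]) [⋀^Fin p]→ₗ[A] ↥(⋀[B]^p (Ω[B⁄S])) where
  toFun v := ιMulti B p (fun i => KaehlerDifferential.map R S A B (v i))
  map_update_add' := by
    intro _ v i x y
    have h : ∀ z, (fun j => KaehlerDifferential.map R S A B (Function.update v i z j)) =
        Function.update (fun j => KaehlerDifferential.map R S A B (v j)) i
          (KaehlerDifferential.map R S A B z) := by
      intro z
      funext j
      by_cases hj : j = i
      · subst hj; simp
      · simp [Function.update_of_ne hj]
    simp only [h, map_add, AlternatingMap.map_update_add]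
  map_update_smul' := by
    intro _ v i c x
    have h : ∀ z, (fun j => KaehlerDifferential.map R S A B (Function.update v i z j)) =
        Function.update (fun j => KaehlerDifferential.map R S A B (v j)) i
          (KaehlerDifferential.map R S A B z) := by
      intro z
      funext j
      by_cases hj : j = i
      · subst hj; simp
      · simp [Function.update_of_ne hj]
    simp only [h, map_smul]
    rw [← algebraMap_smul B c (KaehlerDifferential.map R S A B x),
      AlternatingMap.map_update_smul, algebraMap_smul]
  map_eq_zero_of_eq' := by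
    intro v i j hij hne
    exact AlternatingMap.map_eq_zero_of_eq _ _ (by simp [hij]) hne

noncomputable def psi (p : ℕ) : ↥(⋀[A]^p (Ω[A⁄R])) →ₗ[A] ↥(⋀[B]^p (Ω[B⁄S])) :=
  alternatingMapLinearEquiv (altMap R S A B p)

theorem psi_gen (p : ℕ) (b₀ : A) (b : Fin p → A) :
    psi R S A B p (DeRham.gen (KaehlerDifferential.D R A) p b₀ b) =
      DeRham.gen (KaehlerDifferential.D S B) p (algebraMap A B b₀) (fun i => algebraMap A B (b i)) := by
  unfold DeRham.gen psi
  rw [map_smul, alternatingMapLinearEquiv_apply_ιMulti, algebraMap_smul]
  simp [altMap, KaehlerDifferential.map_D]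

end Groth.Agent.Lib.Helper77.DeRhamMap
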