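import Mathlib

/-!
# Exterior powers commute with base change

For `A → B`, an `A`-linear `f : M → N` into a `B`-module with `IsBaseChange B f`, the induced map
`extMap f p : ⋀[A]^p M →ₗ[A] ⋀[B]^p N` is again a base change: `PhiP f p : B ⊗[A] ⋀[A]^p M →ₗ[B] ⋀[B]^p N`
is bijective (`PhiP_bijective`, `extMap_isBaseChange`).  Proof through the exterior algebras:
`PhiAlg f : B ⊗[A] ExteriorAlgebra A M →ₐ[B] ExteriorAlgebra B N` has the left inverse `beta`.
-/

universe u
open TensorProduct

namespace Groth.Agent.Lib.Helper77.ExtPowBaseChange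

variable {A B M N : Type u} [CommRing A] [CommRing B] [Algebra A B] [AddCommGroup M] [Module A M]
  [AddCommGroup N] [Module A N] [Module B N] [IsScalarTower A B N]


/-- `α : E_A(M) →ₐ[A] E_B(N)` induced by `f`. -/
noncomputable def alpha (f : M →ₗ[A] N) : ExteriorAlgebra A M →ₐ[A] ExteriorAlgebra B N :=
  ExteriorAlgebra.lift A ⟨((ExteriorAlgebra.ι B).restrictScalars A).comp f, fun m => by simp⟩

@[simp] theorem alpha_ι (f : M →ₗ[A] N) (m : M) :
    alpha (B := B) f (ExteriorAlgebra.ι A m) = ExteriorAlgebra.ι B (f m) := by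
  simp [alpha]

noncomputable def PhiAlg (f : M →ₗ[A] N) : B ⊗[A] ExteriorAlgebra A M →ₐ[B] ExteriorAlgebra B N :=
  Algebra.TensorProduct.lift (Algebra.ofId B _) (alpha f) (fun b x => (show Commute ((Algebra.ofId B (ExteriorAlgebra B N)) b) (alpha f x) from
      Algebra.commute_algebraMap_left b _))

@[simp] theorem PhiAlg_tmul (f : M →ₗ[A] N) (b : B) (e : ExteriorAlgebra A M) :
    PhiAlg f (b ⊗ₜ e) = b • alpha (B := B) f e := by
  rw [PhiAlg, Algebra.TensorProduct.lift_tmul, Algebra.ofId_apply, Algebra.smul_def]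

variable {f : M →ₗ[A] N} (hf : IsBaseChange B f)

noncomputable def hlin : N →ₗ[B] B ⊗[A] ExteriorAlgebra A M :=
  hf.lift ((TensorProduct.mk A B (ExteriorAlgebra A M) 1).comp (ExteriorAlgebra.ι A))

@[simp] theorem hlin_f (m : M) : hlin hf (f m) = 1 ⊗ₜ ExteriorAlgebra.ι A m := by
  simp [hlin, IsBaseChange.lift_eq]

theorem hlin_swap (n n' : N) : hlin hf n * hlin hf n' + hlin hf n' * hlin hf n = 0 := by
  induction n using hf.inductionOn with
  | zero => simp
  | tmul m =>
    induction n' using hf.inductionOn with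
    | zero => simp
    | tmul m' =>
      simp only [hlin_f, Algebra.TensorProduct.tmul_mul_tmul, mul_one]
      rw [← TensorProduct.tmul_add, ExteriorAlgebra.ι_add_mul_swap, TensorProduct.tmul_zero]
    | smul b n' ih =>
      rw [map_smul, mul_smul_comm, smul_mul_assoc, ← smul_add, ih, smul_zero]
    | add n₁ n₂ h₁ h₂ =>
      rw [map_add, mul_add, add_mul]
      rw [show ∀ a b c d : B ⊗[A] ExteriorAlgebra A M, a + b + (c + d) = (a + c) + (b + d) by
        intros; abel, h₁, h₂, add_zero]
  | smul b n ih =>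
    rw [map_smul, mul_smul_comm, smul_mul_assoc, ← smul_add, ih, smul_zero]
  | add n₁ n₂ h₁ h₂ =>
    rw [map_add, mul_add, add_mul]
    rw [show ∀ a b c d : B ⊗[A] ExteriorAlgebra A M, a + b + (c + d) = (a + c) + (b + d) by
      intros; abel, h₁, h₂, add_zero]

theorem hlin_sq (n : N) : hlin hf n * hlin hf n = 0 := by
  induction n using hf.inductionOn with
  | zero => simp
  | tmul m =>
    simp only [hlin_f, Algebra.TensorProduct.tmul_mul_tmul, mul_one]
    rw [ExteriorAlgebra.ι_sq_zero, TensorProduct.tmul_zero]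
  | smul b n ih =>
    rw [map_smul, mul_smul_comm, smul_mul_assoc, ih, smul_zero, smul_zero]
  | add n₁ n₂ h₁ h₂ =>
    rw [map_add, mul_add, add_mul, add_mul, h₁, h₂, zero_add, add_zero, add_comm, hlin_swap]

noncomputable def beta : ExteriorAlgebra B N →ₐ[B] B ⊗[A] ExteriorAlgebra A M :=
  ExteriorAlgebra.lift B ⟨hlin hf, hlin_sq hf⟩

@[simp] theorem beta_ι (n : N) : beta hf (ExteriorAlgebra.ι B n) = hlin hf n := by
  simp [beta]

theorem beta_comp_PhiAlg : (beta hf).comp (PhiAlg f) = AlgHom.id B _ := by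
  apply Algebra.TensorProduct.ext
  · ext
  · apply ExteriorAlgebra.hom_ext
    ext m
    simp

include hf in
theorem PhiAlg_injective : Function.Injective (PhiAlg (B := B) f) := by
  intro x y hxy
  have := congrArg (beta hf) hxy
  have h1 : ∀ z, beta hf (PhiAlg f z) = z := fun z => by
    have := DFunLike.congr_fun (beta_comp_PhiAlg hf) z
    simpa using this
  rwa [h1, h1] at this


open exteriorPower

/-- the `A`-alternating map `(m₁,…,m_p) ↦ f m₁ ∧ … ∧ f m_p`. -/
noncomputable def altMap (f : M →ₗ[A] N) (p : ℕ) : M [⋀^Fin p]→ₗ[A] ↥(⋀[B]^p N) where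
  toFun v := ιMulti B p (fun i => f (v i))
  map_update_add' := by
    intro _ v i x y
    have h : ∀ z, (fun j => f (Function.update v i z j)) =
        Function.update (fun j => f (v j)) i (f z) := by
      intro z
      funext j
      by_cases hj : j = i
      · subst hj; simp
      · simp [Function.update_of_ne hj]
    simp only [h, map_add, AlternatingMap.map_update_add]
  map_update_smul' := by
    intro _ v i c x
    have h : ∀ z, (fun j => f (Function.update v i z j)) =
        Function.update (fun j => f (v j)) i (f z) := by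
      intro z
      funext j
      by_cases hj : j = i
      · subst hj; simp
      · simp [Function.update_of_ne hj]
    simp only [h, map_smul]
    rw [← algebraMap_smul B c (f x), AlternatingMap.map_update_smul, algebraMap_smul]
  map_eq_zero_of_eq' := by
    intro v i j hij hne
    exact AlternatingMap.map_eq_zero_of_eq _ _ (by simp [hij]) hne

/-- the induced `A`-linear map on exterior powers across the change of rings. -/
noncomputable def extMap (f : M →ₗ[A] N) (p : ℕ) : ↥(⋀[A]^p M) →ₗ[A] ↥(⋀[B]^p N) :=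
  alternatingMapLinearEquiv (altMap f p)

@[simp] theorem extMap_ιMulti (f : M →ₗ[A] N) (p : ℕ) (m : Fin p → M) :
    extMap (B := B) f p (ιMulti A p m) = ιMulti B p (fun i => f (m i)) := by
  simp [extMap, alternatingMapLinearEquiv_apply_ιMulti, altMap]

theorem coe_extMap (f : M →ₗ[A] N) (p : ℕ) (x : ↥(⋀[A]^p M)) :
    ((extMap (B := B) f p x : ↥(⋀[B]^p N)) : ExteriorAlgebra B N) =
      alpha f (x : ExteriorAlgebra A M) := by
  have : ((Submodule.subtype (⋀[B]^p N)).restrictScalars A).comp (extMap (B := B) f p) =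
      (alpha (B := B) f).toLinearMap.comp (Submodule.subtype (⋀[A]^p M)) := by
    apply exteriorPower.linearMap_ext
    ext m
    simp [ExteriorAlgebra.ιMulti_apply, map_list_prod, List.map_ofFn, Function.comp_def]
  exact DFunLike.congr_fun this x

noncomputable def PhiP (f : M →ₗ[A] N) (p : ℕ) : B ⊗[A] ↥(⋀[A]^p M) →ₗ[B] ↥(⋀[B]^p N) :=
  LinearMap.liftBaseChange B (extMap f p)

@[simp] theorem PhiP_tmul (f : M →ₗ[A] N) (p : ℕ) (b : B) (x : ↥(⋀[A]^p M)) :
    PhiP f p (b ⊗ₜ x) = b • extMap (B := B) f p x := by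
  simp [PhiP]

theorem coe_PhiP (f : M →ₗ[A] N) (p : ℕ) (t : B ⊗[A] ↥(⋀[A]^p M)) :
    ((PhiP f p t : ↥(⋀[B]^p N)) : ExteriorAlgebra B N) =
      PhiAlg f (LinearMap.lTensor B (Submodule.subtype (⋀[A]^p M)) t) := by
  induction t using TensorProduct.induction_on with
  | zero => simp
  | tmul b x => simp [coe_extMap]
  | add x y hx hy => simp only [map_add, Submodule.coe_add, hx, hy]

noncomputable def proj (p : ℕ) : ExteriorAlgebra A M →ₗ[A] ↥(⋀[A]^p M) :=
  (DirectSum.component A ℕ (fun i => ↥(⋀[A]^i M)) p).comp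
    (DirectSum.decomposeLinearEquiv (fun i => ⋀[A]^i M)).toLinearMap

theorem proj_coe (p : ℕ) (x : ↥(⋀[A]^p M)) : proj p (x : ExteriorAlgebra A M) = x := by
  simp [proj]

theorem lTensor_subtype_injective (p : ℕ) :
    Function.Injective (LinearMap.lTensor B (Submodule.subtype (⋀[A]^p M))) := by
  apply Function.LeftInverse.injective (g := LinearMap.lTensor B (proj p))
  intro t
  rw [← LinearMap.comp_apply, ← LinearMap.lTensor_comp]
  have : (proj p).comp (Submodule.subtype (⋀[A]^p M)) = LinearMap.id := by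
    refine LinearMap.ext fun x => ?_
    simp only [LinearMap.comp_apply, Submodule.subtype_apply, LinearMap.id_apply]
    exact proj_coe p x
  rw [this, LinearMap.lTensor_id, LinearMap.id_apply]

include hf in
theorem PhiP_injective (p : ℕ) : Function.Injective (PhiP (B := B) f p) := by
  intro x y hxy
  apply lTensor_subtype_injective (B := B) p
  apply PhiAlg_injective hf
  rw [← coe_PhiP, ← coe_PhiP, hxy]

include hf in
theorem span_range_eq_top : Submodule.span B (Set.range f) = ⊤ := by
  rw [eq_top_iff]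
  rintro n -
  induction n using hf.inductionOn with
  | zero => exact zero_mem _
  | tmul m => exact Submodule.subset_span ⟨m, rfl⟩
  | smul b n ih => exact Submodule.smul_mem _ _ ih
  | add n₁ n₂ h₁ h₂ => exact add_mem h₁ h₂

include hf in
theorem PhiP_surjective (p : ℕ) : Function.Surjective (PhiP (B := B) f p) := by
  rw [← LinearMap.range_eq_top, eq_top_iff,
    ← exteriorPower.ιMulti_span_of_span B p N (span_range_eq_top hf), Submodule.span_le]
  rintro _ ⟨v, hv, rfl⟩
  have : ∀ i, ∃ m, f m = v i := fun i => hv ⟨i, rfl⟩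
  choose m hm using this
  refine ⟨1 ⊗ₜ ιMulti A p m, ?_⟩
  simp [hm]

include hf in
theorem PhiP_bijective (p : ℕ) : Function.Bijective (PhiP (B := B) f p) :=
  ⟨PhiP_injective hf p, PhiP_surjective hf p⟩


include hf in
theorem extMap_isBaseChange (p : ℕ) : IsBaseChange B (extMap (B := B) f p) :=
  IsBaseChange.of_equiv (LinearEquiv.ofBijective (PhiP (B := B) f p) (PhiP_bijective hf p))
    (fun x => by simp)

end Groth.Agent.Lib.Helper77.ExtPowBaseChange
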