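import Mathlib
import Groth.Prelude.Def_GrLC
import Groth.Prelude.Def_GrSyz
import Groth.Agent.Lib.Helper77.GLC5

/-!
GLC6 (helper77): finite graded free modules `Fin n → R` with prescribed generator degrees as graded
modules, additivity of graded local cohomology over finite direct sum decompositions, and the
graded local cohomology of finite graded free modules over the polynomial ring.
-/

set_option autoImplicit false
set_option linter.unusedSectionVars false
universe u

namespace Groth.Agent.Lib.Helper77.GLC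

open GrLC DirectSum

section free

variable {ι : Type} [AddCommGroup ι] [DecidableEq ι] {R : Type u} [CommRing R]
variable (𝒜 : ι → AddSubgroup R) [GradedRing 𝒜] {n : ℕ} (dg : Fin n → ι)

/-- the pieces of the graded free module with generators in degrees `dg` -/
def fgr (g : ι) : AddSubgroup (Fin n → R) where
  carrier := {v | ∀ b, v b ∈ 𝒜 (g - dg b)}
  add_mem' ha hb := fun b => add_mem (ha b) (hb b)
  zero_mem' := fun _ => zero_mem _
  neg_mem' ha := fun b => neg_mem (ha b)

theorem mem_fgr {g : ι} {v : Fin n → R} : v ∈ fgr 𝒜 dg g ↔ ∀ b, v b ∈ 𝒜 (g - dg b) := Iff.rfl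

theorem single_mem_fgr (b : Fin n) {x : R} {g : ι} (hx : x ∈ 𝒜 (g - dg b)) :
    Pi.single b x ∈ fgr 𝒜 dg g := by
  intro b'
  by_cases hb : b' = b
  · subst hb; rw [Pi.single_eq_same]; exact hx
  · rw [Pi.single_eq_of_ne hb]; exact zero_mem _

/-- `x ↦ x e_b` on pieces -/
def fsing (b : Fin n) (h : ι) : 𝒜 h →+ fgr 𝒜 dg (h + dg b) where
  toFun x := ⟨Pi.single b (x : R), single_mem_fgr 𝒜 dg b (by rw [add_sub_cancel_right]; exact x.2)⟩
  map_zero' := Subtype.ext (Pi.single_zero b)
  map_add' x y := Subtype.ext (by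
    change (Pi.single b ((x : R) + (y : R)) : Fin n → R) =
      (Pi.single b (x : R) : Fin n → R) + (Pi.single b (y : R) : Fin n → R)
    exact Pi.single_add b _ _)

/-- the `b`-th summand of the decomposition map -/
noncomputable def fT (b : Fin n) : (⨁ h, 𝒜 h) →+ ⨁ g, fgr 𝒜 dg g :=
  DirectSum.toAddMonoid
    (fun h => (DirectSum.of (fun g => fgr 𝒜 dg g) (h + dg b)).comp (fsing 𝒜 dg b h))

theorem coe_fT (b : Fin n) (z : ⨁ h, 𝒜 h) :
    DirectSum.coeAddMonoidHom (fgr 𝒜 dg) (fT 𝒜 dg b z) =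
      Pi.single b (DirectSum.coeAddMonoidHom 𝒜 z) := by
  induction z using DirectSum.induction_on with
  | zero => rw [map_zero, map_zero, map_zero, Pi.single_zero]
  | of h x =>
    rw [fT, DirectSum.toAddMonoid_of, AddMonoidHom.comp_apply, DirectSum.coeAddMonoidHom_of,
      DirectSum.coeAddMonoidHom_of]
    rfl
  | add z w hz hw => rw [map_add, map_add, map_add, hz, hw, Pi.single_add]

/-- the decomposition map of the graded free module -/
noncomputable def fdecomp : (Fin n → R) →+ ⨁ g, fgr 𝒜 dg g :=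
  ∑ b : Fin n, (fT 𝒜 dg b).comp
    ((decomposeAddEquiv 𝒜).toAddMonoidHom.comp (Pi.evalAddMonoidHom (fun _ : Fin n => R) b))

theorem fdecomp_apply (v : Fin n → R) :
    fdecomp 𝒜 dg v = ∑ b : Fin n, fT 𝒜 dg b (decompose 𝒜 (v b)) := by
  rw [fdecomp, AddMonoidHom.finsetSum_apply]
  rfl

theorem of_fgr_congr {h h' : ι} (e : h = h') (x : fgr 𝒜 dg h) (x' : fgr 𝒜 dg h')
    (hx : (x : Fin n → R) = x') :
    DirectSum.of (fun g => fgr 𝒜 dg g) h x = DirectSum.of (fun g => fgr 𝒜 dg g) h' x' := by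
  subst e
  congr 1
  exact Subtype.ext hx

noncomputable instance fgrDecomposition : Decomposition (fgr 𝒜 dg) :=
  Decomposition.ofAddHom (fgr 𝒜 dg) (fdecomp 𝒜 dg)
    (by
      refine AddMonoidHom.ext fun v => ?_
      change DirectSum.coeAddMonoidHom (fgr 𝒜 dg) (fdecomp 𝒜 dg v) = v
      rw [fdecomp_apply, map_sum]
      have : ∀ b ∈ Finset.univ, DirectSum.coeAddMonoidHom (fgr 𝒜 dg)
          (fT 𝒜 dg b (decompose 𝒜 (v b))) = Pi.single b (v b) := by
        intro b _
        rw [coe_fT]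
        congr 1
        exact (decompose 𝒜).symm_apply_apply (v b)
      rw [Finset.sum_congr rfl this]
      exact Finset.univ_sum_single v)
    (by
      apply DirectSum.addHom_ext
      intro g w
      change fdecomp 𝒜 dg
        (DirectSum.coeAddMonoidHom (fgr 𝒜 dg) (DirectSum.of (fun g => fgr 𝒜 dg g) g w)) = _
      rw [DirectSum.coeAddMonoidHom_of, fdecomp_apply]
      have : ∀ b ∈ Finset.univ, fT 𝒜 dg b (decompose 𝒜 ((w : Fin n → R) b)) =
          DirectSum.of (fun g => fgr 𝒜 dg g) g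
            ⟨Pi.single b ((w : Fin n → R) b), single_mem_fgr 𝒜 dg b (w.2 b)⟩ := by
        intro b _
        rw [DirectSum.decompose_of_mem 𝒜 (w.2 b), fT, DirectSum.toAddMonoid_of,
          AddMonoidHom.comp_apply]
        exact of_fgr_congr 𝒜 dg (sub_add_cancel g (dg b)) _ _ rfl
      rw [Finset.sum_congr rfl this, ← map_sum]
      refine congrArg (DirectSum.of (fun g => fgr 𝒜 dg g) g) ?_
      apply Subtype.ext
      rw [AddSubgroup.val_finsetSum]
      exact Finset.univ_sum_single (w : Fin n → R))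

instance fgrGradedSMul : SetLike.GradedSMul 𝒜 (fgr 𝒜 dg) where
  smul_mem := by
    intro i j a v ha hv b
    have := SetLike.GradedMul.mul_mem (A := 𝒜) ha (hv b)
    rw [vadd_eq_add, add_sub_assoc]
    exact this

end free

section additivity

variable {ι : Type} [AddCommGroup ι] [DecidableEq ι] {R : Type u} [CommRing R]
variable {𝒜 : ι → AddSubgroup R} [GradedRing 𝒜]
variable {M : Type u} [AddCommGroup M] [Module R M] {ℳ : ι → AddSubgroup M} [Decomposition ℳ]
  [SetLike.GradedSMul 𝒜 ℳ]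
variable {N : Type u} [AddCommGroup N] [Module R N] {𝒩 : ι → AddSubgroup N} [Decomposition 𝒩]
  [SetLike.GradedSMul 𝒜 𝒩]
variable {E : StarInjRes 𝒜 ℳ} {E' : StarInjRes 𝒜 𝒩}

/-- the zero lift -/
def Lift.zero (E : StarInjRes 𝒜 ℳ) (E' : StarInjRes 𝒜 𝒩) : Lift E E' 0 where
  φ _ := 0
  gr _ := fun _ _ _ => zero_mem _
  comm0 := by rw [LinearMap.zero_comp, LinearMap.comp_zero]
  comm _ := by rw [LinearMap.zero_comp, LinearMap.comp_zero]

/-- the sum of two lifts -/
def Lift.add {f₁ f₂ : M →ₗ[R] N} (L₁ : Lift E E' f₁) (L₂ : Lift E E' f₂) : Lift E E' (f₁ + f₂) where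
  φ n := L₁.φ n + L₂.φ n
  gr n := fun g m hm => add_mem (L₁.gr n g m hm) (L₂.gr n g m hm)
  comm0 := by rw [LinearMap.add_comp, LinearMap.comp_add, L₁.comm0, L₂.comm0]
  comm n := by rw [LinearMap.add_comp, LinearMap.comp_add, L₁.comm, L₂.comm]

theorem exists_lift_sum {β : Type} (s : Finset β) (f : β → (M →ₗ[R] N))
    (L : ∀ b, Lift E E' (f b)) :
    ∃ L' : Lift E E' (∑ b ∈ s, f b), ∀ i z, L'.φ i z = ∑ b ∈ s, (L b).φ i z := by
  classical
  induction s using Finset.induction_on with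
  | empty =>
    refine ⟨(Lift.zero E E').congr (by rw [Finset.sum_empty]), fun i z => ?_⟩
    have e : ∑ b ∈ (∅ : Finset β), (L b).φ i z = 0 := Finset.sum_empty
    rw [e]
    rfl
  | insert b s hb ih =>
    obtain ⟨L', hL'⟩ := ih
    refine ⟨((L b).add L').congr (by rw [Finset.sum_insert hb]), fun i z => ?_⟩
    have e : ∑ b' ∈ insert b s, (L b').φ i z = (L b).φ i z + ∑ b' ∈ s, (L b').φ i z :=
      Finset.sum_insert hb
    rw [e, ← hL']
    rfl

theorem IsBd.sum {a : Ideal R} {i : ℕ} {g : ι} {β : Type} (s : Finset β)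
    (z : β → (E.X i).carrier) (hz : ∀ b ∈ s, IsBd E a i g (z b)) :
    IsBd E a i g (∑ b ∈ s, z b) := by
  classical
  induction s using Finset.induction_on with
  | empty => rw [Finset.sum_empty]; exact IsBd.zero E a i g
  | insert b s hb ih =>
    rw [Finset.sum_insert hb]
    exact (hz b (Finset.mem_insert_self b s)).add
      (ih (fun b' hb' => hz b' (Finset.mem_insert_of_mem hb')))

/-- additivity: if the identity of `M` is a finite sum of graded maps factoring through graded
modules `Y b` whose local cohomology vanishes in bidegree `(i, g)`, so does that of `M`. -/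
theorem HV_of_finite_decomp {β : Type} [Fintype β] (Y : β → GMod.{u} 𝒜)
    (EY : ∀ b, StarInjRes 𝒜 (Y b).gr) (E : StarInjRes 𝒜 ℳ)
    (inc : ∀ b, (Y b).carrier →ₗ[R] M) (hinc : ∀ b, IsGrHom (Y b).gr ℳ (inc b))
    (prj : ∀ b, M →ₗ[R] (Y b).carrier) (hprj : ∀ b, IsGrHom ℳ (Y b).gr (prj b))
    (hsum : ∑ b, inc b ∘ₗ prj b = LinearMap.id)
    {a : Ideal R} {i : ℕ} {g : ι} (h : ∀ b, HV (EY b) a i g) : HV E a i g := by
  classical
  have hI : ∀ b, Nonempty (Lift (EY b) E (inc b)) := fun b => exists_lift (EY b) E (inc b) (hinc b)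
  have hP : ∀ b, Nonempty (Lift E (EY b) (prj b)) := fun b => exists_lift E (EY b) (prj b) (hprj b)
  let I := fun b => (hI b).some
  let P := fun b => (hP b).some
  obtain ⟨L', hL'⟩ := exists_lift_sum Finset.univ (fun b => inc b ∘ₗ prj b)
    (fun b => (I b).comp (P b))
  intro z hz hdz
  have h1 := isBd_sub_of_lifts (L'.congr hsum) (Lift.refl E) hz hdz
  change IsBd E a i g (L'.φ i z - z) at h1
  rw [hL'] at h1
  have h2 : IsBd E a i g (∑ b, ((I b).comp (P b)).φ i z) := by
    apply IsBd.sum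
    intro b _
    change IsBd E a i g ((I b).φ i ((P b).φ i z))
    apply (I b).map_isBd
    apply h b _ ((P b).map_gm hz)
    rw [← (P b).comm_apply, hdz, map_zero]
  have := h2.sub h1
  rwa [sub_sub_cancel] at this

end additivity

section freemaps

variable {ι : Type} [AddCommGroup ι] [DecidableEq ι] {R : Type u} [CommRing R]
variable (𝒜 : ι → AddSubgroup R) [GradedRing 𝒜] {n : ℕ} (dg : Fin n → ι)

/-- inclusion of the `b`-th summand `R(-dg b)` -/
noncomputable def finc (b : Fin n) :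
    (Helper66.GradedShift.shiftGMod 𝒜 𝒜 (-dg b)).carrier →ₗ[R] (Fin n → R) :=
  LinearMap.single R (fun _ : Fin n => R) b

/-- projection to the `b`-th summand `R(-dg b)` -/
noncomputable def fprj (b : Fin n) :
    (Fin n → R) →ₗ[R] (Helper66.GradedShift.shiftGMod 𝒜 𝒜 (-dg b)).carrier :=
  LinearMap.proj b

theorem finc_gr (b : Fin n) :
    IsGrHom (Helper66.GradedShift.shiftGMod 𝒜 𝒜 (-dg b)).gr (fgr 𝒜 dg) (finc 𝒜 dg b) := by
  intro g (x : R) (hx : x ∈ 𝒜 (-dg b + g))
  change Pi.single b x ∈ fgr 𝒜 dg g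
  apply single_mem_fgr
  rwa [sub_eq_neg_add]

theorem fprj_gr (b : Fin n) :
    IsGrHom (fgr 𝒜 dg) (Helper66.GradedShift.shiftGMod 𝒜 𝒜 (-dg b)).gr (fprj 𝒜 dg b) := by
  intro g v hv
  change v b ∈ 𝒜 (-dg b + g)
  rw [← sub_eq_neg_add]
  exact hv b

theorem sum_finc_fprj : ∑ b, finc 𝒜 dg b ∘ₗ fprj 𝒜 dg b = LinearMap.id := by
  refine LinearMap.ext fun v => ?_
  rw [LinearMap.sum_apply]
  exact Finset.univ_sum_single v

end freemaps

section retract

variable {ι : Type} [AddCommGroup ι] [DecidableEq ι] {R : Type u} [CommRing R]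
variable {𝒜 : ι → AddSubgroup R} [GradedRing 𝒜] {n : ℕ} (dg : Fin n → ι)
variable {W : Type u} [AddCommGroup W] [Module R W] {𝒲 : ι → AddSubgroup W} [Decomposition 𝒲]
  [SetLike.GradedSMul 𝒜 𝒲]

/-- If `q : ⊕ R(-dg c) → W` is a graded surjection whose kernel has vanishing `b`-th coordinate,
then `R(-dg b)` is a graded retract of `W`, so its graded local cohomology vanishes wherever that
of `W` does. -/
theorem HV_shift_of_cover (q : (Fin n → R) →ₗ[R] W) (hq : IsGrHom (fgr 𝒜 dg) 𝒲 q)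
    (hqs : Function.Surjective q) (b : Fin n) (hb : ∀ v ∈ LinearMap.ker q, v b = 0)
    (EW : StarInjRes 𝒜 𝒲)
    (ES : StarInjRes 𝒜 (Helper66.GradedShift.shiftGMod 𝒜 𝒜 (-dg b)).gr)
    {a : Ideal R} {i : ℕ} {g : ι} (h : HV EW a i g) : HV ES a i g := by
  have hker : LinearMap.ker q ≤ LinearMap.ker (fprj 𝒜 dg b) := fun v hv => hb v hv
  let ρ : W →ₗ[R] (Helper66.GradedShift.shiftGMod 𝒜 𝒜 (-dg b)).carrier :=
    ((LinearMap.ker q).liftQ (fprj 𝒜 dg b) hker) ∘ₗ (q.quotKerEquivOfSurjective hqs).symm.toLinearMap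
  have hρ : ∀ v, ρ (q v) = fprj 𝒜 dg b v := by
    intro v
    change (LinearMap.ker q).liftQ (fprj 𝒜 dg b) hker ((q.quotKerEquivOfSurjective hqs).symm (q v)) = _
    rw [LinearMap.quotKerEquivOfSurjective_symm_apply]
    rfl
  refine HV_of_retract ES EW (q ∘ₗ finc 𝒜 dg b)
    (fun g x hx => hq g _ (finc_gr 𝒜 dg b g x hx)) ρ ?_ ?_ h
  · intro g w hw
    obtain ⟨v, rfl⟩ := hqs w
    have h1 : q (decompose (fgr 𝒜 dg) v g : Fin n → R) = q v := by
      rw [← Helper66.Graded.decompose_grHom (fgr 𝒜 dg) 𝒲 q hq v g]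
      exact DirectSum.decompose_of_mem_same 𝒲 hw
    rw [← h1, hρ]
    exact fprj_gr 𝒜 dg b g _ (SetLike.coe_mem _)
  · refine LinearMap.ext fun (x : R) => ?_
    change ρ (q (finc 𝒜 dg b x)) = x
    rw [hρ]
    change (Pi.single b x : Fin n → R) b = x
    exact Pi.single_eq_same (M := fun _ : Fin n => R) b x

end retract

section polyfree

open MvPolynomial GrSyz

variable (k : Type u) [Field k] (m : ℕ)

/-- graded local cohomology of the shifted polynomial ring `S(s)`: vanishing -/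
theorem HV_shift_poly (s : ℤ)
    (E : StarInjRes (sg k m) (Helper66.GradedShift.shiftGMod (sg k m) (sg k m) s).gr) (i : ℕ) (g : ℤ)
    (h : i ≠ m ∨ -(m : ℤ) < s + g) : HV E (am k m).toIdeal i g := by
  obtain ⟨E0⟩ := exists_res (𝒜 := sg k m) (MvPolynomial (Fin m) k) (sg k m)
  rw [HV_iff_of_res E (shiftRes E0 s), HV_shiftRes_iff]
  obtain ⟨h1, h2, _⟩ := poly_conc k m E0
  rcases h with h | h
  · exact h1 i h _
  · by_cases hi : i = m
    · subst hi; exact h2 _ h
    · exact h1 i hi _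

/-- graded local cohomology of the shifted polynomial ring `S(s)`: non-vanishing -/
theorem not_HV_shift_poly (s : ℤ)
    (E : StarInjRes (sg k m) (Helper66.GradedShift.shiftGMod (sg k m) (sg k m) s).gr) (g : ℤ)
    (h : s + g = -(m : ℤ)) : ¬ HV E (am k m).toIdeal m g := by
  obtain ⟨E0⟩ := exists_res (𝒜 := sg k m) (MvPolynomial (Fin m) k) (sg k m)
  rw [HV_iff_of_res E (shiftRes E0 s), HV_shiftRes_iff, h]
  exact (poly_conc k m E0).2.2

/-- graded local cohomology of a finite graded free module over the polynomial ring -/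
theorem HV_free_poly {n : ℕ} (dg : Fin n → ℤ) (E : StarInjRes (sg k m) (fgr (sg k m) dg)) (i : ℕ)
    (g : ℤ) (h : ∀ b, i ≠ m ∨ -(m : ℤ) < g - dg b) : HV E (am k m).toIdeal i g := by
  have hres : ∀ b : Fin n, Nonempty (StarInjRes (sg k m)
      (Helper66.GradedShift.shiftGMod (sg k m) (sg k m) (-dg b)).gr) :=
    fun b => exists_res (𝒜 := sg k m) _ _
  refine HV_of_finite_decomp (fun b => Helper66.GradedShift.shiftGMod (sg k m) (sg k m) (-dg b))
    (fun b => (hres b).some) E (finc (sg k m) dg) (finc_gr (sg k m) dg) (fprj (sg k m) dg)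
    (fprj_gr (sg k m) dg) (sum_finc_fprj (sg k m) dg) ?_
  intro b
  apply HV_shift_poly
  rcases h b with h | h
  · exact Or.inl h
  · right
    rw [← sub_eq_neg_add]
    exact h

end polyfree

end Groth.Agent.Lib.Helper77.GLC
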