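import Mathlib
import Groth.Prelude.Def_GrSyz
import Groth.Agent.Lib.Helper77.GrSyzBasic

/-!
# Length of a (minimal) free resolution and projective dimension
-/

universe u
open GrSyz CategoryTheory

namespace Groth.Agent.Lib.Helper77.GrPD

section L
variable {R : Type u} [CommRing R] {P N : Type u} [AddCommGroup P] [Module R P] [AddCommGroup N] [Module R N]

/-- dimension shifting along a surjection from a projective module. -/
theorem hasPDLT_iff_ker (f : P →ₗ[R] N) (hf : Function.Surjective f) [Module.Projective R P]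
    (K : Submodule R P) (hK : K = LinearMap.ker f) (m : ℕ) :
    HasProjectiveDimensionLT (ModuleCat.of R N) (m + 2) ↔
      HasProjectiveDimensionLT (ModuleCat.of R ↥K) (m + 1) := by
  subst hK
  have hS := LinearMap.shortExact_shortComplexKer hf
  have hproj : Projective (ModuleCat.of R P) := (IsProjective.iff_projective P).1 inferInstance
  exact hS.hasProjectiveDimensionLT_X₃_iff m hproj

theorem hasPDLT_succ_of_ker (f : P →ₗ[R] N) (hf : Function.Surjective f) [Module.Projective R P]
    (K : Submodule R P) (hK : K = LinearMap.ker f) (m : ℕ)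
    (h : HasProjectiveDimensionLT (ModuleCat.of R ↥K) m) :
    HasProjectiveDimensionLT (ModuleCat.of R N) (m + 1) := by
  subst hK
  have hS := LinearMap.shortExact_shortComplexKer hf
  have hproj : Projective (ModuleCat.of R P) := (IsProjective.iff_projective P).1 inferInstance
  have h2 : HasProjectiveDimensionLT (ModuleCat.of R P) (m + 1) :=
    hasProjectiveDimensionLT_of_ge (ModuleCat.of R P) 1 (m + 1) (by omega)
  exact hS.hasProjectiveDimensionLT_X₃ m h h2

end L

section Nak
variable {R : Type u} [CommRing R] [IsDomain R]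

/-- a direct summand of a finite free module over a domain which lies in `𝔪` times the module
vanishes (Nakayama). -/
theorem ker_eq_bot_of_le_smul {n : ℕ} {N : Type u} [AddCommGroup N] [Module R N] [Module.Projective R N]
    (𝔪 : Ideal R) (h1 : (1 : R) ∉ 𝔪) (f : (Fin n → R) →ₗ[R] N) (hf : Function.Surjective f)
    (hker : ∀ x ∈ LinearMap.ker f, ∀ a, x a ∈ 𝔪) : LinearMap.ker f = ⊥ := by
  classical
  obtain ⟨s, hs⟩ := Module.projective_lifting_property f LinearMap.id hf
  -- the retraction onto the kernel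
  have hρ : ∀ x : Fin n → R, x - s (f x) ∈ LinearMap.ker f := by
    intro x
    rw [LinearMap.mem_ker, map_sub]
    have : f (s (f x)) = f x := by
      have := LinearMap.congr_fun hs (f x)
      simpa using this
    rw [this, sub_self]
  have hle : LinearMap.ker f ≤ 𝔪 • LinearMap.ker f := by
    intro x hx
    have hx0 : f x = 0 := hx
    have hsum : x = ∑ a, x a • (Pi.single a (1 : R) : Fin n → R) := by
      funext a'
      simp [Finset.sum_apply, Pi.single_apply]
    have hx' : x = ∑ a, x a • ((Pi.single a (1 : R) : Fin n → R) - s (f (Pi.single a 1))) := by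
      have h2 : x = x - s (f x) := by rw [hx0, map_zero, sub_zero]
      conv_lhs => rw [h2]
      conv_lhs => rw [hsum]
      simp only [map_sum, map_smul, smul_sub, Finset.sum_sub_distrib]
    rw [hx']
    refine Submodule.sum_mem _ fun a _ => ?_
    exact Submodule.smul_mem_smul (hker x hx a) (hρ _)
  have hfg : (LinearMap.ker f).FG := by
    -- kernel of a surjection onto a projective module is a direct summand, hence finitely generated
    have hsurj : Function.Surjective (fun x : Fin n → R => (⟨x - s (f x), hρ x⟩ : ↥(LinearMap.ker f))) := by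
      intro y
      refine ⟨y.1, ?_⟩
      apply Subtype.ext
      have : f y.1 = 0 := y.2
      simp [this]
    let ρ : (Fin n → R) →ₗ[R] ↥(LinearMap.ker f) :=
      { toFun := fun x => ⟨x - s (f x), hρ x⟩
        map_add' := fun x y => by apply Subtype.ext; simp; abel
        map_smul' := fun c x => by apply Subtype.ext; simp [smul_sub] }
    have : Module.Finite R ↥(LinearMap.ker f) := Module.Finite.of_surjective ρ hsurj
    exact Module.Finite.iff_fg.1 this
  obtain ⟨r, hr, hr0⟩ := Submodule.exists_sub_one_mem_and_smul_eq_zero_of_fg_of_le_smul 𝔪 _ hfg hle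
  have hrne : r ≠ 0 := by
    intro h0
    apply h1
    rw [h0, zero_sub] at hr
    have := 𝔪.neg_mem hr
    simpa using this
  rw [eq_bot_iff]
  intro x hx
  have := hr0 x hx
  rw [Submodule.mem_bot]
  funext a
  have ha := congrFun this a
  simp only [Pi.smul_apply, smul_eq_mul, Pi.zero_apply, mul_eq_zero] at ha
  exact ha.resolve_left hrne

end Nak

section Res

variable {R : Type u} [CommRing R] {σ' : Type u} [SetLike σ' R]
variable {𝒜 : ℤ → σ'}
variable {M : Type u} [AddCommGroup M] [Module R M] {τ : Type u} [SetLike τ M] [AddSubgroupClass τ M]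
  {ℳ : ℤ → τ} [DirectSum.Decomposition ℳ] [SetLike.GradedSMul 𝒜 ℳ]

/-- cycles of the resolution: `Zc 0 = ker aug`, `Zc (i+1) = ker (d i)`. -/
def Zc (F : FreeRes 𝒜 ℳ) : (i : ℕ) → Submodule R (Fin (F.rk i) → R)
  | 0 => LinearMap.ker F.augLin
  | i + 1 => LinearMap.ker (F.dLin i)

theorem Zc_eq_range (F : FreeRes 𝒜 ℳ) (i : ℕ) : Zc F i = LinearMap.range (F.dLin i) := by
  cases i with
  | zero => exact F.exact_zero
  | succ i => exact F.exact_succ i

/-- the differential, corestricted to the cycles. -/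
def dCo (F : FreeRes 𝒜 ℳ) (i : ℕ) : (Fin (F.rk (i + 1)) → R) →ₗ[R] ↥(Zc F i) :=
  (F.dLin i).codRestrict (Zc F i) (fun w => by rw [Zc_eq_range]; exact ⟨w, rfl⟩)

theorem dCo_surjective (F : FreeRes 𝒜 ℳ) (i : ℕ) : Function.Surjective (dCo F i) := by
  rintro ⟨z, hz⟩
  rw [Zc_eq_range] at hz
  obtain ⟨w, hw⟩ := hz
  exact ⟨w, Subtype.ext hw⟩

theorem ker_dCo (F : FreeRes 𝒜 ℳ) (i : ℕ) : Zc F (i + 1) = LinearMap.ker (dCo F i) := by
  rw [dCo, LinearMap.ker_codRestrict]
  rfl

theorem Zc_eq_bot_of_rk (F : FreeRes 𝒜 ℳ) (i : ℕ) (h : F.rk (i + 1) = 0) : Zc F i = ⊥ := by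
  rw [Zc_eq_range, eq_bot_iff]
  rintro _ ⟨w, rfl⟩
  have hemp : IsEmpty (Fin (F.rk (i + 1))) := by rw [h]; infer_instance
  have : w = 0 := Subsingleton.elim _ _
  rw [this, map_zero]
  exact zero_mem _

/-- a finite free resolution of length `≤ n` bounds the projective dimension. -/
theorem hasPDLE_of_hasLengthLE (F : FreeRes 𝒜 ℳ) (n : ℕ) (hF : F.HasLengthLE n) :
    HasProjectiveDimensionLE (ModuleCat.of R M) n := by
  have hbot : HasProjectiveDimensionLT (ModuleCat.of R ↥(Zc F n)) 0 := by
    rw [Zc_eq_bot_of_rk F n (hF (n + 1) (Nat.lt_succ_self n))]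
    apply Limits.IsZero.hasProjectiveDimensionLT_zero
    exact ModuleCat.isZero_of_subsingleton _
  have hstep : ∀ j i, i + j = n → HasProjectiveDimensionLT (ModuleCat.of R ↥(Zc F i)) j := by
    intro j
    induction j with
    | zero => intro i hi; rw [add_zero] at hi; subst hi; exact hbot
    | succ j ih =>
      intro i hi
      have := ih (i + 1) (by omega)
      exact hasPDLT_succ_of_ker (dCo F i) (dCo_surjective F i) (Zc F (i + 1)) (ker_dCo F i) j this
  have h0 := hstep n 0 (by omega)
  exact hasPDLT_succ_of_ker F.augLin F.aug_surjective (Zc F 0) rfl n h0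


/-- descending dimension shift along the syzygies. -/
theorem hasPDLT_Zc (F : FreeRes 𝒜 ℳ) (n : ℕ)
    (h : HasProjectiveDimensionLT (ModuleCat.of R M) (n + 2)) :
    ∀ j, j ≤ n → HasProjectiveDimensionLT (ModuleCat.of R ↥(Zc F j)) (n - j + 1) := by
  intro j
  induction j with
  | zero =>
    intro _
    exact (hasPDLT_iff_ker F.augLin F.aug_surjective (Zc F 0) rfl n).1 h
  | succ j ih =>
    intro hj
    have h1 := ih (by omega)
    have h2 : n - j + 1 = (n - (j + 1)) + 2 := by omega
    rw [h2] at h1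
    exact (hasPDLT_iff_ker (dCo F j) (dCo_surjective F j) (Zc F (j + 1)) (ker_dCo F j) _).1 h1

variable [IsDomain R]

omit [IsDomain R] in
theorem rk_succ_eq_zero_of_Zc_eq_bot (F : FreeRes 𝒜 ℳ) {𝔪 : Ideal R} (h𝔪 : (1 : R) ∉ 𝔪)
    (hmin : F.IsMinimal 𝔪) (n : ℕ) (h : Zc F n = ⊥) : F.rk (n + 1) = 0 := by
  by_contra hne
  have hpos : 0 < F.rk (n + 1) := Nat.pos_of_ne_zero hne
  let b : Fin (F.rk (n + 1)) := ⟨0, hpos⟩
  refine Groth.Agent.Lib.Helper77.freeRes_not_mem_ker_of_coord_eq_one F h𝔪 hmin n (Pi.single b 1) b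
    (by simp) ?_
  rw [LinearMap.mem_ker]
  have : F.dLin n (Pi.single b 1) ∈ Zc F n := by
    rw [Zc_eq_range]; exact ⟨_, rfl⟩
  rw [h] at this
  exact this

omit [IsDomain R] in
theorem rk_succ_eq_zero_of_rk (F : FreeRes 𝒜 ℳ) {𝔪 : Ideal R} (h𝔪 : (1 : R) ∉ 𝔪)
    (hmin : F.IsMinimal 𝔪) (i : ℕ) (h : F.rk (i + 1) = 0) : F.rk (i + 2) = 0 := by
  by_contra hne
  have hpos : 0 < F.rk (i + 2) := Nat.pos_of_ne_zero hne
  let b : Fin (F.rk (i + 1 + 1)) := ⟨0, hpos⟩
  refine Groth.Agent.Lib.Helper77.freeRes_not_mem_ker_of_coord_eq_one F h𝔪 hmin (i + 1) (Pi.single b 1) b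
    (by simp) ?_
  rw [LinearMap.mem_ker]
  have hemp : IsEmpty (Fin (F.rk (i + 1))) := by rw [h]; infer_instance
  exact Subsingleton.elim _ _

/-- for a minimal resolution, the projective dimension bounds the length. -/
theorem hasLengthLE_of_hasPDLE (F : FreeRes 𝒜 ℳ) {𝔪 : Ideal R} (h𝔪 : (1 : R) ∉ 𝔪)
    (hmin : F.IsMinimal 𝔪) (n : ℕ) (h : HasProjectiveDimensionLE (ModuleCat.of R M) n) :
    F.HasLengthLE n := by
  have hmem : ∀ i (w : Fin (F.rk (i + 1)) → R) (a : Fin (F.rk i)), (F.dLin i w) a ∈ 𝔪 := fun i w a =>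
    Groth.Agent.Lib.Helper77.mulVec_mem_of_entries_mem _ _ (fun a c => hmin i a c) w a
  -- the first vanishing
  have hfirst : F.rk (n + 1) = 0 := by
    apply rk_succ_eq_zero_of_Zc_eq_bot F h𝔪 hmin n
    cases n with
    | zero =>
      have hproj : Projective (ModuleCat.of R M) :=
        projective_iff_hasProjectiveDimensionLT_one.2 h
      have _ : Module.Projective R M := (IsProjective.iff_projective M).2 hproj
      have hk := ker_eq_bot_of_le_smul 𝔪 h𝔪 F.augLin F.aug_surjective (fun x hx a => by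
        have hx' : x ∈ Zc F 0 := hx
        rw [Zc_eq_range] at hx'
        obtain ⟨w, rfl⟩ := hx'
        exact hmem 0 w a)
      exact hk
    | succ m =>
      have h1 := hasPDLT_Zc F m h m le_rfl
      rw [Nat.sub_self, zero_add] at h1
      have hproj : Projective (ModuleCat.of R ↥(Zc F m)) :=
        projective_iff_hasProjectiveDimensionLT_one.2 h1
      have _ : Module.Projective R ↥(Zc F m) := (IsProjective.iff_projective _).2 hproj
      have hk := ker_eq_bot_of_le_smul 𝔪 h𝔪 (dCo F m) (dCo_surjective F m) (fun x hx a => by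
        have hx' : x ∈ Zc F (m + 1) := by rw [ker_dCo]; exact hx
        rw [Zc_eq_range] at hx'
        obtain ⟨w, rfl⟩ := hx'
        exact hmem (m + 1) w a)
      rw [ker_dCo]
      exact hk
  intro i hi
  obtain ⟨j, rfl⟩ : ∃ j, i = n + 1 + j := ⟨i - (n + 1), by omega⟩
  clear hi
  induction j with
  | zero => exact hfirst
  | succ j ih =>
    have h2 : n + 1 + (j + 1) = (n + j) + 2 := by omega
    have h3 : n + 1 + j = (n + j) + 1 := by omega
    rw [h2]
    rw [h3] at ih
    exact rk_succ_eq_zero_of_rk F h𝔪 hmin (n + j) ih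

end Res
end Groth.Agent.Lib.Helper77.GrPD
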