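import Mathlib
import Groth.Prelude.Def_GrLC
import Groth.Prelude.Def_GrSyz
import Groth.Agent.Lib.Helper77.GLC6
import Groth.Agent.Lib.Helper77.GrStrand
import Groth.Agent.Lib.Helper77.GrPD
import Groth.Agent.Lib.Helper77.GrTor
import Groth.Agent.Lib.Helper77.TorVanish

/-!
GLC7 (helper77): the syzygy modules of a graded free resolution over the polynomial ring as
graded modules, the short exact sequences relating them, and the two halves of the
Eisenbud–Goto comparison between generator degrees of a minimal resolution and the degrees of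
graded local cohomology.
-/

set_option autoImplicit false
set_option linter.unusedSectionVars false
universe u

namespace Groth.Agent.Lib.Helper77.GLC

open GrLC DirectSum GrSyz MvPolynomial

variable (k : Type u) [Field k] (r : ℕ)
  {M : Type u} [AddCommGroup M] [Module k M] [Module (MvPolynomial (Fin (r + 1)) k) M]
  [IsScalarTower k (MvPolynomial (Fin (r + 1)) k) M]
  {ℳ : ℤ → Submodule k M} [Decomposition ℳ] [SetLike.GradedSMul (stdGr k (Fin (r + 1))) ℳ]
  (F : FreeRes (stdGr k (Fin (r + 1))) ℳ)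

/-- the pieces of the `i`-th free module of the resolution -/
noncomputable abbrev Fp (i : ℕ) : ℤ → AddSubgroup (Fin (F.rk i) → MvPolynomial (Fin (r + 1)) k) :=
  fgr (sg k (r + 1)) (F.deg i)

theorem mem_Fp_iff (i : ℕ) (g : ℤ) (v : Fin (F.rk i) → MvPolynomial (Fin (r + 1)) k) :
    v ∈ Fp k r F i g ↔ v ∈ GrStrand.strand F i g := by
  rw [GrStrand.mem_strand]
  exact Iff.rfl

theorem dLin_gr (i : ℕ) : IsGrHom (Fp k r F (i + 1)) (Fp k r F i) (F.dLin i) := by
  intro g v hv
  rw [mem_Fp_iff] at hv ⊢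
  exact GrStrand.dLin_mem_strand F hv

theorem augLin_gr : IsGrHom (Fp k r F 0) (flat ℳ) F.augLin := by
  intro g v hv
  rw [mem_Fp_iff] at hv
  exact GrStrand.augLin_mem F hv

theorem Zc_hom (i : ℕ) : (GrPD.Zc F i).IsHomogeneous (Fp k r F i) := by
  cases i with
  | zero => exact Helper66.Graded.ker_isHomogeneous (Fp k r F 0) (flat ℳ) F.augLin (augLin_gr k r F)
  | succ i =>
    exact Helper66.Graded.ker_isHomogeneous (Fp k r F (i + 1)) (Fp k r F i) (F.dLin i)
      (dLin_gr k r F i)

/-- the pieces of the `i`-th syzygy module -/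
noncomputable abbrev Zp (i : ℕ) : ℤ → AddSubgroup ↥(GrPD.Zc F i) :=
  Helper66.GradedSub.spiece (Fp k r F i) (GrPD.Zc F i)

noncomputable instance ZpDec (i : ℕ) : Decomposition (Zp k r F i) :=
  Helper66.GradedSub.subDecomposition (Fp k r F i) (GrPD.Zc F i) (Zc_hom k r F i)

instance ZpSMul (i : ℕ) : SetLike.GradedSMul (sg k (r + 1)) (Zp k r F i) :=
  Helper66.GradedSub.subGradedSMul (sg k (r + 1)) (Fp k r F i) (GrPD.Zc F i)

theorem gses_syz (i : ℕ) :
    GSES (Zp k r F (i + 1)) (Fp k r F (i + 1)) (Zp k r F i) (GrPD.Zc F (i + 1)).subtype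
      (GrPD.dCo F i) where
  f_gr := fun _ _ hx => hx
  p_gr := fun g v hv => dLin_gr k r F i g v hv
  f_inj := Subtype.val_injective
  p_surj := GrPD.dCo_surjective F i
  exact := by rw [← GrPD.ker_dCo, Submodule.range_subtype]

theorem gses_aug :
    GSES (Zp k r F 0) (Fp k r F 0) (flat ℳ) (GrPD.Zc F 0).subtype F.augLin where
  f_gr := fun _ _ hx => hx
  p_gr := augLin_gr k r F
  f_inj := Subtype.val_injective
  p_surj := F.aug_surjective
  exact := by rw [Submodule.range_subtype]; rfl

/-- Hilbert's syzygy theorem for a minimal resolution -/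
theorem rk_eq_zero_of_minimal [Module.Finite (MvPolynomial (Fin (r + 1)) k) M]
    (hF : F.IsMinimal (irrel (stdGr k (Fin (r + 1)))).toIdeal) (i : ℕ) (hi : r + 1 < i) :
    F.rk i = 0 := by
  have := GrTor.irrel_isMaximal k (Fin (r + 1))
  have hlen := GrTor.length_tor F _ hF i
  have hz := TorVanish.isZero_tor_of_eq_ker k (r + 1)
    (irrel (stdGr k (Fin (r + 1)))).toIdeal
    (GrTor.irrel_eq_ker_constantCoeff k (Fin (r + 1)))
    (ModuleCat.of _ M) i hi
  have hsub := ModuleCat.subsingleton_of_isZero hz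
  rw [Module.length_eq_zero] at hlen
  exact_mod_cast hlen.symm

section forward

variable [Module.Finite (MvPolynomial (Fin (r + 1)) k) M]
  (hF : F.IsMinimal (irrel (stdGr k (Fin (r + 1)))).toIdeal) (d : ℤ) (hd : F.IsGenLE d)

include hF hd

theorem HV_Fp (j : ℕ) (E : StarInjRes (sg k (r + 1)) (Fp k r F j)) (i : ℕ) (g : ℤ)
    (hg : d + j - i < g) : HV E (am k (r + 1)).toIdeal i g := by
  apply HV_free_poly
  intro b
  by_cases hi : i = r + 1
  · right
    have := hd j b
    subst hi
    push_cast at hg ⊢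
    omega
  · exact Or.inl hi

theorem HV_Zp : ∀ (t j : ℕ), r + 1 ≤ j + t → ∀ (E : StarInjRes (sg k (r + 1)) (Zp k r F j)) (i : ℕ)
    (g : ℤ), d + (j + 1) - i < g → HV E (am k (r + 1)).toIdeal i g := by
  intro t
  induction t with
  | zero =>
    intro j hj E i g _
    have hrk : F.rk (j + 1) = 0 := rk_eq_zero_of_minimal k r F hF (j + 1) (by omega)
    have hbot := GrPD.Zc_eq_bot_of_rk F j hrk
    have : Subsingleton ↥(GrPD.Zc F j) := by
      rw [hbot]; infer_instance
    exact HV_of_subsingleton E (am k (r + 1)) i g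
  | succ t ih =>
    intro j hj E i g hg
    obtain ⟨EZ⟩ := exists_res (𝒜 := sg k (r + 1)) _ (Zp k r F (j + 1))
    obtain ⟨EF⟩ := exists_res (𝒜 := sg k (r + 1)) _ (Fp k r F (j + 1))
    refine HV_right (gses_syz k r F j) EZ EF E ?_ ?_
    · apply HV_Fp k r F hF d hd
      push_cast
      omega
    · apply ih (j + 1) (by omega)
      push_cast
      omega

theorem HV_of_isGenLE (E : StarInjRes (sg k (r + 1)) (flat ℳ)) (i : ℕ) (g : ℤ) (hg : d - i < g) :
    HV E (am k (r + 1)).toIdeal i g := by
  obtain ⟨EZ⟩ := exists_res (𝒜 := sg k (r + 1)) _ (Zp k r F 0)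
  obtain ⟨EF⟩ := exists_res (𝒜 := sg k (r + 1)) _ (Fp k r F 0)
  refine HV_right (gses_aug k r F) EZ EF E ?_ ?_
  · apply HV_Fp k r F hF d hd
    push_cast
    omega
  · apply HV_Zp k r F hF d hd (r + 1) 0 (by omega)
    push_cast
    omega

end forward

section backward

variable [Module.Finite (MvPolynomial (Fin (r + 1)) k) M]
  (hF : F.IsMinimal (irrel (stdGr k (Fin (r + 1)))).toIdeal)

/-- vanishing of the local cohomology of the `l`-th free module in a bidegree -/
theorem HV_Fp' (l : ℕ) (E : StarInjRes (sg k (r + 1)) (Fp k r F l)) (i : ℕ) (g : ℤ)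
    (h : i ≠ r + 1 ∨ ∀ c, F.deg l c < g + (r + 1)) : HV E (am k (r + 1)).toIdeal i g := by
  apply HV_free_poly
  intro c
  rcases h with h | h
  · exact Or.inl h
  · right
    have := h c
    push_cast
    omega

/-- a zero row of the differential gives a vanishing coordinate on the range -/
theorem coord_eq_zero_of_row (j : ℕ) (b : Fin (F.rk j)) (hrow : ∀ c, F.d j b c = 0)
    (v : Fin (F.rk j) → MvPolynomial (Fin (r + 1)) k) (hv : v ∈ LinearMap.range (F.dLin j)) :
    v b = 0 := by
  obtain ⟨u, rfl⟩ := hv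
  change (F.d j).mulVec u b = 0
  rw [Matrix.mulVec, dotProduct]
  exact Finset.sum_eq_zero (fun c _ => by rw [hrow c, zero_mul])

include hF

theorem isGenLE_of_HV (d : ℤ) (E : StarInjRes (sg k (r + 1)) (flat ℳ))
    (h : ∀ (i : ℕ) (g : ℤ), d - i < g → HV E (am k (r + 1)).toIdeal i g) : F.IsGenLE d := by
  classical
  by_contra hne
  unfold FreeRes.IsGenLE at hne
  push Not at hne
  obtain ⟨j0, b0, hjb0⟩ := hne
  have hrk : ∀ j, r + 1 < j → F.rk j = 0 := rk_eq_zero_of_minimal k r F hF
  have hlt : ∀ j, Fin (F.rk j) → j < r + 2 := by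
    intro j b
    by_contra hj
    have := hrk j (by omega)
    have hb := b.2
    omega
  let T := Σ j : Fin (r + 2), Fin (F.rk j)
  let val : T → ℤ := fun t => F.deg t.1 t.2 - (t.1 : ℕ)
  let t0 : T := ⟨⟨j0, hlt j0 b0⟩, b0⟩
  obtain ⟨t1, -, ht1⟩ := Finset.exists_max_image (Finset.univ : Finset T) val ⟨t0, Finset.mem_univ _⟩
  let S' := (Finset.univ : Finset T).filter (fun t => val t = val t1)
  obtain ⟨t2, ht2m, ht2⟩ := Finset.exists_max_image S' (fun t => ((t.1 : ℕ)))
    ⟨t1, Finset.mem_filter.2 ⟨Finset.mem_univ _, rfl⟩⟩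
  have ht2v : val t2 = val t1 := (Finset.mem_filter.1 ht2m).2
  obtain ⟨⟨j, hj⟩, b⟩ := t2
  set m₀ : ℤ := val t1 with hm₀
  have hjb : F.deg j b - j = m₀ := ht2v
  have hα : ∀ j' (b' : Fin (F.rk j')), F.deg j' b' - j' ≤ m₀ := by
    intro j' b'
    exact ht1 ⟨⟨j', hlt j' b'⟩, b'⟩ (Finset.mem_univ _)
  have hβ : ∀ b' : Fin (F.rk (j + 1)), F.deg (j + 1) b' ≤ m₀ + j := by
    intro b'
    have h1 := hα (j + 1) b'
    by_contra hcon
    have h2 : F.deg (j + 1) b' - ((j + 1 : ℕ) : ℤ) = m₀ := by push_cast at h1 ⊢; omega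
    have h3 := ht2 ⟨⟨j + 1, hlt (j + 1) b'⟩, b'⟩ (Finset.mem_filter.2 ⟨Finset.mem_univ _, h2⟩)
    simp only at h3
    omega
  have hm₀d : d < m₀ := by
    have := hα j0 b0
    omega
  -- the row of `b` vanishes
  have hrow : ∀ c, F.d j b c = 0 := by
    intro c
    refine eq_zero_of_mem_stdGr_of_mem_irrel k (Fin (r + 1)) ?_ (F.d_mem j b c) (hF j b c)
    have := hβ c
    omega
  set g : ℤ := m₀ + j - (r + 1) with hg
  -- the local cohomology of `S(-deg b)` does not vanish in bidegree `(r+1, g)`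
  have hnot : ∀ ES : StarInjRes (sg k (r + 1))
      (Helper66.GradedShift.shiftGMod (sg k (r + 1)) (sg k (r + 1)) (-F.deg j b)).gr,
      ¬ HV ES (am k (r + 1)).toIdeal (r + 1) g := by
    intro ES
    apply not_HV_shift_poly
    push_cast
    omega
  obtain ⟨ES⟩ := exists_res (𝒜 := sg k (r + 1)) _
    (Helper66.GradedShift.shiftGMod (sg k (r + 1)) (sg k (r + 1)) (-F.deg j b)).gr
  obtain ⟨s, hs⟩ : ∃ s : ℕ, r + 1 = j + s := ⟨r + 1 - j, by omega⟩
  have hfin : HV E (am k (r + 1)).toIdeal s g := by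
    apply h
    have : ((r + 1 : ℕ) : ℤ) = j + s := by exact_mod_cast hs
    push_cast at this
    omega
  cases j with
  | zero =>
    apply hnot ES
    have hs' : s = r + 1 := by omega
    rw [hs'] at hfin
    refine HV_shift_of_cover (F.deg 0) F.augLin (augLin_gr k r F) F.aug_surjective b ?_ E ES hfin
    intro v hv
    rw [F.exact_zero] at hv
    exact coord_eq_zero_of_row k r F 0 b hrow v hv
  | succ j' =>
    -- descent along the syzygies
    have hdesc : ∀ (u l : ℕ), l + u = j' → ∀ EZ : StarInjRes (sg k (r + 1)) (Zp k r F l),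
        ¬ HV EZ (am k (r + 1)).toIdeal (s + l + 1) g := by
      intro u
      induction u with
      | zero =>
        intro l hl EZ hEZ
        have : l = j' := by omega
        subst this
        apply hnot ES
        have hdeg : s + l + 1 = r + 1 := by omega
        rw [hdeg] at hEZ
        refine HV_shift_of_cover (F.deg (l + 1)) (GrPD.dCo F l)
          (fun g v hv => dLin_gr k r F l g v hv) (GrPD.dCo_surjective F l) b ?_ EZ ES hEZ
        intro v hv
        rw [← GrPD.ker_dCo, GrPD.Zc_eq_range] at hv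
        exact coord_eq_zero_of_row k r F (l + 1) b hrow v hv
      | succ u ih =>
        intro l hl EZ hEZ
        obtain ⟨EZ'⟩ := exists_res (𝒜 := sg k (r + 1)) _ (Zp k r F (l + 1))
        obtain ⟨EF⟩ := exists_res (𝒜 := sg k (r + 1)) _ (Fp k r F (l + 1))
        apply ih (l + 1) (by omega) EZ'
        have hF' : HV EF (am k (r + 1)).toIdeal (s + l + 1 + 1) g := by
          apply HV_Fp' k r F (l + 1) EF
          by_cases hl' : l + 1 = j'
          · right
            intro c
            have := hα (l + 1) c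
            have h1 : ((l + 1 : ℕ) : ℤ) = j' := by exact_mod_cast hl'
            push_cast at this h1 hg ⊢
            omega
          · left
            omega
        have := HV_left (gses_syz k r F l) EZ' EF EZ hEZ hF'
        exact this
    obtain ⟨EZ0⟩ := exists_res (𝒜 := sg k (r + 1)) _ (Zp k r F 0)
    obtain ⟨EF0⟩ := exists_res (𝒜 := sg k (r + 1)) _ (Fp k r F 0)
    apply hdesc j' 0 (by omega) EZ0
    have hF0 : HV EF0 (am k (r + 1)).toIdeal (s + 1) g := by
      apply HV_Fp' k r F 0 EF0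
      by_cases hj' : j' = 0
      · right
        intro c
        have := hα 0 c
        push_cast at this hg ⊢
        subst hj'
        push_cast at hg ⊢
        omega
      · left
        omega
    exact HV_left (gses_aug k r F) EZ0 EF0 E hfin hF0

end backward

end Groth.Agent.Lib.Helper77.GLC
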