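import Groth.Agent.Lib.Helper77.GrSyzBasic

set_option autoImplicit false
universe u v

open GrSyz MvPolynomial

namespace Groth.Agent.Lib.Helper77

/-- If `x ∈ span (g '' {b' | b' ≠ b})` then there is a coefficient vector `c` with `c b = 1`
and `∑ c b' • g b' = 0`. -/
theorem exists_relation_of_mem_span {R N : Type*} [CommRing R] [AddCommGroup N] [Module R N] {n : ℕ}
    (g : Fin n → N) (b : Fin n) (h : g b ∈ Submodule.span R (g '' {b' | b' ≠ b})) :
    ∃ c : Fin n → R, c b = 1 ∧ Fintype.linearCombination R g c = 0 := by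
  rw [Finsupp.mem_span_image_iff_linearCombination] at h
  obtain ⟨l, hl, hlb⟩ := h
  have hlb0 : l b = 0 := by
    by_contra hne
    have := hl (Finsupp.mem_support_iff.mpr hne)
    exact this rfl
  refine ⟨fun b' => (Pi.single b (1 : R) : Fin n → R) b' - l b', by simp [hlb0], ?_⟩
  rw [Fintype.linearCombination_apply]
  simp only [sub_smul, Finset.sum_sub_distrib]
  rw [Finsupp.linearCombination_apply, Finsupp.sum_fintype _ _ (by simp)] at hlb
  rw [hlb]
  simp [Pi.single_apply]

/-- If `∑ c a' • g a' = 0` with `c a` a unit, then `g a` lies in the span of the other `g a'`. -/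
theorem mem_span_of_relation_of_isUnit {R N : Type*} [CommRing R] [AddCommGroup N] [Module R N] {n : ℕ}
    (g : Fin n → N) (c : Fin n → R) (a : Fin n) (hc : IsUnit (c a))
    (h : Fintype.linearCombination R g c = 0) :
    g a ∈ Submodule.span R (g '' {a' | a' ≠ a}) := by
  obtain ⟨u, hu⟩ := hc
  rw [Fintype.linearCombination_apply, ← Finset.add_sum_erase _ _ (Finset.mem_univ a)] at h
  have h2 : g a = (↑u⁻¹ : R) • (-(∑ x ∈ Finset.univ.erase a, c x • g x)) := by
    rw [← eq_neg_iff_add_eq_zero.mpr h, ← hu, smul_smul, Units.inv_mul, one_smul]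
  rw [h2]
  refine Submodule.smul_mem _ _ (Submodule.neg_mem _ (Submodule.sum_mem _ fun x hx => ?_))
  refine Submodule.smul_mem _ _ (Submodule.subset_span ⟨x, ?_, rfl⟩)
  exact Finset.ne_of_mem_erase hx

variable (k : Type u) [Field k] (σ : Type v)

/-- A homogeneous polynomial (standard ℤ-grading) which is not in the irrelevant ideal is a unit. -/
theorem isUnit_of_mem_stdGr_of_notMem_irrel {n : ℤ} {p : MvPolynomial σ k}
    (hp : p ∈ stdGr k σ n) (hp' : p ∉ (irrel (stdGr k σ)).toIdeal) : IsUnit p := by
  have hn : n ≤ 0 := by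
    by_contra hn
    exact hp' (mem_irrel_of_mem_stdGr k σ (by omega) hp)
  have hp0 : p ≠ 0 := fun h => hp' (h ▸ Ideal.zero_mem _)
  -- p = C (constantCoeff p)
  have hpC : p = C (constantCoeff p) := by
    classical
    ext d
    rw [coeff_C]
    split_ifs with hd
    · subst hd; rfl
    · by_contra hne
      rw [mem_stdGr_iff] at hp
      have hw := hp hne
      have h0 := weight_one_nonneg σ d
      have hn0 : n = 0 := by omega
      rw [hn0, weight_one_eq_zero_iff] at hw
      exact hd hw.symm
  rw [hpC]
  have : constantCoeff p ≠ 0 := by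
    intro h0
    rw [h0, map_zero] at hpC
    exact hp0 hpC
  exact (isUnit_iff_ne_zero.mpr this).map C

end Groth.Agent.Lib.Helper77
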