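import Mathlib
import Groth.Prelude.Def_GrLC
import Groth.Prelude.Def_GrSyz
import Groth.Agent.Lib.Helper77.GLC7
import Groth.Agent.Lib.Helper77.GLC8
import Groth.Agent.Lib.Helper99.GrDual
import Groth.Agent.S15416

/-!
GLC9 (helper77): Castelnuovo–Mumford regularity (syzygy sense) over the polynomial ring in terms of
graded local cohomology: `reg M ≤ d ↔ RegHV`, order lemmas in `WithBot (WithTop ℤ)`, and the
`𝔪`-torsion of Artinian graded modules.
-/

set_option autoImplicit false
set_option linter.unusedSectionVars false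
universe u

namespace Groth.Agent.Lib.Helper77.GLC

open GrLC DirectSum GrSyz MvPolynomial

section order

/-- an element of `WithBot (WithTop ℤ)` below all integers is `⊥` -/
theorem eq_bot_of_forall_le_coe {a : WithBot (WithTop ℤ)}
    (h : ∀ d : ℤ, a ≤ ((d : WithTop ℤ) : WithBot (WithTop ℤ))) : a = ⊥ := by
  induction a using WithBot.recBotCoe with
  | bot => rfl
  | coe a =>
    induction a using WithTop.recTopCoe with
    | top =>
      have := h 0
      rw [WithBot.coe_le_coe] at this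
      simp at this
    | coe n =>
      have := h (n - 1)
      norm_cast at this
      omega

theorem le_of_forall_coe {a b : WithBot (WithTop ℤ)}
    (h : ∀ d : ℤ, b ≤ ((d : WithTop ℤ) : WithBot (WithTop ℤ)) →
      a ≤ ((d : WithTop ℤ) : WithBot (WithTop ℤ))) : a ≤ b := by
  induction b using WithBot.recBotCoe with
  | bot =>
    have : a = ⊥ := eq_bot_of_forall_le_coe (fun d => h d bot_le)
    rw [this]
  | coe b =>
    induction b using WithTop.recTopCoe with
    | top =>
      have : ((⊤ : WithTop ℤ) : WithBot (WithTop ℤ)) = ⊤ := rfl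
      rw [this]
      exact le_top
    | coe n => exact h n le_rfl

theorem eq_of_forall_le_coe_iff {a b : WithBot (WithTop ℤ)}
    (h : ∀ d : ℤ, a ≤ ((d : WithTop ℤ) : WithBot (WithTop ℤ)) ↔
      b ≤ ((d : WithTop ℤ) : WithBot (WithTop ℤ))) : a = b :=
  le_antisymm (le_of_forall_coe fun d hd => (h d).2 hd) (le_of_forall_coe fun d hd => (h d).1 hd)

/-- the infimum of an upward closed set of integers is `≤ d` iff `d` is in the set -/
theorem iInf_le_coe_iff (P : ℤ → Prop) (hP : ∀ r r', r ≤ r' → P r → P r') (d : ℤ) :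
    (⨅ (r : ℤ) (_ : P r), ((r : WithTop ℤ) : WithBot (WithTop ℤ))) ≤
      ((d : WithTop ℤ) : WithBot (WithTop ℤ)) ↔ P d := by
  constructor
  · intro h
    by_contra hPd
    have h1 : (((d + 1 : ℤ) : WithTop ℤ) : WithBot (WithTop ℤ)) ≤
        ⨅ (r : ℤ) (_ : P r), ((r : WithTop ℤ) : WithBot (WithTop ℤ)) := by
      refine le_iInf₂ fun r hr => ?_
      have : d < r := by
        by_contra hle
        exact hPd (hP r d (by omega) hr)
      norm_cast
    have := le_trans h1 h
    norm_cast at this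
    omega
  · intro h
    exact iInf₂_le d h

end order

section reg

variable (k : Type u) [Field k] (r : ℕ)
  {M : Type u} [AddCommGroup M] [Module k M] [Module (MvPolynomial (Fin (r + 1)) k) M]
  [IsScalarTower k (MvPolynomial (Fin (r + 1)) k) M] [Module.Finite (MvPolynomial (Fin (r + 1)) k) M]
  (ℳ : ℤ → Submodule k M) [Decomposition ℳ] [SetLike.GradedSMul (stdGr k (Fin (r + 1))) ℳ]

theorem isRegLE_iff_regHV (E : StarInjRes (sg k (r + 1)) (flat ℳ)) (d : ℤ) :
    IsRegLE (stdGr k (Fin (r + 1))) ℳ (irrel (stdGr k (Fin (r + 1)))).toIdeal d ↔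
      RegHV E (am k (r + 1)).toIdeal d := by
  constructor
  · rintro ⟨F, hF, hd⟩ i g hg
    exact HV_of_isGenLE k r F hF d hd E i g hg
  · intro h
    obtain ⟨F, hF⟩ := Groth.Agent.S15416.result k r M ℳ
    exact ⟨F, hF, isGenLE_of_HV k r F hF d E h⟩

theorem reg_le_iff (E : StarInjRes (sg k (r + 1)) (flat ℳ)) (d : ℤ) :
    reg (stdGr k (Fin (r + 1))) ℳ (irrel (stdGr k (Fin (r + 1)))).toIdeal ≤
      ((d : WithTop ℤ) : WithBot (WithTop ℤ)) ↔ RegHV E (am k (r + 1)).toIdeal d := by
  rw [← isRegLE_iff_regHV]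
  unfold reg
  apply iInf_le_coe_iff
  rintro d₁ d₂ h12 ⟨F, hF, hd⟩
  exact ⟨F, hF, fun i b => le_trans (hd i b) (by omega)⟩

/-- a resolution over the flat grading always exists -/
theorem exists_flat_res : Nonempty (StarInjRes (sg k (r + 1)) (flat ℳ)) :=
  exists_res (𝒜 := sg k (r + 1)) M (flat ℳ)

end reg

section torsion

variable (k : Type u) [Field k] (σ : Type)

theorem stdGr_neg {n : ℤ} (hn : n < 0) : stdGr k σ n = ⊥ := by
  rw [eq_bot_iff]
  intro p hp
  rw [Submodule.mem_bot]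
  rw [mem_stdGr_iff] at hp
  ext d
  rw [coeff_zero]
  by_contra hne
  have := hp hne
  have h2 := Groth.Agent.Lib.Helper77.weight_one_nonneg σ d
  omega

variable {N : Type u} [AddCommGroup N] [Module k N] [Module (MvPolynomial σ k) N]
  [IsScalarTower k (MvPolynomial σ k) N] {τ : Type u} [SetLike τ N] [AddSubgroupClass τ N]
  (𝒩 : ℤ → τ) [Decomposition 𝒩] [SetLike.GradedSMul (stdGr k σ) 𝒩]

open Groth.Agent.Lib.Helper99.GrDual in
theorem irrel_smul_mem_gradedGE {n : ℤ} {b : MvPolynomial σ k}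
    (hb : b ∈ (irrel (stdGr k σ)).toIdeal) {y : N}
    (hy : y ∈ gradedGE (stdGr k σ) (fun _ h => stdGr_neg k σ h) 𝒩 n) :
    b • y ∈ gradedGE (stdGr k σ) (fun _ h => stdGr_neg k σ h) 𝒩 (n + 1) := by
  change b ∈ Ideal.span _ at hb
  induction hb using Submodule.span_induction with
  | mem b hb =>
    obtain ⟨e, he, hbe⟩ := hb
    exact gradedGE_anti _ _ _ (by omega) (smul_mem_gradedGE _ _ _ hbe hy)
  | zero => rw [zero_smul]; exact zero_mem _
  | add b c _ _ hb hc => rw [add_smul]; exact add_mem hb hc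
  | smul c b _ hb =>
    rw [smul_eq_mul, mul_smul]
    exact Submodule.smul_mem _ _ hb

open Groth.Agent.Lib.Helper99.GrDual in
theorem irrel_pow_smul_mem_gradedGE (j : ℕ) : ∀ {n : ℤ} {b : MvPolynomial σ k}
    (_ : b ∈ (irrel (stdGr k σ)).toIdeal ^ j) {y : N}
    (_ : y ∈ gradedGE (stdGr k σ) (fun _ h => stdGr_neg k σ h) 𝒩 n),
    b • y ∈ gradedGE (stdGr k σ) (fun _ h => stdGr_neg k σ h) 𝒩 (n + j) := by
  induction j with
  | zero =>
    intro n b _ y hy
    simp only [Nat.cast_zero, add_zero]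
    exact Submodule.smul_mem _ _ hy
  | succ j ih =>
    intro n b hb y hy
    rw [pow_succ] at hb
    refine Submodule.mul_induction_on hb ?_ ?_
    · intro a ha c hc
      rw [mul_smul]
      have h1 := irrel_smul_mem_gradedGE k σ 𝒩 hc hy
      have h2 := ih ha h1
      have : n + 1 + (j : ℤ) = n + ((j + 1 : ℕ) : ℤ) := by push_cast; ring
      rw [this] at h2
      exact h2
    · intro a c ha hc
      rw [add_smul]; exact add_mem ha hc

include 𝒩 in
open Groth.Agent.Lib.Helper99.GrDual in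
/-- an Artinian graded module over the polynomial ring is `𝔪`-torsion -/
theorem torsion_of_isArtinian [IsArtinian (MvPolynomial σ k) N] (y : N) :
    ∃ n : ℕ, ∀ b ∈ (irrel (stdGr k σ)).toIdeal ^ n, b • y = 0 := by
  obtain ⟨n₁, hn₁⟩ := exists_bddAbove_of_isArtinian (stdGr k σ) (fun _ h => stdGr_neg k σ h) 𝒩
  have hbot := gradedGE_eq_bot (stdGr k σ) (fun _ h => stdGr_neg k σ h) 𝒩 hn₁
  obtain ⟨n, hn⟩ := exists_mem_gradedGE (stdGr k σ) (fun _ h => stdGr_neg k σ h) 𝒩 y
  refine ⟨(n₁ - n).toNat, fun b hb => ?_⟩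
  have h1 := irrel_pow_smul_mem_gradedGE k σ 𝒩 _ hb hn
  have h2 := gradedGE_anti (stdGr k σ) (fun _ h => stdGr_neg k σ h) 𝒩
    (show n₁ ≤ n + ((n₁ - n).toNat : ℤ) by omega) h1
  rw [hbot] at h2
  exact (Submodule.mem_bot _).1 h2

end torsion

end Groth.Agent.Lib.Helper77.GLC
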