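import Mathlib
import Groth.Prelude.Def_GrLC
import Groth.Prelude.Def_GrSyz
import Groth.Agent.Lib.Helper77.GLC9

/-!
GLC10 (helper77): quasi-regular linear forms: if the annihilator of `x` in a graded module over the
polynomial ring has finite length, it is `𝔪`-torsion.
-/

set_option autoImplicit false
set_option linter.unusedSectionVars false
universe u

namespace Groth.Agent.Lib.Helper77.GLC

open GrLC DirectSum GrSyz MvPolynomial

variable (k : Type u) [Field k] (σ : Type)
  {M : Type u} [AddCommGroup M] [Module k M] [Module (MvPolynomial σ k) M]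
  [IsScalarTower k (MvPolynomial σ k) M]
  (ℳ : ℤ → Submodule k M) [Decomposition ℳ] [SetLike.GradedSMul (stdGr k σ) ℳ]

theorem torsionBy_isHomogeneous {e : ℤ} {x : MvPolynomial σ k} (hx : x ∈ stdGr k σ e) :
    (Submodule.torsionBy (MvPolynomial σ k) M x).IsHomogeneous (flat ℳ) := by
  intro g y hy
  rw [Submodule.mem_torsionBy_iff] at hy ⊢
  have hx' : x ∈ flat (stdGr k σ) e := hx
  rw [← Helper66.Graded.decompose_smul_homog (flat (stdGr k σ)) (flat ℳ) hx' y g, hy,
    decompose_zero]
  rfl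

include ℳ in
theorem torsion_of_finiteLength_torsionBy {e : ℤ} {x : MvPolynomial σ k} (hx : x ∈ stdGr k σ e)
    (hq : IsFiniteLength (MvPolynomial σ k) ↥(Submodule.torsionBy (MvPolynomial σ k) M x)) :
    ∀ y : M, x • y = 0 → ∃ n : ℕ, ∀ b ∈ (irrel (stdGr k σ)).toIdeal ^ n, b • y = 0 := by
  classical
  set K := Submodule.torsionBy (MvPolynomial σ k) M x with hKdef
  have hKhom : K.IsHomogeneous (flat ℳ) := torsionBy_isHomogeneous k σ ℳ hx
  let _ : Decomposition (Helper66.GradedSub.spiece (flat ℳ) K) :=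
    Helper66.GradedSub.subDecomposition (flat ℳ) K hKhom
  let _ : SetLike.GradedSMul (stdGr k σ) (Helper66.GradedSub.spiece (flat ℳ) K) :=
    ⟨fun {i j} {a} {y} ha hy =>
      (SetLike.GradedSMul.smul_mem (A := stdGr k σ) (B := ℳ) ha hy : a • (y : M) ∈ ℳ (i + j))⟩
  have hart : IsArtinian (MvPolynomial σ k) ↥K :=
    (isFiniteLength_iff_isNoetherian_isArtinian.1 hq).2
  intro y hy
  have hyK : y ∈ K := (Submodule.mem_torsionBy_iff _ _).2 hy
  obtain ⟨n, hn⟩ := torsion_of_isArtinian k σ (Helper66.GradedSub.spiece (flat ℳ) K)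
    (⟨y, hyK⟩ : ↥K)
  refine ⟨n, fun b hb => ?_⟩
  have := hn b hb
  exact congrArg Subtype.val this

end Groth.Agent.Lib.Helper77.GLC
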