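import Mathlib
import Groth.Prelude.Def_GrLC
import Groth.Agent.Lib.Helper77.GLC8

/-!
GLC12 (helper77): graded Koszul-type complexes built by iterated mapping cones, with contracting
homotopies for multiplication by the elements of the sequence.
-/

set_option autoImplicit false
set_option linter.unusedSectionVars false
universe u

namespace Groth.Agent.Lib.Helper77.GLC

open GrLC DirectSum

variable {R : Type u} [CommRing R] {𝒜 : ℤ → AddSubgroup R} [GradedRing 𝒜]

/-- a chain complex of graded modules indexed by `ℤ`, with `d q : X q → X (q - 1)` -/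
structure Kz (𝒜 : ℤ → AddSubgroup R) [GradedRing 𝒜] where
  X : ℤ → GMod.{u} 𝒜
  d : ∀ q, (X q).carrier →ₗ[R] (X (q - 1)).carrier
  d_gr : ∀ q, IsGrHom (X q).gr (X (q - 1)).gr (d q)
  d_d : ∀ q z, d (q - 1) (d q z) = 0

namespace Kz

/-- a contracting homotopy for multiplication by `x` -/
structure Htpy (C : Kz 𝒜) (x : R) where
  s : ∀ q, (C.X (q - 1)).carrier →ₗ[R] (C.X q).carrier
  hs : ∀ q z, C.d q (s q z) + s (q - 1) (C.d (q - 1) z) = x • z

variable (C : Kz 𝒜)

/-- homotopies add -/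
def Htpy.add {x y : R} (H : C.Htpy x) (H' : C.Htpy y) : C.Htpy (x + y) where
  s q := H.s q + H'.s q
  hs q z := by
    rw [LinearMap.add_apply, LinearMap.add_apply, map_add, add_smul, ← H.hs q z, ← H'.hs q z]
    abel

/-- homotopies can be scaled -/
def Htpy.smul {x : R} (c : R) (H : C.Htpy x) : C.Htpy (c * x) where
  s q := c • H.s q
  hs q z := by
    rw [LinearMap.smul_apply, LinearMap.smul_apply, map_smul, ← smul_add, H.hs q z, mul_smul]

/-- the zero homotopy -/
def Htpy.zero : C.Htpy 0 where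
  s q := 0
  hs q z := by simp

/-- the set of elements admitting a contracting homotopy contains the ideal generated by any of
its subsets -/
theorem nonempty_htpy_of_mem_span {S : Set R} (hS : ∀ x ∈ S, Nonempty (C.Htpy x)) {r : R}
    (hr : r ∈ Ideal.span S) : Nonempty (C.Htpy r) := by
  induction hr using Submodule.span_induction with
  | mem x hx => exact hS x hx
  | zero => exact ⟨Htpy.zero C⟩
  | add x y _ _ hx hy =>
    obtain ⟨H⟩ := hx
    obtain ⟨H'⟩ := hy
    exact ⟨H.add C H'⟩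
  | smul c x _ hx =>
    obtain ⟨H⟩ := hx
    exact ⟨H.smul C c⟩

/-- the identity of the underlying modules as a map `X(s) → X` -/
noncomputable def unsh (X : GMod.{u} 𝒜) (s : ℤ) : (sh 𝒜 X s).carrier →ₗ[R] X.carrier :=
  LinearMap.id

/-- the identity of the underlying modules as a map `X → X(s)` -/
noncomputable def tosh (X : GMod.{u} 𝒜) (s : ℤ) : X.carrier →ₗ[R] (sh 𝒜 X s).carrier :=
  LinearMap.id

@[simp] theorem unsh_tosh (X : GMod.{u} 𝒜) (s : ℤ) (z : X.carrier) : unsh X s (tosh X s z) = z := rfl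

@[simp] theorem tosh_unsh (X : GMod.{u} 𝒜) (s : ℤ) (z : (sh 𝒜 X s).carrier) :
    tosh X s (unsh X s z) = z := rfl

/-- the mapping cone of multiplication by `x` (of degree one) on `C` -/
noncomputable def cone (x : R) (hx : x ∈ 𝒜 1) : Kz 𝒜 where
  X q := prodGMod 𝒜 (C.X q) (sh 𝒜 (C.X (q - 1)) (-1))
  d q := ppair
    (C.d q ∘ₗ pfst _ _ + x • (unsh (C.X (q - 1)) (-1) ∘ₗ psnd _ _))
    (-(tosh (C.X (q - 1 - 1)) (-1) ∘ₗ C.d (q - 1) ∘ₗ unsh (C.X (q - 1)) (-1) ∘ₗ psnd _ _))
  d_gr q := by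
    intro g z hz
    rw [mem_gr_prod] at hz ⊢
    obtain ⟨h1, h2⟩ := hz
    have h2' : unsh (C.X (q - 1)) (-1) (psnd _ _ z) ∈ (C.X (q - 1)).gr (-1 + g) := h2
    refine ⟨?_, ?_⟩
    · rw [pfst_ppair]
      refine add_mem (C.d_gr q g _ h1) ?_
      have := SetLike.GradedSMul.smul_mem (A := 𝒜) (B := (C.X (q - 1)).gr) hx h2'
      rw [vadd_eq_add, add_neg_cancel_left] at this
      exact this
    · rw [psnd_ppair]
      refine neg_mem ?_
      exact C.d_gr (q - 1) (-1 + g) _ h2'
  d_d q z := by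
    apply pext
    · rw [pfst_ppair, map_zero]
      simp only [LinearMap.add_apply, LinearMap.comp_apply, LinearMap.smul_apply, pfst_ppair,
        psnd_ppair, LinearMap.neg_apply, unsh_tosh, map_add, map_smul, map_neg, C.d_d]
      simp
    · rw [psnd_ppair, map_zero]
      simp only [LinearMap.comp_apply, LinearMap.neg_apply, psnd_ppair, unsh_tosh, map_neg,
        C.d_d]
      simp

/-- the contracting homotopy of the cone for the new element -/
noncomputable def coneHtpyNew (x : R) (hx : x ∈ 𝒜 1) : (C.cone x hx).Htpy x where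
  s q := ppair (0 : _ →ₗ[R] (C.X q).carrier) (tosh (C.X (q - 1)) (-1) ∘ₗ pfst _ _)
  hs q z := by
    apply pext
    · change C.d q 0 + x • unsh (C.X (q - 1)) (-1) (tosh (C.X (q - 1)) (-1) (pfst _ _ z)) + 0 =
        x • pfst _ _ z
      rw [map_zero, zero_add, add_zero, unsh_tosh]
    · change -(tosh (C.X (q - 1 - 1)) (-1) (C.d (q - 1) (unsh (C.X (q - 1)) (-1)
          (tosh (C.X (q - 1)) (-1) (pfst _ _ z))))) +
        tosh (C.X (q - 1 - 1)) (-1) (C.d (q - 1) (pfst _ _ z) +
          x • unsh (C.X (q - 1 - 1)) (-1) (psnd _ _ z)) = x • psnd _ _ z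
      rw [unsh_tosh, map_add, neg_add_cancel_left, map_smul, tosh_unsh]

/-- a contracting homotopy on `C` induces one on the cone -/
noncomputable def coneHtpyOld (x : R) (hx : x ∈ 𝒜 1) {y : R} (H : C.Htpy y) :
    (C.cone x hx).Htpy y where
  s q := ppair (H.s q ∘ₗ pfst _ _)
    (-(tosh (C.X (q - 1)) (-1) ∘ₗ H.s (q - 1) ∘ₗ unsh (C.X (q - 1 - 1)) (-1) ∘ₗ psnd _ _))
  hs q z := by
    have h1 := H.hs q (pfst _ _ z)
    have h2 := H.hs (q - 1) (unsh (C.X (q - 1 - 1)) (-1) (psnd _ _ z))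
    apply pext
    · change C.d q (H.s q (pfst _ _ z)) + x • unsh (C.X (q - 1)) (-1)
          (-(tosh (C.X (q - 1)) (-1) (H.s (q - 1) (unsh (C.X (q - 1 - 1)) (-1) (psnd _ _ z))))) +
        H.s (q - 1) (C.d (q - 1) (pfst _ _ z) + x • unsh (C.X (q - 1 - 1)) (-1) (psnd _ _ z)) =
        y • pfst _ _ z
      rw [map_neg, unsh_tosh, map_add, map_smul, ← h1]
      simp only [smul_neg]
      abel
    · change -(tosh (C.X (q - 1 - 1)) (-1) (C.d (q - 1) (unsh (C.X (q - 1)) (-1)
          (-(tosh (C.X (q - 1)) (-1) (H.s (q - 1) (unsh (C.X (q - 1 - 1)) (-1) (psnd _ _ z))))))))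
        + -(tosh (C.X (q - 1 - 1)) (-1) (H.s (q - 1 - 1) (unsh (C.X (q - 1 - 1 - 1)) (-1)
          (-(tosh (C.X (q - 1 - 1 - 1)) (-1) (C.d (q - 1 - 1) (unsh (C.X (q - 1 - 1)) (-1)
            (psnd _ _ z)))))))) = y • psnd _ _ z
      rw [map_neg, unsh_tosh, map_neg, map_neg, map_neg, unsh_tosh, map_neg, map_neg, neg_neg,
        neg_neg, ← map_add, h2, map_smul, tosh_unsh]

end Kz

end Groth.Agent.Lib.Helper77.GLC
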