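import Mathlib
import Groth.Prelude.Def_GrLC
import Groth.Agent.Lib.Helper77.GLC12

/-!
GLC13 (helper77): the graded Koszul-type complex of a graded module `M` on a sequence of elements
of degree one: existence together with the properties needed for Mumford's regularity theorem.
-/

set_option autoImplicit false
set_option linter.unusedSectionVars false
universe u

namespace Groth.Agent.Lib.Helper77.GLC

open GrLC DirectSum

variable {R : Type u} [CommRing R] [IsNoetherianRing R] {𝒜 : ℤ → AddSubgroup R} [GradedRing 𝒜]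

section prodSES

variable (X Y : GMod.{u} 𝒜)

/-- the left inclusion into the product graded module -/
noncomputable def pinl : X.carrier →ₗ[R] (prodGMod 𝒜 X Y).carrier := LinearMap.inl R X.carrier Y.carrier

theorem gses_prod : GSES X.gr (prodGMod 𝒜 X Y).gr Y.gr (pinl X Y) (psnd X Y) where
  f_gr := by
    intro g x hx
    rw [mem_gr_prod]
    exact ⟨hx, zero_mem _⟩
  p_gr := fun g z hz => (mem_gr_prod.1 hz).2
  f_inj := LinearMap.inl_injective
  p_surj := LinearMap.snd_surjective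
  exact := by
    ext z
    constructor
    · intro hz
      refine ⟨pfst X Y z, ?_⟩
      apply pext
      · rfl
      · exact (LinearMap.mem_ker.1 hz).symm
    · rintro ⟨x, rfl⟩
      rfl

/-- vanishing of graded local cohomology of a product -/
theorem HV_prod (EX : StarInjRes 𝒜 X.gr) (EY : StarInjRes 𝒜 Y.gr)
    (E : StarInjRes 𝒜 (prodGMod 𝒜 X Y).gr) {a : Ideal R} {i : ℕ} {g : ℤ}
    (hX : HV EX a i g) (hY : HV EY a i g) : HV E a i g :=
  HV_mid (gses_prod X Y) EX E EY hX hY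

end prodSES

variable {M : Type u} [AddCommGroup M] [Module R M] (ℳ : ℤ → AddSubgroup M) [Decomposition ℳ]
  [SetLike.GradedSMul 𝒜 ℳ]

namespace Kz

/-- the properties of a Koszul-type complex of `M` on elements generating the ideal `𝔟` -/
structure IsFor (C : Kz 𝒜) (a : HomogeneousIdeal 𝒜) (EM : StarInjRes 𝒜 ℳ) (n : ℕ) (𝔟 : Ideal R) :
    Prop where
  hv : ∀ (q : ℤ) (j : ℕ) (h : ℤ), HV EM a.toIdeal j (-q + h) →
    ∀ E : StarInjRes 𝒜 (C.X q).gr, HV E a.toIdeal j h
  sub : ∀ q : ℤ, (q < 0 ∨ (n : ℤ) < q) → Subsingleton (C.X q).carrier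
  retr : ∃ (inc : M →ₗ[R] (C.X 0).carrier) (prj : (C.X 0).carrier →ₗ[R] M),
    IsGrHom ℳ (C.X 0).gr inc ∧ IsGrHom (C.X 0).gr ℳ prj ∧ prj ∘ₗ inc = LinearMap.id ∧
      ∀ w : (C.X 1).carrier, prj (C.d 1 w) ∈ 𝔟 • (⊤ : Submodule R M)
  htpy : ∀ r ∈ 𝔟, Nonempty (C.Htpy r)

variable {ℳ}

theorem IsFor.cone {C : Kz 𝒜} {a : HomogeneousIdeal 𝒜} {EM : StarInjRes 𝒜 ℳ} {n : ℕ} {𝔟 : Ideal R}
    (h : C.IsFor ℳ a EM n 𝔟) (x : R) (hx : x ∈ 𝒜 1) :
    (C.cone x hx).IsFor ℳ a EM (n + 1) (𝔟 ⊔ Ideal.span {x}) where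
  hv := by
    intro q j k hk E
    obtain ⟨E1⟩ := exists_res (𝒜 := 𝒜) (C.X q).carrier (C.X q).gr
    obtain ⟨E0⟩ := exists_res (𝒜 := 𝒜) (C.X (q - 1)).carrier (C.X (q - 1)).gr
    refine HV_prod (C.X q) (sh 𝒜 (C.X (q - 1)) (-1)) E1 (shiftRes E0 (-1)) E (h.hv q j k hk E1) ?_
    rw [HV_shiftRes_iff]
    refine h.hv (q - 1) j (-1 + k) ?_ E0
    have e : -(q - 1) + (-1 + k) = -q + k := by ring
    rw [e]
    exact hk
  sub := by
    intro q hq
    have h1 : Subsingleton (C.X q).carrier := h.sub q (by push_cast at hq; omega)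
    have h2 : Subsingleton (C.X (q - 1)).carrier := h.sub (q - 1) (by push_cast at hq; omega)
    constructor
    intro z w
    apply pext
    · exact Subsingleton.elim _ _
    · exact h2.elim _ _
  retr := by
    obtain ⟨inc, prj, hinc, hprj, hcomp, hbd⟩ := h.retr
    refine ⟨ppair inc 0, prj ∘ₗ pfst _ _, ?_, ?_, ?_, ?_⟩
    · intro g m hm
      exact (mem_gr_prod (X := C.X 0) (Y := sh 𝒜 (C.X (0 - 1)) (-1))).2 ⟨hinc g m hm, zero_mem _⟩
    · intro g z hz
      exact hprj g _ ((mem_gr_prod (X := C.X 0) (Y := sh 𝒜 (C.X (0 - 1)) (-1))).1 hz).1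
    · ext m
      exact LinearMap.congr_fun hcomp m
    · intro w
      change prj (C.d 1 (pfst _ _ w) + x • Kz.unsh (C.X (1 - 1)) (-1) (psnd _ _ w)) ∈ _
      rw [map_add, map_smul]
      refine add_mem ?_ ?_
      · exact Submodule.smul_mono_left le_sup_left (hbd _)
      · exact Submodule.smul_mem_smul (Ideal.mem_sup_right (Ideal.mem_span_singleton_self x))
          Submodule.mem_top
  htpy := by
    intro r hr
    have e : 𝔟 ⊔ Ideal.span {x} = Ideal.span ((𝔟 : Set R) ∪ {x}) := by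
      rw [Ideal.span_union, Ideal.span_eq]
    rw [e] at hr
    refine nonempty_htpy_of_mem_span (C.cone x hx) ?_ hr
    rintro y (hy | hy)
    · obtain ⟨H⟩ := h.htpy y hy
      exact ⟨C.coneHtpyOld x hx H⟩
    · rw [Set.mem_singleton_iff] at hy
      subst hy
      exact ⟨C.coneHtpyNew y hx⟩

variable (ℳ)

/-- `M` in homological degree `0` and `0` elsewhere, as submodules of `M` -/
def baseSub (M : Type u) [AddCommGroup M] [Module R M] (q : ℤ) : Submodule R M :=
  if q = 0 then ⊤ else ⊥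

theorem baseSub_hom (q : ℤ) : (baseSub (R := R) M q).IsHomogeneous ℳ := by
  unfold baseSub
  split_ifs
  · exact Helper66.GradedSub.top_isHomogeneous ℳ
  · exact Helper66.GradedSub.bot_isHomogeneous ℳ

theorem baseSub_zero : baseSub (R := R) M 0 = ⊤ := if_pos rfl

theorem baseSub_ne {q : ℤ} (hq : q ≠ 0) : baseSub (R := R) M q = ⊥ := if_neg hq

theorem subsingleton_baseSub {q : ℤ} (hq : q ≠ 0) : Subsingleton ↥(baseSub (R := R) M q) := by
  constructor
  intro z w
  have e := baseSub_ne (R := R) (M := M) hq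
  have hz : (z : M) ∈ (⊥ : Submodule R M) := by rw [← e]; exact z.2
  have hw : (w : M) ∈ (⊥ : Submodule R M) := by rw [← e]; exact w.2
  rw [Submodule.mem_bot] at hz hw
  exact Subtype.ext (hz.trans hw.symm)

/-- the complex with `M` in homological degree `0` -/
noncomputable def base : Kz 𝒜 where
  X q := Helper66.GradedSub.subGMod 𝒜 ℳ (baseSub M q) (baseSub_hom ℳ q)
  d _ := 0
  d_gr _ := fun _ _ _ => zero_mem _
  d_d _ _ := rfl

/-- `M → M` as a map into the degree-zero term of the base complex -/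
noncomputable def baseInc : M →ₗ[R] ((base (𝒜 := 𝒜) ℳ).X 0).carrier :=
  LinearMap.codRestrict (baseSub M 0) LinearMap.id (fun m => by rw [baseSub_zero]; trivial)

/-- the projection of the degree-zero term of the base complex to `M` -/
noncomputable def basePrj : ((base (𝒜 := 𝒜) ℳ).X 0).carrier →ₗ[R] M := (baseSub M 0).subtype

theorem baseInc_gr : IsGrHom ℳ ((base (𝒜 := 𝒜) ℳ).X 0).gr (baseInc ℳ) := fun _ _ hm => hm

theorem basePrj_gr : IsGrHom ((base (𝒜 := 𝒜) ℳ).X 0).gr ℳ (basePrj ℳ) := fun _ _ hm => hm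

theorem base_isFor (a : HomogeneousIdeal 𝒜) (EM : StarInjRes 𝒜 ℳ) :
    (base (𝒜 := 𝒜) ℳ).IsFor ℳ a EM 0 ⊥ where
  hv := by
    intro q j k hk E
    by_cases hq : q = 0
    · subst hq
      rw [neg_zero, zero_add] at hk
      exact HV_of_retract E EM (basePrj ℳ) (basePrj_gr ℳ) (baseInc ℳ) (baseInc_gr ℳ)
        (LinearMap.ext fun z => Subtype.ext rfl) hk
    · have : Subsingleton ((base (𝒜 := 𝒜) ℳ).X q).carrier := subsingleton_baseSub hq
      exact HV_of_subsingleton E a j k
  sub := by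
    intro q hq
    exact subsingleton_baseSub (by push_cast at hq; omega)
  retr := ⟨baseInc ℳ, basePrj ℳ, baseInc_gr ℳ, basePrj_gr ℳ, LinearMap.ext fun _ => rfl,
    fun _ => by
      change basePrj ℳ 0 ∈ _
      rw [map_zero]
      exact zero_mem _⟩
  htpy := by
    intro r hr
    rw [Ideal.mem_bot] at hr
    subst hr
    exact ⟨Htpy.zero _⟩

/-- existence of the Koszul-type complex on a list of elements of degree one -/
theorem exists_isFor (a : HomogeneousIdeal 𝒜) (EM : StarInjRes 𝒜 ℳ) (xs : List R)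
    (hxs : ∀ x ∈ xs, x ∈ 𝒜 1) : ∃ C : Kz 𝒜, C.IsFor ℳ a EM xs.length (Ideal.ofList xs) := by
  induction xs with
  | nil =>
    refine ⟨base ℳ, ?_⟩
    rw [Ideal.ofList_nil]
    exact base_isFor ℳ a EM
  | cons x xs ih =>
    obtain ⟨C, hC⟩ := ih (fun y hy => hxs y (List.mem_cons_of_mem _ hy))
    refine ⟨C.cone x (hxs x (List.mem_cons_self ..)), ?_⟩
    rw [Ideal.ofList_cons, sup_comm, List.length_cons]
    exact hC.cone x _

end Kz

end Groth.Agent.Lib.Helper77.GLC
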