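import Mathlib
import Groth.Prelude.Def_GrLC
import Groth.Agent.Lib.Helper77.GLC13

/-!
GLC14 (helper77): Mumford's theorem for graded local cohomology: if `a` is generated by elements of
degree one and `H^i_a(M)_{r+1-i} = 0` for all `i ≥ l` (`l ≥ 1`), then `H^i_a(M)_{s-i} = 0` for all
`i ≥ l` and all `s > r`.  The proof uses the Koszul-type complex of GLC13 (no generic elements, no
hypothesis on the base ring).
-/

set_option autoImplicit false
set_option linter.unusedSectionVars false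
universe u

namespace Groth.Agent.Lib.Helper77.GLC

open GrLC DirectSum

variable {R : Type u} [CommRing R] [IsNoetherianRing R] {𝒜 : ℤ → AddSubgroup R} [GradedRing 𝒜]

namespace Kz

variable (C : Kz 𝒜)

/-- cycles -/
def Zs (q : ℤ) : Submodule R (C.X q).carrier := LinearMap.ker (C.d q)

theorem Zs_hom (q : ℤ) : (C.Zs q).IsHomogeneous (C.X q).gr :=
  Helper66.Graded.ker_isHomogeneous _ _ (C.d q) (C.d_gr q)

/-- cycles as a graded module -/
noncomputable def Zg (q : ℤ) : GMod.{u} 𝒜 :=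
  Helper66.GradedSub.subGMod 𝒜 (C.X q).gr (C.Zs q) (C.Zs_hom q)

/-- boundaries, in `X (q - 1)` -/
def Bs (q : ℤ) : Submodule R (C.X (q - 1)).carrier := LinearMap.range (C.d q)

theorem Bs_hom (q : ℤ) : (C.Bs q).IsHomogeneous (C.X (q - 1)).gr :=
  Helper66.Graded.range_isHomogeneous _ _ (C.d q) (C.d_gr q)

/-- boundaries as a graded module -/
noncomputable def Bg (q : ℤ) : GMod.{u} 𝒜 :=
  Helper66.GradedSub.subGMod 𝒜 (C.X (q - 1)).gr (C.Bs q) (C.Bs_hom q)

theorem Bs_le (q : ℤ) : C.Bs q ≤ C.Zs (q - 1) := by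
  rintro _ ⟨z, rfl⟩
  exact C.d_d q z

/-- the inclusion of cycles -/
noncomputable def zIncl (q : ℤ) : (C.Zg q).carrier →ₗ[R] (C.X q).carrier := (C.Zs q).subtype

/-- the differential onto the boundaries -/
noncomputable def dRes (q : ℤ) : (C.X q).carrier →ₗ[R] (C.Bg q).carrier := (C.d q).rangeRestrict

theorem gses1 (q : ℤ) : GSES (C.Zg q).gr (C.X q).gr (C.Bg q).gr (C.zIncl q) (C.dRes q) where
  f_gr := fun _ _ hz => hz
  p_gr := fun g z hz => C.d_gr q g z hz
  f_inj := Subtype.val_injective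
  p_surj := LinearMap.surjective_rangeRestrict _
  exact := by
    change LinearMap.ker (C.d q).rangeRestrict = LinearMap.range (C.Zs q).subtype
    rw [LinearMap.ker_rangeRestrict, Submodule.range_subtype]
    rfl

/-- the boundaries inside the cycles -/
noncomputable def Bz (q : ℤ) : Submodule R (C.Zg (q - 1)).carrier := (C.Bs q).comap (C.Zs (q - 1)).subtype

theorem Bz_hom (q : ℤ) : (C.Bz q).IsHomogeneous (C.Zg (q - 1)).gr :=
  Helper66.GradedSub.comap_isHomogeneous (C.Zg (q - 1)).gr (C.X (q - 1)).gr (C.Zs (q - 1)).subtype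
    (fun _ _ hz => hz) (C.Bs_hom q)

/-- homology as a graded module -/
noncomputable def Hg (q : ℤ) : GMod.{u} 𝒜 :=
  Helper66.GradedQuot.quotGMod 𝒜 (C.Zg (q - 1)).gr (C.Bz q) (C.Bz_hom q)

/-- boundaries into cycles -/
noncomputable def bIncl (q : ℤ) : (C.Bg q).carrier →ₗ[R] (C.Zg (q - 1)).carrier :=
  Submodule.inclusion (C.Bs_le q)

/-- cycles onto homology -/
noncomputable def zProj (q : ℤ) : (C.Zg (q - 1)).carrier →ₗ[R] (C.Hg q).carrier := (C.Bz q).mkQ

theorem gses2 (q : ℤ) : GSES (C.Bg q).gr (C.Zg (q - 1)).gr (C.Hg q).gr (C.bIncl q) (C.zProj q) where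
  f_gr := fun _ _ hz => hz
  p_gr := Helper66.GradedQuot.mkQ_grHom (C.Zg (q - 1)).gr (C.Bz q)
  f_inj := Submodule.inclusion_injective _
  p_surj := Submodule.mkQ_surjective _
  exact := by
    change LinearMap.ker (C.Bz q).mkQ = LinearMap.range (Submodule.inclusion (C.Bs_le q))
    rw [Submodule.ker_mkQ, Submodule.range_inclusion]
    rfl

/-- elements admitting a contracting homotopy kill the homology -/
theorem smul_zProj_eq_zero {r : R} (H : C.Htpy r) (q : ℤ) (y : (C.Hg q).carrier) : r • y = 0 := by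
  obtain ⟨z, rfl⟩ := Submodule.mkQ_surjective (C.Bz q) y
  change r • (C.Bz q).mkQ z = 0
  rw [← map_smul, ← LinearMap.mem_ker, Submodule.ker_mkQ]
  change r • C.zIncl (q - 1) z ∈ LinearMap.range (C.d q)
  have h1 := H.hs q (C.zIncl (q - 1) z)
  have h2 : C.d (q - 1) (C.zIncl (q - 1) z) = 0 := LinearMap.mem_ker.1 (Subtype.property z)
  rw [h2, map_zero, add_zero] at h1
  exact ⟨_, h1⟩

variable (a : HomogeneousIdeal 𝒜)

/-- the cycles at `q` have vanishing graded local cohomology in bidegree `(j, g)` -/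
def PZ (g : ℤ) (q : ℤ) (j : ℕ) : Prop :=
  ∀ E : StarInjRes 𝒜 (C.Zg q).gr, HV E a.toIdeal j g

/-- one step of the induction along the complex -/
theorem step (hkill : ∀ r ∈ a.toIdeal, Nonempty (C.Htpy r)) (q : ℤ) (j : ℕ) (hj : 0 < j) (g : ℤ)
    (hZ : C.PZ a g q (j + 1))
    (hX : ∀ E : StarInjRes 𝒜 (C.X q).gr, HV E a.toIdeal j g) : C.PZ a g (q - 1) j := by
  intro E
  obtain ⟨EZ⟩ := exists_res (𝒜 := 𝒜) (C.Zg q).carrier (C.Zg q).gr
  obtain ⟨EX⟩ := exists_res (𝒜 := 𝒜) (C.X q).carrier (C.X q).gr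
  obtain ⟨EB⟩ := exists_res (𝒜 := 𝒜) (C.Bg q).carrier (C.Bg q).gr
  obtain ⟨EH⟩ := exists_res (𝒜 := 𝒜) (C.Hg q).carrier (C.Hg q).gr
  have hB : HV EB a.toIdeal j g := HV_right (C.gses1 q) EZ EX EB (hX EX) (hZ EZ)
  have hH : HV EH a.toIdeal j g := by
    refine HV_of_torsion EH a ?_ j hj g
    intro y
    refine ⟨1, fun r hr => ?_⟩
    rw [pow_one] at hr
    obtain ⟨H⟩ := hkill r hr
    exact C.smul_zProj_eq_zero H q y
  exact HV_mid (C.gses2 q) EB E EH hB hH

variable {M : Type u} [AddCommGroup M] [Module R M] {ℳ : ℤ → AddSubgroup M} [Decomposition ℳ]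
  [SetLike.GradedSMul 𝒜 ℳ]

variable {C a}

/-- the key step of Mumford's theorem -/
theorem IsFor.mumford_step {EM : StarInjRes 𝒜 ℳ} {n : ℕ} {𝔟 : Ideal R}
    (hC : C.IsFor ℳ a EM n 𝔟) (ha : a.toIdeal ≤ 𝔟) (i : ℕ) (hi : 0 < i) (g : ℤ)
    (hW : ∀ q' : ℕ, HV EM a.toIdeal (i + q') (g - 1 - q')) : HV EM a.toIdeal i g := by
  have hkill : ∀ r ∈ a.toIdeal, Nonempty (C.Htpy r) := fun r hr => hC.htpy r (ha hr)
  have key : ∀ t : ℕ, ∀ (q : ℤ) (j : ℕ), q = n + 1 - t → 0 ≤ q → (j : ℤ) = i + q →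
      C.PZ a g q j := by
    intro t
    induction t with
    | zero =>
      intro q j hq _ _ E
      have h1 : Subsingleton (C.X q).carrier := hC.sub q (Or.inr (by push_cast at hq; omega))
      have h2 : Subsingleton (C.Zg q).carrier :=
        ⟨fun z w => Subtype.ext (h1.elim _ _)⟩
      exact HV_of_subsingleton E a j g
    | succ t ih =>
      intro q j hq hq0 hj
      have h1 : C.PZ a g (q + 1) (j + 1) :=
        ih (q + 1) (j + 1) (by push_cast at hq ⊢; omega) (by omega) (by push_cast; omega)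
      have hX : ∀ E : StarInjRes 𝒜 (C.X (q + 1)).gr, HV E a.toIdeal j g := by
        intro E
        refine hC.hv (q + 1) j g ?_ E
        have h3 := hW q.toNat
        have e1 : i + q.toNat = j := by omega
        have e2 : g - 1 - ((q.toNat : ℕ) : ℤ) = -(q + 1) + g := by omega
        rw [e1, e2] at h3
        exact h3
      have h2 := C.step a hkill (q + 1) j (by omega) g h1 hX
      have e : q + 1 - 1 = q := by ring
      rw [e] at h2
      exact h2
  have h0 : C.PZ a g 0 i := key (n + 1) 0 i (by push_cast; ring) le_rfl (by simp)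
  obtain ⟨inc, prj, hinc, hprj, hcomp, -⟩ := hC.retr
  have hsub : Subsingleton (C.X (0 - 1)).carrier := hC.sub (0 - 1) (Or.inl (by norm_num))
  obtain ⟨EZ⟩ := exists_res (𝒜 := 𝒜) (C.Zg 0).carrier (C.Zg 0).gr
  let f : M →ₗ[R] (C.Zg 0).carrier :=
    LinearMap.codRestrict (C.Zs 0) inc (fun m => LinearMap.mem_ker.2 (hsub.elim _ _))
  have hf : IsGrHom ℳ (C.Zg 0).gr f := fun g m hm => hinc g m hm
  have hf' : IsGrHom (C.Zg 0).gr ℳ (prj ∘ₗ C.zIncl 0) := fun g z hz => hprj g _ hz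
  have hff : (prj ∘ₗ C.zIncl 0) ∘ₗ f = LinearMap.id :=
    LinearMap.ext fun m => LinearMap.congr_fun hcomp m
  exact HV_of_retract EM EZ f hf (prj ∘ₗ C.zIncl 0) hf' hff (h0 EZ)

end Kz

section mumford

variable {M : Type u} [AddCommGroup M] [Module R M] {ℳ : ℤ → AddSubgroup M} [Decomposition ℳ]
  [SetLike.GradedSMul 𝒜 ℳ]

/-- **Mumford's theorem** for graded local cohomology with respect to an ideal contained in the
ideal generated by finitely many elements of degree one. -/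
theorem mumford (a : HomogeneousIdeal 𝒜) (xs : List R) (hxs : ∀ x ∈ xs, x ∈ 𝒜 1)
    (ha : a.toIdeal ≤ Ideal.ofList xs) (EM : StarInjRes 𝒜 ℳ) (l : ℕ) (hl : 0 < l) (r : ℤ)
    (h : ∀ i : ℕ, l ≤ i → HV EM a.toIdeal i (r + 1 - i)) :
    ∀ s : ℤ, r < s → ∀ i : ℕ, l ≤ i → HV EM a.toIdeal i (s - i) := by
  obtain ⟨C, hC⟩ := Kz.exists_isFor ℳ a EM xs hxs
  have key : ∀ t : ℕ, ∀ i : ℕ, l ≤ i → HV EM a.toIdeal i (r + 1 + t - i) := by
    intro t
    induction t with
    | zero =>
      intro i hi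
      have := h i hi
      simpa using this
    | succ t ih =>
      intro i hi
      refine hC.mumford_step ha i (by omega) _ ?_
      intro q'
      have h1 := ih (i + q') (by omega)
      have e : r + 1 + (t : ℤ) - ((i + q' : ℕ) : ℤ) =
          r + 1 + ((t + 1 : ℕ) : ℤ) - (i : ℤ) - 1 - (q' : ℤ) := by push_cast; ring
      rw [e] at h1
      exact h1
  intro s hs i hi
  have h1 := key (s - r - 1).toNat i hi
  have e : r + 1 + (((s - r - 1).toNat : ℕ) : ℤ) - (i : ℤ) = s - i := by omega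
  rw [e] at h1
  exact h1

end mumford

end Groth.Agent.Lib.Helper77.GLC
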