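import Mathlib
import Groth.Prelude.Def_GrLC
import Groth.Agent.Lib.Helper77.GLC9
import Groth.Agent.Lib.Helper77.GLC14

/-!
GLC15 (helper77): weak `d`-regularity equals strong `d`-regularity for graded modules over the
standard graded polynomial ring (Mumford's theorem).
-/

set_option autoImplicit false
set_option linter.unusedSectionVars false
universe u

namespace Groth.Agent.Lib.Helper77.GLC

open GrLC GrSyz DirectSum MvPolynomial

variable (k : Type u) [Field k] (r : ℕ)
  {M : Type u} [AddCommGroup M] [Module k M] [Module (MvPolynomial (Fin (r + 1)) k) M]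
  [IsScalarTower k (MvPolynomial (Fin (r + 1)) k) M]
  (ℳ : ℤ → Submodule k M) [Decomposition ℳ] [SetLike.GradedSMul (stdGr k (Fin (r + 1))) ℳ]

theorem vars_mem_sg : ∀ x ∈ List.ofFn (fun j : Fin (r + 1) => (X j : MvPolynomial (Fin (r + 1)) k)),
    x ∈ sg k (r + 1) 1 := by
  intro x hx
  obtain ⟨j, rfl⟩ := (List.mem_ofFn' _ _).1 hx
  exact X_mem_sg k (r + 1) j

theorem am_le_ofList_vars : (am k (r + 1)).toIdeal ≤
    Ideal.ofList (List.ofFn (fun j : Fin (r + 1) => (X j : MvPolynomial (Fin (r + 1)) k))) := by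
  rw [am_eq_Iv]
  apply Ideal.span_mono
  rintro _ ⟨j, _, rfl⟩
  exact (List.mem_ofFn' _ _).2 ⟨j, rfl⟩

/-- weak `d`-regularity (vanishing of `H^0` above `d` and of `H^i` in degree `d - i + 1`) is the
same as strong `d`-regularity -/
theorem weak_iff_regHV (E : StarInjRes (stdGr k (Fin (r + 1))) ℳ) (d : ℤ) :
    (endDeg (E.Hgr (irrel (stdGr k (Fin (r + 1)))) 0) ≤ ((d : WithTop ℤ) : WithBot (WithTop ℤ)) ∧
      ∀ i : ℕ, 0 < i → E.Hcomp (irrel (stdGr k (Fin (r + 1)))) i (d - (i : ℤ) + 1) = ⊥) ↔
    RegHV (flatRes _ E) (am k (r + 1)).toIdeal d := by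
  constructor
  · rintro ⟨h0, h1⟩
    rw [endDeg_le_iff] at h0
    have hm := mumford (am k (r + 1)) _ (vars_mem_sg k r) (am_le_ofList_vars k r) (flatRes _ E) 1
      one_pos d (fun i hi => by
        rw [HV_flatRes_iff]
        have := h1 i (by omega)
        rw [Hcomp_eq_bot_iff] at this
        have e : d + 1 - (i : ℤ) = d - i + 1 := by ring
        rw [e]
        exact this)
    intro i g hg
    cases i with
    | zero =>
      exact (HV_flatRes_iff E _ 0 g).2 ((Hgr_eq_bot_iff E _ 0 g).1 (h0 g (by simpa using hg)))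
    | succ i =>
      have := hm (g + ((i + 1 : ℕ) : ℤ)) (by omega) (i + 1) (by omega)
      rw [add_sub_cancel_right] at this
      exact this
  · intro hs
    have hs' : ∀ (i : ℕ) (g : ℤ), d - i < g →
        HV E (irrel (stdGr k (Fin (r + 1)))).toIdeal i g := by
      intro i g hg
      rw [← HV_flatRes_iff]
      exact hs i g hg
    refine ⟨?_, fun i _ => ?_⟩
    · rw [endDeg_le_iff]
      intro n hn
      rw [Hgr_eq_bot_iff]
      exact hs' 0 n (by simpa using hn)
    · rw [Hcomp_eq_bot_iff]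
      exact hs' i _ (by omega)

end Groth.Agent.Lib.Helper77.GLC
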