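import Mathlib
import Groth.Prelude.Def_GrLC
import Groth.Agent.Lib.Helper77.GLC14

/-!
GLC17 (helper77): a `d`-regular graded module (in the sense of graded local cohomology with respect
to an ideal generated by elements of degree one) satisfies `M_g ⊆ a M` for `g > d`; hence a
finitely generated one is generated in degrees `≤ d`.
-/

set_option autoImplicit false
set_option linter.unusedSectionVars false
universe u

namespace Groth.Agent.Lib.Helper77.GLC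

open GrLC DirectSum

variable {R : Type u} [CommRing R] [IsNoetherianRing R] {𝒜 : ℤ → AddSubgroup R} [GradedRing 𝒜]
variable {M : Type u} [AddCommGroup M] [Module R M] {ℳ : ℤ → AddSubgroup M} [Decomposition ℳ]
  [SetLike.GradedSMul 𝒜 ℳ]

namespace Kz

variable {C : Kz 𝒜} {a : HomogeneousIdeal 𝒜}

/-- the induction along the complex of `IsFor.mumford_step`, exposed -/
theorem IsFor.pz {EM : StarInjRes 𝒜 ℳ} {n : ℕ} {𝔟 : Ideal R}
    (hC : C.IsFor ℳ a EM n 𝔟) (ha : a.toIdeal ≤ 𝔟) (i : ℕ) (hi : 0 < i) (g : ℤ)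
    (hW : ∀ q' : ℕ, HV EM a.toIdeal (i + q') (g - 1 - q')) :
    ∀ t : ℕ, ∀ (q : ℤ) (j : ℕ), q = n + 1 - t → 0 ≤ q → (j : ℤ) = i + q → C.PZ a g q j := by
  have hkill : ∀ r ∈ a.toIdeal, Nonempty (C.Htpy r) := fun r hr => hC.htpy r (ha hr)
  intro t
  induction t with
  | zero =>
    intro q j hq _ _ E
    have h1 : Subsingleton (C.X q).carrier := hC.sub q (Or.inr (by push_cast at hq; omega))
    have h2 : Subsingleton (C.Zg q).carrier :=
      ⟨fun z w => Subtype.ext (h1.elim _ _)⟩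
    exact HV_of_subsingleton E a j g
  | succ t ih =>
    intro q j hq hq0 hj
    have h1 : C.PZ a g (q + 1) (j + 1) :=
      ih (q + 1) (j + 1) (by push_cast at hq ⊢; omega) (by omega) (by push_cast; omega)
    have hX : ∀ E : StarInjRes 𝒜 (C.X (q + 1)).gr, HV E a.toIdeal j g := by
      intro E
      refine hC.hv (q + 1) j g ?_ E
      have h3 := hW q.toNat
      have e1 : i + q.toNat = j := by omega
      have e2 : g - 1 - ((q.toNat : ℕ) : ℤ) = -(q + 1) + g := by omega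
      rw [e1, e2] at h3
      exact h3
    have h2 := C.step a hkill (q + 1) j (by omega) g h1 hX
    have e : q + 1 - 1 = q := by ring
    rw [e] at h2
    exact h2

/-- if `H^0_a(M)_g = 0` and `H^{1+q}_a(M)_{g-1-q} = 0` for all `q ≥ 0`, then `M_g ⊆ 𝔟 M`. -/
theorem IsFor.piece_le {EM : StarInjRes 𝒜 ℳ} {n : ℕ} {𝔟 : Ideal R}
    (hC : C.IsFor ℳ a EM n 𝔟) (ha : a.toIdeal ≤ 𝔟) (g : ℤ) (h0 : HV EM a.toIdeal 0 g)
    (hW : ∀ q' : ℕ, HV EM a.toIdeal (1 + q') (g - 1 - q')) {m : M} (hm : m ∈ ℳ g) :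
    m ∈ 𝔟 • (⊤ : Submodule R M) := by
  have hkill : ∀ r ∈ a.toIdeal, Nonempty (C.Htpy r) := fun r hr => hC.htpy r (ha hr)
  have hPZ : C.PZ a g 1 2 :=
    hC.pz ha 1 one_pos g hW n 1 2 (by ring) (by norm_num) (by norm_num)
  obtain ⟨EZ⟩ := exists_res (𝒜 := 𝒜) (C.Zg 1).carrier (C.Zg 1).gr
  obtain ⟨EX⟩ := exists_res (𝒜 := 𝒜) (C.X 1).carrier (C.X 1).gr
  obtain ⟨EB⟩ := exists_res (𝒜 := 𝒜) (C.Bg 1).carrier (C.Bg 1).gr
  obtain ⟨EH⟩ := exists_res (𝒜 := 𝒜) (C.Hg 1).carrier (C.Hg 1).gr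
  obtain ⟨EZ0⟩ := exists_res (𝒜 := 𝒜) (C.Zg (1 - 1)).carrier (C.Zg (1 - 1)).gr
  obtain ⟨EX0⟩ := exists_res (𝒜 := 𝒜) (C.X (1 - 1)).carrier (C.X (1 - 1)).gr
  have hX1 : HV EX a.toIdeal 1 g := by
    refine hC.hv 1 1 g ?_ EX
    have h3 := hW 0
    have e2 : g - 1 - ((0 : ℕ) : ℤ) = -1 + g := by push_cast; ring
    rw [e2] at h3
    exact h3
  have hB : HV EB a.toIdeal 1 g := HV_right (C.gses1 1) EZ EX EB hX1 (hPZ EZ)
  have hX0 : HV EX0 a.toIdeal 0 g := by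
    refine hC.hv (1 - 1) 0 g ?_ EX0
    have e2 : -((1 : ℤ) - 1) + g = g := by ring
    rw [e2]
    exact h0
  have hZ0 : HV EZ0 a.toIdeal 0 g :=
    HV_left_zero (f := C.zIncl (1 - 1)) EZ0 EX0 (fun _ _ hz => hz) (Subtype.val_injective) hX0
  have hH : HV EH a.toIdeal 0 g := HV_right (C.gses2 1) EB EZ0 EH hZ0 hB
  rw [HV_zero_iff] at hH
  obtain ⟨inc, prj, hinc, hprj, hcomp, hbd⟩ := hC.retr
  have hsub : Subsingleton (C.X (1 - 1 - 1)).carrier := hC.sub (1 - 1 - 1) (Or.inl (by norm_num))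
  let z0 : (C.X (1 - 1)).carrier := inc m
  have hz0 : z0 ∈ C.Zs (1 - 1) := LinearMap.mem_ker.2 (hsub.elim _ _)
  let zz : (C.Zg (1 - 1)).carrier := ⟨z0, hz0⟩
  have hzz : zz ∈ (C.Zg (1 - 1)).gr g := hinc g m hm
  have h1 : C.zProj 1 zz = 0 := by
    refine hH _ ((C.gses2 1).p_gr g zz hzz) ⟨1, fun r hr => ?_⟩
    rw [pow_one] at hr
    obtain ⟨H⟩ := hkill r hr
    exact C.smul_zProj_eq_zero H 1 _
  have h2 : zz ∈ C.Bz 1 := by
    rw [← Submodule.ker_mkQ (C.Bz 1)]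
    exact LinearMap.mem_ker.2 h1
  obtain ⟨w, hw⟩ : z0 ∈ LinearMap.range (C.d 1) := h2
  have h3 : m = prj (C.d 1 w) := by
    rw [hw]
    exact (LinearMap.congr_fun hcomp m).symm
  rw [h3]
  exact hbd w

end Kz

end Groth.Agent.Lib.Helper77.GLC
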