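import Mathlib
import Groth.Prelude.Def_GrLC
import Groth.Agent.Lib.Helper77.GLC17

/-!
GLC18 (helper77): generation in low degrees of regular graded modules.
-/

set_option autoImplicit false
set_option linter.unusedSectionVars false
universe u

namespace Groth.Agent.Lib.Helper77.GLC

open GrLC DirectSum

section algebra

variable {R : Type u} [CommRing R] {𝒜 : ℤ → AddSubgroup R} [GradedRing 𝒜]
variable {M : Type u} [AddCommGroup M] [Module R M] (ℳ : ℤ → AddSubgroup M) [Decomposition ℳ]
  [SetLike.GradedSMul 𝒜 ℳ]

/-- the degree-`n` component of an element of `(xs) M`, `xs` of degree one, lies in the submodule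
generated by `M_{n-1}`. -/
theorem decompose_mem_span_of_mem_smul_top (xs : List R) (hxs : ∀ x ∈ xs, x ∈ 𝒜 1) {m : M}
    (hm : m ∈ Ideal.ofList xs • (⊤ : Submodule R M)) (n : ℤ) :
    (decompose ℳ m n : M) ∈ Submodule.span R (ℳ (n - 1) : Set M) := by
  have key : ∀ r ∈ Ideal.ofList xs, ∀ m' : M,
      (decompose ℳ (r • m') n : M) ∈ Submodule.span R (ℳ (n - 1) : Set M) := by
    intro r hr
    change r ∈ Submodule.span R _ at hr
    induction hr using Submodule.span_induction with
    | mem y hy =>
      intro m'
      have h1 := Helper66.Graded.decompose_smul_homog 𝒜 ℳ (hxs y hy) m' (n - 1)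
      have e : (1 : ℤ) + (n - 1) = n := by ring
      rw [e] at h1
      rw [h1]
      exact Submodule.smul_mem _ _ (Submodule.subset_span (SetLike.coe_mem _))
    | zero =>
      intro m'
      rw [zero_smul, decompose_zero]
      exact zero_mem _
    | add r₁ r₂ _ _ h₁ h₂ =>
      intro m'
      rw [add_smul, decompose_add]
      exact add_mem (h₁ m') (h₂ m')
    | smul c r₁ _ h₁ =>
      intro m'
      rw [smul_eq_mul, mul_comm, mul_smul]
      exact h₁ (c • m')
  refine Submodule.smul_induction_on hm (fun r hr m' _ => key r hr m') ?_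
  intro x y hx hy
  rw [decompose_add]
  exact add_mem hx hy

/-- if `M_g ⊆ (xs) M` for all `g > d` (with `xs` of degree one), then `M` is generated in degrees
`≤ d`. -/
theorem span_le_eq_top_of_piece_le (xs : List R) (hxs : ∀ x ∈ xs, x ∈ 𝒜 1) (d : ℤ)
    (h : ∀ g : ℤ, d < g → ∀ m ∈ ℳ g, m ∈ Ideal.ofList xs • (⊤ : Submodule R M)) :
    Submodule.span R (⋃ (n : ℤ) (_ : n ≤ d), (ℳ n : Set M)) = ⊤ := by
  set N : Submodule R M := Submodule.span R (⋃ (n : ℤ) (_ : n ≤ d), (ℳ n : Set M)) with hN
  have hle : ∀ n : ℤ, n ≤ d → ∀ m ∈ ℳ n, m ∈ N := by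
    intro n hn m hm
    apply Submodule.subset_span
    exact Set.mem_iUnion₂.2 ⟨n, hn, hm⟩
  have hA : ∀ t : ℕ, ∀ m ∈ ℳ (d + t), m ∈ N := by
    intro t
    induction t with
    | zero =>
      intro m hm
      exact hle _ (by simp) m hm
    | succ t ih =>
      intro m hm
      have h1 := decompose_mem_span_of_mem_smul_top ℳ xs hxs
        (h _ (by push_cast; omega) m hm) (d + ((t + 1 : ℕ) : ℤ))
      rw [decompose_of_mem_same ℳ hm] at h1
      have e : d + ((t + 1 : ℕ) : ℤ) - 1 = d + (t : ℤ) := by push_cast; ring
      rw [e] at h1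
      exact (Submodule.span_le.2 (fun x hx => ih x hx)) h1
  rw [eq_top_iff]
  intro m _
  classical
  rw [← DirectSum.sum_support_decompose ℳ m]
  refine Submodule.sum_mem _ (fun n _ => ?_)
  by_cases hn : n ≤ d
  · exact hle n hn _ (SetLike.coe_mem _)
  · have := hA (n - d).toNat (decompose ℳ m n : M) (by
      have e : d + (((n - d).toNat : ℕ) : ℤ) = n := by omega
      rw [e]
      exact SetLike.coe_mem _)
    exact this

/-- a finitely generated graded module over a non-negatively graded ring is bounded below -/
theorem exists_piece_eq_bot_below (hpos : ∀ n : ℤ, n < 0 → 𝒜 n = ⊥) [Module.Finite R M] :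
    ∃ n₀ : ℤ, ∀ n : ℤ, n < n₀ → ℳ n = ⊥ := by
  classical
  obtain ⟨S, hS⟩ := (Module.Finite.fg_top : (⊤ : Submodule R M).FG)
  obtain ⟨n₀, hn₀⟩ := (S.biUnion (fun s => (decompose ℳ s).support)).bddBelow
  refine ⟨n₀, fun n hn => ?_⟩
  let P : Submodule R M :=
    { carrier := {m | ∀ k : ℤ, k < n₀ → (decompose ℳ m k : M) = 0}
      add_mem' := by
        intro x y hx hy k hk
        rw [decompose_add, DirectSum.add_apply, AddSubgroup.coe_add, hx k hk, hy k hk, add_zero]
      zero_mem' := by
        intro k _
        rw [decompose_zero]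
        rfl
      smul_mem' := by
        intro r x hx
        induction r using DirectSum.Decomposition.inductionOn 𝒜 with
        | zero =>
          intro k _
          rw [zero_smul, decompose_zero]
          rfl
        | @homogeneous j r =>
          intro k hk
          by_cases hj : j < 0
          · have : (r : R) = 0 := by
              have h0 : (r : R) ∈ (⊥ : AddSubgroup R) := hpos j hj ▸ r.2
              exact (AddSubgroup.mem_bot).1 h0
            rw [this, zero_smul, decompose_zero]
            rfl
          · have h1 := Helper66.Graded.decompose_smul_homog 𝒜 ℳ r.2 x (k - j)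
            have e : j + (k - j) = k := by ring
            rw [e] at h1
            rw [h1, hx (k - j) (by omega), smul_zero]
        | add r r' hr hr' =>
          intro k hk
          rw [add_smul, decompose_add, DirectSum.add_apply, AddSubgroup.coe_add, hr k hk,
            hr' k hk, add_zero] }
  have hSP : (S : Set M) ⊆ P := by
    intro s hs k hk
    by_contra hne
    have : k ∈ S.biUnion (fun s => (decompose ℳ s).support) := by
      rw [Finset.mem_biUnion]
      refine ⟨s, hs, ?_⟩
      rw [DFinsupp.mem_support_iff]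
      intro h0
      apply hne
      rw [h0]
      rfl
    have := hn₀ (Finset.mem_coe.2 this)
    omega
  have hP : P = ⊤ := by
    rw [eq_top_iff, ← hS]
    exact Submodule.span_le.2 hSP
  rw [eq_bot_iff]
  intro m hm
  rw [AddSubgroup.mem_bot]
  have h1 : m ∈ P := by rw [hP]; trivial
  have h2 := h1 n hn
  rwa [decompose_of_mem_same ℳ hm] at h2

end algebra

end Groth.Agent.Lib.Helper77.GLC
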