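import Mathlib
import Groth.Prelude.Def_GrLC
import Groth.Agent.Lib.Helper77.GLC8

/-!
GLC19 (helper77): injectivity of multiplication by a homogeneous element on graded local
cohomology, in terms of the local cohomology of its kernel and cokernel; eventual vanishing of
`H^i_{R_+}(M)_n` for large `n`.
-/

set_option autoImplicit false
set_option linter.unusedSectionVars false
universe u

namespace Groth.Agent.Lib.Helper77.GLC

open GrLC DirectSum

section inj

variable {ι : Type} [AddCommGroup ι] [DecidableEq ι] {R : Type u} [CommRing R]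
variable {𝒜 : ι → AddSubgroup R} [GradedRing 𝒜]
variable [Module.Free ℤ ι] [Module.Finite ℤ ι] [IsNoetherianRing R]
variable {M : Type u} [AddCommGroup M] [Module R M] {ℳ : ι → AddSubgroup M} [Decomposition ℳ]
  [SetLike.GradedSMul 𝒜 ℳ]
variable {N : Type u} [AddCommGroup N] [Module R N] {𝒩 : ι → AddSubgroup N} [Decomposition 𝒩]
  [SetLike.GradedSMul 𝒜 𝒩]

/-- the graded module structure on the annihilator of `x` in `M` -/
noncomputable def kerG {e : ι} {x : R} (hx : x ∈ 𝒜 e) (ℳ : ι → AddSubgroup M) [Decomposition ℳ]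
    [SetLike.GradedSMul 𝒜 ℳ] : GMod.{u} 𝒜 :=
  Helper66.GradedSub.subGMod 𝒜 ℳ (LinearMap.ker (x • (LinearMap.id : M →ₗ[R] M)))
    (ker_smul_isHomogeneous hx)

variable (a : HomogeneousIdeal 𝒜) {e : ι} {x : R} (hx : x ∈ 𝒜 e)
  (π : M →ₗ[R] N) (hπ : IsGrHom ℳ 𝒩 π) (hπs : Function.Surjective π)
  (hker : LinearMap.ker π = LinearMap.range (x • (LinearMap.id : M →ₗ[R] M)))
  (EM : StarInjRes 𝒜 ℳ) (EN : StarInjRes 𝒜 𝒩) (EK : StarInjRes 𝒜 (kerG hx ℳ).gr)

include hπ hπs hker

/-- if `H^{i+1}_a(0 :_M x)_g = 0` and `H^i_a(M/xM)_{e+g} = 0` then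
`x : H^{i+1}_a(M)_g → H^{i+1}_a(M)_{e+g}` is injective. -/
theorem smul_injective_succ (i : ℕ) (g : ι) (hK : HV EK a.toIdeal (i + 1) g)
    (hN : HV EN a.toIdeal i (e + g)) :
    ∀ z, Gm EM a.toIdeal (i + 1) g z → EM.d (i + 1) z = 0 →
      IsBd EM a.toIdeal (i + 1) (e + g) (x • z) → IsBd EM a.toIdeal (i + 1) g z := by
  classical
  set K : Submodule R M := LinearMap.ker (x • (LinearMap.id : M →ₗ[R] M)) with hKdef
  have hKhom : K.IsHomogeneous ℳ := ker_smul_isHomogeneous hx
  let _ : Decomposition (Helper66.GradedSub.spiece ℳ K) :=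
    Helper66.GradedSub.subDecomposition ℳ K hKhom
  let _ : SetLike.GradedSMul 𝒜 (Helper66.GradedSub.spiece ℳ K) :=
    Helper66.GradedSub.subGradedSMul 𝒜 ℳ K
  let _ : Decomposition (Helper66.GradedQuot.qpiece ℳ K) :=
    Helper66.GradedQuot.quotDecomposition ℳ K hKhom
  let _ : SetLike.GradedSMul 𝒜 (Helper66.GradedQuot.qpiece ℳ K) :=
    Helper66.GradedQuot.quotGradedSMul 𝒜 ℳ K
  have hS1 : GSES (Helper66.GradedSub.spiece ℳ K) ℳ (Helper66.GradedQuot.qpiece ℳ K)
      K.subtype K.mkQ :=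
    { f_gr := fun _ _ hx => hx
      p_gr := Helper66.GradedQuot.mkQ_grHom ℳ K
      f_inj := Subtype.val_injective
      p_surj := K.mkQ_surjective
      exact := by rw [Submodule.ker_mkQ, Submodule.range_subtype] }
  let xb : (Helper66.GradedShift.shiftGMod 𝒜 (Helper66.GradedQuot.qpiece ℳ K) (-e)).carrier →ₗ[R] M :=
    K.liftQ (x • (LinearMap.id : M →ₗ[R] M)) le_rfl
  have hxb : ∀ m : M, xb (K.mkQ m) = x • m := fun m => rfl
  have hS2 : GSES (Helper66.GradedShift.shiftGMod 𝒜 (Helper66.GradedQuot.qpiece ℳ K) (-e)).gr ℳ 𝒩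
      xb π :=
    { f_gr := by
        rintro g _ ⟨m, (hm : m ∈ ℳ (-e + g)), rfl⟩
        change xb (K.mkQ m) ∈ ℳ g
        rw [hxb]
        have := SetLike.GradedSMul.smul_mem (A := 𝒜) (B := ℳ) hx hm
        rw [vadd_eq_add, add_neg_cancel_left] at this
        exact this
      p_gr := hπ
      f_inj := by
        rw [← LinearMap.ker_eq_bot]
        exact Submodule.ker_liftQ_eq_bot _ _ _ le_rfl
      p_surj := hπs
      exact := by
        rw [hker]
        exact (Submodule.range_liftQ K (x • (LinearMap.id : M →ₗ[R] M)) le_rfl).symm }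
  obtain ⟨EQ⟩ := exists_res (𝒜 := 𝒜) (M ⧸ K) (Helper66.GradedQuot.qpiece ℳ K)
  intro z hz hdz hb
  obtain ⟨Lq⟩ := exists_lift EM EQ K.mkQ (Helper66.GradedQuot.mkQ_grHom ℳ K)
  obtain ⟨Lx⟩ := exists_lift (shiftRes EQ (-e)) EM xb hS2.f_gr
  have hmap : xb ∘ₗ shiftMap (𝒜 := 𝒜) ℳ (Helper66.GradedQuot.qpiece ℳ K) K.mkQ (-e) =
      mulMap ℳ x (-e) := LinearMap.ext fun (m : M) => rfl
  have hz' : Gm (shiftRes EM (-e)) a.toIdeal (i + 1) (e + g) z := by
    rw [gm_shiftRes_iff, neg_add_cancel_left]; exact hz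
  have h1 := isBd_sub_of_lifts ((Lx.comp (Lq.shift (-e))).congr hmap) (mulLift EM hx) hz' hdz
  change IsBd EM a.toIdeal (i + 1) (e + g) (Lx.φ (i + 1) (Lq.φ (i + 1) z) - x • z) at h1
  have h2 : IsBd EM a.toIdeal (i + 1) (e + g) (Lx.φ (i + 1) (Lq.φ (i + 1) z)) := by
    have := h1.add hb
    rwa [sub_add_cancel] at this
  have hzq : Gm EQ a.toIdeal (i + 1) g (Lq.φ (i + 1) z) := Lq.map_gm hz
  have hzq' : Gm (shiftRes EQ (-e)) a.toIdeal (i + 1) (e + g) (Lq.φ (i + 1) z) := by
    rw [gm_shiftRes_iff, neg_add_cancel_left]; exact hzq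
  have hdq : EQ.d (i + 1) (Lq.φ (i + 1) z) = 0 := by rw [← Lq.comm_apply, hdz, map_zero]
  have h3 := isBd_of_lift hS2 (shiftRes EQ (-e)) EM EN hN Lx hzq' hdq h2
  rw [isBd_shiftRes_iff, neg_add_cancel_left] at h3
  exact isBd_of_proj hS1 EK EM EQ hK Lq hz hdz h3

omit hπ hπs hker in
/-- if `H^0_a(0 :_M x)_g = 0` then `x : H^0_a(M)_g → H^0_a(M)_{e+g}` is injective. -/
theorem smul_injective_zero (g : ι) (hK : HV EK a.toIdeal 0 g) :
    ∀ z, Gm EM a.toIdeal 0 g z → EM.d 0 z = 0 →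
      IsBd EM a.toIdeal 0 (e + g) (x • z) → IsBd EM a.toIdeal 0 g z := by
  intro z hz hdz hb
  change x • z = 0 at hb
  change z = 0
  have h2 : z ∈ LinearMap.range EM.ε := by rw [← EM.exact_zero]; exact hdz
  obtain ⟨m, rfl⟩ := h2
  have hxm : x • m = 0 := by
    apply EM.ε_injective
    rw [map_smul, hb, map_zero]
  rw [HV_zero_iff] at hK
  -- `m` lies in `Γ_a(M)_g`
  have hmg : m ∈ ℳ g := by
    have := hz.2
    exact Helper66.GradedSub.mem_of_map_mem ℳ (EM.X 0).gr EM.ε EM.ε_grHom EM.ε_injective this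
  have hma : m ∈ gam a.toIdeal M := by
    obtain ⟨n, hn⟩ := hz.1
    refine ⟨n, fun r hr => ?_⟩
    apply EM.ε_injective
    rw [map_smul, hn r hr, map_zero]
  let mk : (kerG hx ℳ).carrier := ⟨m, LinearMap.mem_ker.2 hxm⟩
  have h0 : mk = 0 := by
    refine hK mk hmg ?_
    obtain ⟨n, hn⟩ := hma
    exact ⟨n, fun r hr => Subtype.ext (hn r hr)⟩
  have : m = 0 := congrArg Subtype.val h0
  rw [this, map_zero]

end inj

section vanish

variable {R : Type u} [CommRing R] [IsNoetherianRing R] {𝒜 : ℤ → AddSubgroup R} [GradedRing 𝒜]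

/-- a finitely generated graded module killed by all homogeneous elements of positive degree of a
non-negatively graded ring is bounded above -/
theorem exists_piece_eq_bot_above (hpos : ∀ n : ℤ, n < 0 → 𝒜 n = ⊥)
    {M : Type u} [AddCommGroup M] [Module R M] (ℳ : ℤ → AddSubgroup M) [Decomposition ℳ]
    [SetLike.GradedSMul 𝒜 ℳ] [Module.Finite R M]
    (hkill : ∀ n : ℤ, 0 < n → ∀ r ∈ 𝒜 n, ∀ m : M, r • m = 0) :
    ∃ D : ℤ, ∀ n : ℤ, D < n → ℳ n = ⊥ := by
  classical
  obtain ⟨S, hS⟩ := (Module.Finite.fg_top : (⊤ : Submodule R M).FG)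
  obtain ⟨D, hD⟩ := (S.biUnion (fun s => (decompose ℳ s).support)).bddAbove
  refine ⟨D, fun n hn => ?_⟩
  let P : Submodule R M :=
    { carrier := {m | ∀ k : ℤ, D < k → (decompose ℳ m k : M) = 0}
      add_mem' := by
        intro x y hx hy k hk
        rw [decompose_add, DirectSum.add_apply, AddSubgroup.coe_add, hx k hk, hy k hk, add_zero]
      zero_mem' := by
        intro k _
        rw [decompose_zero]
        rfl
      smul_mem' := by
        intro r x hx
        induction r using DirectSum.Decomposition.inductionOn 𝒜 with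
        | zero =>
          intro k _
          rw [zero_smul, decompose_zero]
          rfl
        | @homogeneous j r =>
          intro k hk
          by_cases hj : j < 0
          · have : (r : R) = 0 := by
              have h0 : (r : R) ∈ (⊥ : AddSubgroup R) := hpos j hj ▸ r.2
              exact (AddSubgroup.mem_bot).1 h0
            rw [this, zero_smul, decompose_zero]
            rfl
          · by_cases hj0 : j = 0
            · subst hj0
              have h1 := Helper66.Graded.decompose_smul_homog 𝒜 ℳ r.2 x k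
              rw [zero_add] at h1
              rw [h1, hx k hk, smul_zero]
            · rw [hkill j (by omega) r r.2 x, decompose_zero]
              rfl
        | add r r' hr hr' =>
          intro k hk
          rw [add_smul, decompose_add, DirectSum.add_apply, AddSubgroup.coe_add, hr k hk,
            hr' k hk, add_zero] }
  have hSP : (S : Set M) ⊆ P := by
    intro s hs k hk
    by_contra hne
    have : k ∈ S.biUnion (fun s => (decompose ℳ s).support) := by
      rw [Finset.mem_biUnion]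
      refine ⟨s, hs, ?_⟩
      rw [DFinsupp.mem_support_iff]
      intro h0
      apply hne
      rw [h0]
      rfl
    have := hD (Finset.mem_coe.2 this)
    omega
  have hP : P = ⊤ := by
    rw [eq_top_iff, ← hS]
    exact Submodule.span_le.2 hSP
  rw [eq_bot_iff]
  intro m hm
  rw [AddSubgroup.mem_bot]
  have h1 : m ∈ P := by rw [hP]; trivial
  have h2 := h1 n hn
  rwa [decompose_of_mem_same ℳ hm] at h2

/-- `xM` is a homogeneous submodule for homogeneous `x` -/
theorem range_smul_isHomogeneous' {M : Type u} [AddCommGroup M] [Module R M]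
    {ℳ : ℤ → AddSubgroup M} [Decomposition ℳ] [SetLike.GradedSMul 𝒜 ℳ] {e : ℤ} {x : R}
    (hx : x ∈ 𝒜 e) : (LinearMap.range (x • (LinearMap.id : M →ₗ[R] M))).IsHomogeneous ℳ := by
  rintro g _ ⟨m, rfl⟩
  refine ⟨(decompose ℳ m (-e + g) : M), ?_⟩
  change x • (decompose ℳ m (-e + g) : M) = (decompose ℳ (x • m) g : M)
  rw [← Helper66.Graded.decompose_smul_homog 𝒜 ℳ hx m (-e + g), add_neg_cancel_left]

/-- **eventual vanishing**: the graded local cohomology of a finitely generated graded module with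
respect to the irrelevant ideal vanishes in all large degrees, uniformly in the cohomological
degree. -/
theorem exists_HV_above (hpos : ∀ n : ℤ, n < 0 → 𝒜 n = ⊥) (a : HomogeneousIdeal 𝒜)
    (ha : ∀ n : ℤ, 0 < n → ∀ r ∈ 𝒜 n, r ∈ a.toIdeal) (xs : List R) :
    ∀ (𝔠 : Ideal R) (_ : ∀ x ∈ xs, x ∈ a.toIdeal ∧ ∃ e : ℤ, 0 < e ∧ x ∈ 𝒜 e)
      (_ : a.toIdeal ≤ 𝔠 ⊔ Ideal.ofList xs)
      (M : Type u) [AddCommGroup M] [Module R M] (ℳ : ℤ → AddSubgroup M) [Decomposition ℳ]
      [SetLike.GradedSMul 𝒜 ℳ] [Module.Finite R M] (_ : ∀ r ∈ 𝔠, ∀ m : M, r • m = 0)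
      (EM : StarInjRes 𝒜 ℳ), ∃ r : ℤ, ∀ (i : ℕ) (g : ℤ), r ≤ g → HV EM a.toIdeal i g := by
  induction xs with
  | nil =>
    intro 𝔠 _ hle M _ _ ℳ _ _ _ hc EM
    rw [Ideal.ofList_nil, sup_bot_eq] at hle
    have hkill : ∀ r ∈ a.toIdeal, ∀ m : M, r • m = 0 := fun r hr m => hc r (hle hr) m
    obtain ⟨D, hD⟩ := exists_piece_eq_bot_above (𝒜 := 𝒜) hpos ℳ
      (fun n hn r hr m => hkill r (ha n hn r hr) m)
    refine ⟨D + 1, fun i g hg => ?_⟩
    cases i with
    | zero =>
      rw [HV_zero_iff]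
      intro n hn _
      rw [hD g (by omega)] at hn
      exact (AddSubgroup.mem_bot).1 hn
    | succ i =>
      refine HV_of_torsion EM a (fun m => ⟨1, fun r hr => ?_⟩) (i + 1) (Nat.succ_pos i) g
      rw [pow_one] at hr
      exact hkill r hr m
  | cons x xs ih =>
    intro 𝔠 hxs hle M _ _ ℳ _ _ _ hc EM
    obtain ⟨hxa, e, he, hx⟩ := hxs x (List.mem_cons_self ..)
    have hxs' : ∀ y ∈ xs, y ∈ a.toIdeal ∧ ∃ e : ℤ, 0 < e ∧ y ∈ 𝒜 e :=
      fun y hy => hxs y (List.mem_cons_of_mem _ hy)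
    have hle' : a.toIdeal ≤ (𝔠 ⊔ Ideal.span {x}) ⊔ Ideal.ofList xs := by
      rw [Ideal.ofList_cons, ← sup_assoc] at hle
      exact hle
    have hmem : ∀ r ∈ 𝔠 ⊔ Ideal.span {x}, ∃ c ∈ 𝔠, ∃ t : R, r = c + t * x := by
      intro r hr
      obtain ⟨c, hc', y, hy, rfl⟩ := Submodule.mem_sup.1 hr
      obtain ⟨t, rfl⟩ := Ideal.mem_span_singleton'.1 hy
      exact ⟨c, hc', t, rfl⟩
    -- the kernel
    haveI : IsNoetherian R M := isNoetherian_of_isNoetherianRing_of_finite R M
    haveI : Module.Finite R (kerG hx ℳ).carrier :=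
      Module.IsNoetherian.finite R ↥(LinearMap.ker (x • (LinearMap.id : M →ₗ[R] M)))
    obtain ⟨EK⟩ := exists_res (𝒜 := 𝒜) (kerG hx ℳ).carrier (kerG hx ℳ).gr
    have hcK : ∀ r ∈ 𝔠 ⊔ Ideal.span {x}, ∀ k : (kerG hx ℳ).carrier, r • k = 0 := by
      intro r hr k
      obtain ⟨c, hc', t, rfl⟩ := hmem r hr
      apply Subtype.ext
      have hk : x • (k.1 : M) = 0 := LinearMap.mem_ker.1 k.2
      change (c + t * x) • (k.1 : M) = 0
      rw [add_smul, hc c hc', mul_smul, hk, smul_zero, add_zero]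
    obtain ⟨rK, hrK⟩ := ih (𝔠 ⊔ Ideal.span {x}) hxs' hle' (kerG hx ℳ).carrier (kerG hx ℳ).gr hcK EK
    -- the cokernel
    have hQhom : (LinearMap.range (x • (LinearMap.id : M →ₗ[R] M))).IsHomogeneous ℳ :=
      range_smul_isHomogeneous' hx
    let _ : Decomposition (Helper66.GradedQuot.qpiece ℳ
        (LinearMap.range (x • (LinearMap.id : M →ₗ[R] M)))) :=
      Helper66.GradedQuot.quotDecomposition ℳ _ hQhom
    let _ : SetLike.GradedSMul 𝒜 (Helper66.GradedQuot.qpiece ℳ
        (LinearMap.range (x • (LinearMap.id : M →ₗ[R] M)))) :=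
      Helper66.GradedQuot.quotGradedSMul 𝒜 ℳ _
    obtain ⟨EC⟩ := exists_res (𝒜 := 𝒜) (M ⧸ LinearMap.range (x • (LinearMap.id : M →ₗ[R] M)))
      (Helper66.GradedQuot.qpiece ℳ (LinearMap.range (x • (LinearMap.id : M →ₗ[R] M))))
    have hcC : ∀ r ∈ 𝔠 ⊔ Ideal.span {x},
        ∀ k : M ⧸ LinearMap.range (x • (LinearMap.id : M →ₗ[R] M)), r • k = 0 := by
      intro r hr k
      obtain ⟨c, hc', t, rfl⟩ := hmem r hr
      obtain ⟨m, rfl⟩ := Submodule.mkQ_surjective _ k
      rw [← map_smul, add_smul, hc c hc', zero_add, ← LinearMap.mem_ker, Submodule.ker_mkQ]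
      exact ⟨t • m, by
        change x • (t • m) = (t * x) • m
        rw [smul_smul, mul_comm]⟩
    obtain ⟨rC, hrC⟩ := ih (𝔠 ⊔ Ideal.span {x}) hxs' hle'
      (M ⧸ LinearMap.range (x • (LinearMap.id : M →ₗ[R] M)))
      (Helper66.GradedQuot.qpiece ℳ (LinearMap.range (x • (LinearMap.id : M →ₗ[R] M)))) hcC EC
    refine ⟨max rK (rC - e), fun i g hg => ?_⟩
    refine HV_of_smul_injective EM hx hxa i {g | max rK (rC - e) ≤ g} ?_ ?_ g hg
    · intro g hg
      simp only [Set.mem_ofPred_eq] at hg ⊢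
      omega
    · intro g hg
      simp only [Set.mem_ofPred_eq] at hg
      cases i with
      | zero => exact smul_injective_zero a hx EM EK g (hrK 0 g (le_trans (le_max_left _ _) hg))
      | succ i =>
        refine smul_injective_succ a hx (Submodule.mkQ _) (Helper66.GradedQuot.mkQ_grHom ℳ _)
          (Submodule.mkQ_surjective _) (Submodule.ker_mkQ _) EM EC EK i g
          (hrK (i + 1) g (le_trans (le_max_left _ _) hg)) (hrC i (e + g) ?_)
        have := le_trans (le_max_right rK (rC - e)) hg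
        omega

end vanish

end Groth.Agent.Lib.Helper77.GLC
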