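import Mathlib
import Groth.Prelude.Def_GrLC
import Groth.Prelude.Def_GrSyz
import Groth.Agent.Lib.Helper77.GLC20
import Groth.Agent.Lib.Helper77.GLC9
import Groth.Agent.Lib.Helper99.GrDual

/-!
GLC21 (helper77): lower bounds for the length of a graded module of finite length over the
polynomial ring, through the chain of submodules `N_{≥ d}` refined by linearly independent families
in one degree.
-/

set_option autoImplicit false
set_option linter.unusedSectionVars false
universe u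

namespace Groth.Agent.Lib.Helper77.GLC

open GrLC GrSyz DirectSum MvPolynomial
open Groth.Agent.Lib.Helper99.GrDual

section len

variable (k : Type u) [Field k] (σ : Type)

theorem stdGr_zero : stdGr k σ 0 = Submodule.span k {(1 : MvPolynomial σ k)} := by
  classical
  apply le_antisymm
  · intro p hp
    rw [mem_stdGr_iff] at hp
    have h1 : p = C (coeff 0 p) := by
      ext d
      rw [coeff_C]
      by_cases hd : 0 = d
      · rw [if_pos hd, hd]
      · rw [if_neg hd]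
        by_contra hne
        have h2 := hp hne
        rw [Groth.Agent.Lib.Helper77.weight_one_eq_zero_iff] at h2
        exact hd h2.symm
    rw [h1, Submodule.mem_span_singleton]
    refine ⟨coeff 0 p, ?_⟩
    rw [MvPolynomial.smul_eq_C_mul, mul_one]
  · rw [Submodule.span_le]
    intro p hp
    rw [Set.mem_singleton_iff] at hp
    rw [hp]
    exact SetLike.GradedOne.one_mem (A := stdGr k σ)

variable {N : Type u} [AddCommGroup N] [Module k N] [Module (MvPolynomial σ k) N]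
  [IsScalarTower k (MvPolynomial σ k) N]
  (𝒩 : ℤ → Submodule k N) [Decomposition 𝒩] [SetLike.GradedSMul (stdGr k σ) 𝒩]

/-- `N_{≥ n}` for a graded module over the polynomial ring -/
noncomputable abbrev GE (n : ℤ) : Submodule (MvPolynomial σ k) N :=
  gradedGE (stdGr k σ) (fun _ h => stdGr_neg k σ h) 𝒩 n

theorem height_GE_add_le {d : ℤ} {c : ℕ} (v : Fin c → N) (hv : ∀ i, v i ∈ 𝒩 d)
    (hli : LinearIndependent k v) :
    Order.height (GE k σ 𝒩 (d + 1)) + (c : ℕ∞) ≤ Order.height (GE k σ 𝒩 d) := by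
  classical
  have hact := gradedGE_act (stdGr k σ) (fun _ h => stdGr_neg k σ h) (stdGr_zero k σ) 𝒩 d
  have hVQ : ∀ x ∈ 𝒩 d, x ∈ GE k σ 𝒩 d := fun x hx =>
    piece_le_gradedGE (stdGr k σ) (fun _ h => stdGr_neg k σ h) 𝒩 le_rfl hx
  have hVP : ∀ x ∈ 𝒩 d, x ∈ GE k σ 𝒩 (d + 1) → x = 0 := fun x hx hx' =>
    piece_inter_gradedGE_succ (stdGr k σ) (fun _ h => stdGr_neg k σ h) 𝒩 hx hx'
  let f := addSub (GE k σ 𝒩 (d + 1)) (GE k σ 𝒩 d) hact (𝒩 d) hVQ
  have hf : StrictMono f := addSub_strictMono (GE k σ 𝒩 (d + 1)) (GE k σ 𝒩 d) hact (𝒩 d) hVQ hVP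
  let v' : Fin c → 𝒩 d := fun i => ⟨v i, hv i⟩
  have hli' : LinearIndependent k v' := by
    apply LinearIndependent.of_comp (𝒩 d).subtype
    exact hli
  let U : ℕ → Submodule k (𝒩 d) := fun j => Submodule.span k (v' '' {i | i.val < j})
  have key : ∀ j : ℕ, j ≤ c → Order.height (GE k σ 𝒩 (d + 1)) + (j : ℕ∞) ≤ Order.height (f (U j)) := by
    intro j
    induction j with
    | zero =>
      intro _
      rw [Nat.cast_zero, add_zero]
      apply Order.height_mono
      intro y hy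
      exact ⟨0, zero_mem _, by simpa using hy⟩
    | succ j ih =>
      intro hj
      have h1 := ih (by omega)
      have hlt : U j < U (j + 1) := by
        refine lt_of_le_of_ne (Submodule.span_mono (Set.image_mono (fun i hi => ?_))) ?_
        · exact Nat.lt_succ_of_lt hi
        · intro heq
          have h2 : v' ⟨j, by omega⟩ ∈ U (j + 1) :=
            Submodule.subset_span ⟨⟨j, by omega⟩, Nat.lt_succ_self j, rfl⟩
          rw [← heq] at h2
          exact hli'.notMem_span_image (s := {i | i.val < j}) (x := ⟨j, by omega⟩)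
            (by simp) h2
      have h3 := Order.height_add_one_le (hf hlt)
      calc Order.height (GE k σ 𝒩 (d + 1)) + ((j + 1 : ℕ) : ℕ∞)
          = Order.height (GE k σ 𝒩 (d + 1)) + (j : ℕ∞) + 1 := by push_cast; rw [add_assoc]
        _ ≤ Order.height (f (U j)) + 1 := by gcongr
        _ ≤ _ := h3
  refine le_trans (key c le_rfl) (Order.height_mono ?_)
  rintro y ⟨u, _, hu⟩
  have h1 : (u : N) ∈ GE k σ 𝒩 d := hVQ _ u.2
  have h2 : y - (u : N) ∈ GE k σ 𝒩 d :=
    gradedGE_anti (stdGr k σ) (fun _ h => stdGr_neg k σ h) 𝒩 (by omega) hu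
  have := add_mem h2 h1
  rwa [sub_add_cancel] at this

theorem height_GE_succ_le {d : ℤ} (hd : 𝒩 d ≠ ⊥) :
    Order.height (GE k σ 𝒩 (d + 1)) + 1 ≤ Order.height (GE k σ 𝒩 d) := by
  obtain ⟨y, hy, hy0⟩ := (Submodule.ne_bot_iff _).1 hd
  have h := height_GE_add_le k σ 𝒩 (c := 1) (fun _ => y) (fun _ => hy)
    (LinearIndependent.of_subsingleton (0 : Fin 1) hy0)
  simpa using h

theorem height_GE_chain (a : ℤ) (n : ℕ) (h : ∀ d : ℤ, a ≤ d → d < a + n → 𝒩 d ≠ ⊥) :
    Order.height (GE k σ 𝒩 (a + n)) + (n : ℕ∞) ≤ Order.height (GE k σ 𝒩 a) := by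
  induction n with
  | zero => simp
  | succ n ih =>
    have h1 := ih (fun d hd hd' => h d hd (by push_cast; omega))
    have h2 := height_GE_succ_le k σ 𝒩 (h (a + n) (by omega) (by push_cast; omega))
    have e : a + ((n + 1 : ℕ) : ℤ) = a + n + 1 := by push_cast; ring
    rw [e]
    calc Order.height (GE k σ 𝒩 (a + n + 1)) + ((n + 1 : ℕ) : ℕ∞)
        = Order.height (GE k σ 𝒩 (a + n + 1)) + 1 + (n : ℕ∞) := by
          rw [Nat.cast_succ]; ac_rfl
      _ ≤ Order.height (GE k σ 𝒩 (a + n)) + (n : ℕ∞) := by gcongr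
      _ ≤ _ := h1

end len

section cyclic

variable (k : Type u) [Field k] (r : ℕ)
variable {Q : Type u} [AddCommGroup Q] [Module k Q] [Module (MvPolynomial (Fin (r + 1)) k) Q]
  [IsScalarTower k (MvPolynomial (Fin (r + 1)) k) Q]
  (𝒬 : ℤ → Submodule k Q) [Decomposition 𝒬] [SetLike.GradedSMul (stdGr k (Fin (r + 1))) 𝒬]
  (φ : MvPolynomial (Fin (r + 1)) k →ₗ[MvPolynomial (Fin (r + 1)) k] Q) (hφ : Function.Surjective φ)
  (hφg : IsGrHom (stdGr k (Fin (r + 1))) 𝒬 φ)

include hφ hφg in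
theorem exists_piece_preimage {d : ℤ} {y : Q} (hy : y ∈ 𝒬 d) :
    ∃ s ∈ stdGr k (Fin (r + 1)) d, φ s = y := by
  obtain ⟨s, rfl⟩ := hφ y
  have h1 := Helper66.Graded.decompose_grHom (sg k (r + 1)) (flat 𝒬) φ (fun g m hm => hφg g m hm) s d
  have h2 : (decompose (flat 𝒬) (φ s) d : Q) = φ s := decompose_of_mem_same (flat 𝒬) hy
  rw [h2] at h1
  exact ⟨(decompose (sg k (r + 1)) s d : MvPolynomial (Fin (r + 1)) k), SetLike.coe_mem _, h1.symm⟩

include hφ hφg in
theorem cyclic_piece_neg {d : ℤ} (hd : d < 0) : 𝒬 d = ⊥ := by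
  rw [eq_bot_iff]
  intro y hy
  obtain ⟨s, hs, rfl⟩ := exists_piece_preimage k r 𝒬 φ hφ hφg hy
  rw [stdGr_neg k (Fin (r + 1)) hd, Submodule.mem_bot] at hs
  rw [hs, map_zero]
  exact zero_mem _

include hφ hφg in
theorem cyclic_piece_zero {y : Q} (hy : y ∈ 𝒬 0) : ∃ c : k, y = c • φ 1 := by
  obtain ⟨s, hs, rfl⟩ := exists_piece_preimage k r 𝒬 φ hφ hφg hy
  rw [stdGr_zero, Submodule.mem_span_singleton] at hs
  obtain ⟨c, rfl⟩ := hs
  exact ⟨c, LinearMap.map_smul_of_tower φ c 1⟩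

theorem am_le_span_sg_one : (am k (r + 1)).toIdeal ≤
    Ideal.span ((sg k (r + 1) 1 : AddSubgroup (MvPolynomial (Fin (r + 1)) k)) : Set (MvPolynomial (Fin (r + 1)) k)) := by
  rw [am_eq_Iv]
  apply Ideal.span_mono
  rintro _ ⟨j, _, rfl⟩
  exact X_mem_sg k (r + 1) j

include hφ hφg in
theorem cyclic_piece_succ {d : ℤ} (hd : 0 ≤ d) (h : 𝒬 d = ⊥) : 𝒬 (d + 1) = ⊥ := by
  rw [eq_bot_iff]
  intro y hy
  obtain ⟨s, hs, hsy⟩ := exists_piece_preimage k r 𝒬 φ hφ hφg hy
  have hs' : s ∈ (am k (r + 1)).toIdeal := Ideal.subset_span ⟨d + 1, by omega, hs⟩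
  have hy' : y ∈ Ideal.span ((sg k (r + 1) 1 : AddSubgroup (MvPolynomial (Fin (r + 1)) k)) :
      Set (MvPolynomial (Fin (r + 1)) k)) • (⊤ : Submodule (MvPolynomial (Fin (r + 1)) k) Q) := by
    have e : y = s • φ 1 := by rw [← hsy, ← map_smul, smul_eq_mul, mul_one]
    rw [e]
    exact Submodule.smul_mem_smul (am_le_span_sg_one k r hs') trivial
  have h1 := decompose_mem_smul_span (𝒜 := sg k (r + 1)) (flat 𝒬) hy' (d + 1)
  have h2 : (decompose (flat 𝒬) y (d + 1) : Q) = y := decompose_of_mem_same (flat 𝒬) hy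
  rw [h2, show d + 1 - 1 = d by ring] at h1
  have h3 : Submodule.span (MvPolynomial (Fin (r + 1)) k) ((flat 𝒬 d : AddSubgroup Q) : Set Q) = ⊥ := by
    rw [Submodule.span_eq_bot]
    intro x hx
    have hx' : x ∈ 𝒬 d := hx
    rw [h] at hx'
    exact (Submodule.mem_bot _).1 hx'
  rw [h3, Submodule.smul_bot] at h1
  exact h1

include hφ hφg in
theorem cyclic_piece_ne_bot {g : ℤ} (hg : 𝒬 g ≠ ⊥) : ∀ d : ℤ, 0 ≤ d → d ≤ g → 𝒬 d ≠ ⊥ := by
  intro d hd hdg hbot
  have key : ∀ n : ℕ, 𝒬 (d + n) = ⊥ := by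
    intro n
    induction n with
    | zero => simpa using hbot
    | succ n ih =>
      have := cyclic_piece_succ k r 𝒬 φ hφ hφg (d := d + n) (by omega) ih
      have e : d + ((n + 1 : ℕ) : ℤ) = d + n + 1 := by push_cast; ring
      rw [e]
      exact this
  apply hg
  have := key (g - d).toNat
  rwa [show d + ((g - d).toNat : ℤ) = g by omega] at this

end cyclic

section degone

variable (k : Type u) [Field k] (r : ℕ)
variable {M : Type u} [AddCommGroup M] [Module k M] [Module (MvPolynomial (Fin (r + 1)) k) M]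
  [IsScalarTower k (MvPolynomial (Fin (r + 1)) k) M]
  (ℳ : ℤ → Submodule k M) [Decomposition ℳ] [SetLike.GradedSMul (stdGr k (Fin (r + 1))) ℳ]
  (π : MvPolynomial (Fin (r + 1)) k →ₗ[MvPolynomial (Fin (r + 1)) k] M) (hπ : Function.Surjective π)
  (hπg : IsGrHom (stdGr k (Fin (r + 1))) ℳ π)
  (ys : List (MvPolynomial (Fin (r + 1)) k)) (hys : ∀ y ∈ ys, y ∈ stdGr k (Fin (r + 1)) 1)

include hπ hπg hys in
/-- the degree one part of `(ys) M` is spanned over `k` by the images of the `ys` -/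
theorem decompose_one_mem_span {m : M}
    (hm : m ∈ Ideal.ofList ys • (⊤ : Submodule (MvPolynomial (Fin (r + 1)) k) M)) :
    (decompose (flat ℳ) m 1 : M) ∈ Submodule.span k ((fun y => π y) '' {y | y ∈ ys}) := by
  have key : ∀ a ∈ Ideal.ofList ys, ∀ m' : M,
      (decompose (flat ℳ) (a • m') 1 : M) ∈ Submodule.span k ((fun y => π y) '' {y | y ∈ ys}) := by
    intro a ha
    change a ∈ Submodule.span _ _ at ha
    induction ha using Submodule.span_induction with
    | mem y hy =>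
      intro m'
      have h1 := Helper66.Graded.decompose_smul_homog (sg k (r + 1)) (flat ℳ)
        (show y ∈ sg k (r + 1) 1 from hys y hy) m' 0
      rw [show (1 : ℤ) + 0 = 1 by ring] at h1
      rw [h1]
      obtain ⟨c, hc⟩ := cyclic_piece_zero k r ℳ π hπ hπg
        (show (decompose (flat ℳ) m' 0 : M) ∈ ℳ 0 from SetLike.coe_mem _)
      rw [hc, smul_comm, ← map_smul, smul_eq_mul, mul_one]
      exact Submodule.smul_mem _ _ (Submodule.subset_span ⟨y, hy, rfl⟩)
    | zero =>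
      intro m'
      rw [zero_smul, decompose_zero]
      exact zero_mem _
    | add a₁ a₂ _ _ h₁ h₂ =>
      intro m'
      rw [add_smul, decompose_add]
      exact add_mem (h₁ m') (h₂ m')
    | smul c a₁ _ h₁ =>
      intro m'
      rw [smul_eq_mul, mul_comm, mul_smul]
      exact h₁ (c • m')
  refine Submodule.smul_induction_on hm (fun a ha m' _ => key a ha m') ?_
  intro x y hx hy
  rw [decompose_add]
  exact add_mem hx hy

variable (hlin : ∀ x : MvPolynomial (Fin (r + 1)) k, x ∈ stdGr k (Fin (r + 1)) 1 → π x = 0 → x = 0)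
variable {N : Type u} [AddCommGroup N] [Module k N] [Module (MvPolynomial (Fin (r + 1)) k) N]
  [IsScalarTower k (MvPolynomial (Fin (r + 1)) k) N]
  (𝒩 : ℤ → Submodule k N) [Decomposition 𝒩] [SetLike.GradedSMul (stdGr k (Fin (r + 1))) 𝒩]
  (σ : M →ₗ[MvPolynomial (Fin (r + 1)) k] N) (hσg : IsGrHom ℳ 𝒩 σ)
  (hker : LinearMap.ker σ = Ideal.ofList ys • (⊤ : Submodule (MvPolynomial (Fin (r + 1)) k) M))

include hπ hπg hys hlin hker in
/-- a linear form killed by `σ ∘ π` is a `k`-linear combination of the `ys` -/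
theorem mem_span_of_linear_form {x : MvPolynomial (Fin (r + 1)) k} (hx : x ∈ stdGr k (Fin (r + 1)) 1)
    (h0 : σ (π x) = 0) : x ∈ Submodule.span k {y | y ∈ ys} := by
  have h1 : π x ∈ LinearMap.ker σ := h0
  rw [hker] at h1
  have h2 := decompose_one_mem_span k r ℳ π hπ hπg ys hys h1
  have h3 : (decompose (flat ℳ) (π x) 1 : M) = π x :=
    decompose_of_mem_same (flat ℳ) (show π x ∈ flat ℳ 1 from hπg 1 x hx)
  rw [h3] at h2
  have h4 : Submodule.span k ((fun y => π y) '' {y | y ∈ ys}) =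
      (Submodule.span k {y | y ∈ ys}).map (π.restrictScalars k) := by
    rw [Submodule.map_span]
    rfl
  rw [h4] at h2
  obtain ⟨z, hz, hzx⟩ := h2
  have hz1 : z ∈ stdGr k (Fin (r + 1)) 1 :=
    (Submodule.span_le.2 (fun y hy => hys y hy)) hz
  have h5 : x - z = 0 := by
    apply hlin _ (sub_mem hx hz1)
    rw [map_sub, sub_eq_zero]
    exact hzx.symm
  rw [sub_eq_zero] at h5
  rw [h5]
  exact hz

include hπ hπg hys hlin hσg hker in
theorem exists_linearIndependent_deg_one :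
    ∃ (c : ℕ) (v : Fin c → N), (r : ℤ) + 1 - (ys.length : ℤ) ≤ (c : ℤ) ∧ (∀ i, v i ∈ 𝒩 1) ∧
      LinearIndependent k v := by
  classical
  let L : (Fin (r + 1) → k) →ₗ[k] MvPolynomial (Fin (r + 1)) k :=
    Fintype.linearCombination k (fun j : Fin (r + 1) => (X j : MvPolynomial (Fin (r + 1)) k))
  have hLinj : Function.Injective L :=
    (MvPolynomial.linearIndependent_X (R := k) (σ := Fin (r + 1))).fintypeLinearCombination_injective
  have hL1 : ∀ c, L c ∈ stdGr k (Fin (r + 1)) 1 := by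
    intro c
    rw [Fintype.linearCombination_apply]
    exact Submodule.sum_mem _ (fun j _ => Submodule.smul_mem _ _ (X_mem_sg k (r + 1) j))
  let ψ : (Fin (r + 1) → k) →ₗ[k] N :=
    (σ.restrictScalars k) ∘ₗ (π.restrictScalars k) ∘ₗ L
  have hψ : ∀ c, ψ c = σ (π (L c)) := fun c => rfl
  let W : Submodule k (MvPolynomial (Fin (r + 1)) k) := Submodule.span k {y | y ∈ ys}
  have hW : Module.finrank k W ≤ ys.length := by
    have h1 : {y | y ∈ ys} = ((ys.toFinset : Finset _) : Set (MvPolynomial (Fin (r + 1)) k)) := by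
      ext y; simp
    have h2 := finrank_span_finset_le_card (R := k) ys.toFinset
    have h3 := List.toFinset_card_le ys
    change Module.finrank k (Submodule.span k {y | y ∈ ys}) ≤ _
    rw [h1]
    exact le_trans h2 h3
  have hWfin : Module.Finite k W := by
    have h1 : {y | y ∈ ys} = ((ys.toFinset : Finset _) : Set (MvPolynomial (Fin (r + 1)) k)) := by
      ext y; simp
    change Module.Finite k (Submodule.span k {y | y ∈ ys})
    rw [h1]
    exact Module.Finite.span_finset k _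
  have hkerW : ∀ c ∈ LinearMap.ker ψ, L c ∈ W := by
    intro c hc
    exact mem_span_of_linear_form k r ℳ π hπ hπg ys hys hlin σ hker (hL1 c) hc
  let Θ : LinearMap.ker ψ →ₗ[k] W :=
    LinearMap.codRestrict W (L ∘ₗ (LinearMap.ker ψ).subtype) (fun c => hkerW c.1 c.2)
  have hΘ : Function.Injective Θ := by
    intro a b hab
    have h1 : L a.1 = L b.1 := congrArg Subtype.val hab
    exact Subtype.ext (hLinj h1)
  have hk : Module.finrank k (LinearMap.ker ψ) ≤ ys.length :=
    le_trans (LinearMap.finrank_le_finrank_of_injective hΘ) hW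
  have hrn := LinearMap.finrank_range_add_finrank_ker ψ
  rw [Module.finrank_fin_fun] at hrn
  let b := Module.finBasis k (LinearMap.range ψ)
  refine ⟨Module.finrank k (LinearMap.range ψ), fun i => ((b i : LinearMap.range ψ) : N), by omega, ?_, ?_⟩
  · intro i
    obtain ⟨c, hc⟩ := (b i).2
    change ((b i : LinearMap.range ψ) : N) ∈ 𝒩 1
    rw [← hc, hψ]
    exact hσg 1 _ (hπg 1 _ (hL1 c))
  · exact b.linearIndependent.map' (LinearMap.range ψ).subtype (Submodule.ker_subtype _)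

end degone

section main

variable (k : Type u) [Field k] (r : ℕ)
variable {M : Type u} [AddCommGroup M] [Module k M] [Module (MvPolynomial (Fin (r + 1)) k) M]
  [IsScalarTower k (MvPolynomial (Fin (r + 1)) k) M]
  (ℳ : ℤ → Submodule k M) [Decomposition ℳ] [SetLike.GradedSMul (stdGr k (Fin (r + 1))) ℳ]
  (π : MvPolynomial (Fin (r + 1)) k →ₗ[MvPolynomial (Fin (r + 1)) k] M) (hπ : Function.Surjective π)
  (hπg : IsGrHom (stdGr k (Fin (r + 1))) ℳ π)
  (hlin : ∀ x : MvPolynomial (Fin (r + 1)) k, x ∈ stdGr k (Fin (r + 1)) 1 → π x = 0 → x = 0)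
  (ys : List (MvPolynomial (Fin (r + 1)) k)) (hys : ∀ y ∈ ys, y ∈ stdGr k (Fin (r + 1)) 1)
variable {N : Type u} [AddCommGroup N] [Module k N] [Module (MvPolynomial (Fin (r + 1)) k) N]
  [IsScalarTower k (MvPolynomial (Fin (r + 1)) k) N]
  (𝒩 : ℤ → Submodule k N) [Decomposition 𝒩] [SetLike.GradedSMul (stdGr k (Fin (r + 1))) 𝒩]
  (σ : M →ₗ[MvPolynomial (Fin (r + 1)) k] N) (hσ : Function.Surjective σ) (hσg : IsGrHom ℳ 𝒩 σ)
  (hker : LinearMap.ker σ = Ideal.ofList ys • (⊤ : Submodule (MvPolynomial (Fin (r + 1)) k) M))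

include hπ hπg hlin hys hσ hσg hker in
/-- `M = S/I` without linear forms in `I`, `N = M/(ys)M` for linear forms `ys`: every degree `g`
with `N_g ≠ 0` satisfies `g + (r + 1 - |ys|) ≤ length N`. -/
theorem add_codim_le_length (ℓ : ℕ)
    (hℓ : Module.length (MvPolynomial (Fin (r + 1)) k) N = (ℓ : ℕ∞)) {g : ℤ} (hg : 𝒩 g ≠ ⊥) :
    g + ((r : ℤ) + 1 - (ys.length : ℤ)) ≤ (ℓ : ℤ) := by
  have hρ : Function.Surjective (σ ∘ₗ π) := hσ.comp hπ
  have hρg : IsGrHom (stdGr k (Fin (r + 1))) 𝒩 (σ ∘ₗ π) := fun d x hx => hσg d _ (hπg d x hx)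
  have hg0 : 0 ≤ g := by
    by_contra hneg
    exact hg (cyclic_piece_neg k r 𝒩 (σ ∘ₗ π) hρ hρg (by omega))
  have hne := cyclic_piece_ne_bot k r 𝒩 (σ ∘ₗ π) hρ hρg hg
  obtain ⟨c, v, hc, hv, hli⟩ :=
    exists_linearIndependent_deg_one k r ℳ π hπ hπg ys hys hlin 𝒩 σ hσg hker
  have h0 := height_GE_succ_le k (Fin (r + 1)) 𝒩 (d := 0) (hne 0 le_rfl hg0)
  rw [zero_add] at h0
  have h1 := height_GE_add_le k (Fin (r + 1)) 𝒩 (d := 1) v hv hli
  rw [show (1 : ℤ) + 1 = 2 by norm_num] at h1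
  have h2 := height_GE_chain k (Fin (r + 1)) 𝒩 2 (g - 1).toNat
    (fun d hd hd' => hne d (by omega) (by omega))
  have h3 : Order.height (GE k (Fin (r + 1)) 𝒩 0) ≤ (ℓ : ℕ∞) := by
    rw [← hℓ, Module.length_eq_height]
    exact Order.height_mono le_top
  have h4 : (((g - 1).toNat : ℕ) : ℕ∞) ≤ Order.height (GE k (Fin (r + 1)) 𝒩 2) :=
    le_trans le_add_self h2
  have h5 : (((g - 1).toNat : ℕ) : ℕ∞) + (c : ℕ∞) + 1 ≤ (ℓ : ℕ∞) :=
    calc (((g - 1).toNat : ℕ) : ℕ∞) + (c : ℕ∞) + 1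
        ≤ Order.height (GE k (Fin (r + 1)) 𝒩 2) + (c : ℕ∞) + 1 := by gcongr
      _ ≤ Order.height (GE k (Fin (r + 1)) 𝒩 1) + 1 := by gcongr
      _ ≤ Order.height (GE k (Fin (r + 1)) 𝒩 0) := h0
      _ ≤ _ := h3
  have h6 : (g - 1).toNat + c + 1 ≤ ℓ := by exact_mod_cast h5
  omega

end main

end Groth.Agent.Lib.Helper77.GLC
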