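import Mathlib
import Groth.Prelude.Def_GrLC
import Groth.Agent.Lib.Helper77.GLC23
import Groth.Prelude.Def_GrSyz

/-!
GLC24 (helper77): graded local cohomology with support in the *maximal ideal of a *local
non-negatively graded Noetherian ring: eventual vanishing and Artinianness of the pieces over `R_0`.
-/

set_option autoImplicit false
set_option linter.unusedSectionVars false
universe u

namespace Groth.Agent.Lib.Helper77.GLC

open GrLC DirectSum

section vanish'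

variable {R : Type u} [CommRing R] [IsNoetherianRing R] {𝒜 : ℤ → AddSubgroup R} [GradedRing 𝒜]

/-- **eventual vanishing**, for an ideal containing the irrelevant ideal and generated by homogeneous
elements of non-negative degrees. -/
theorem exists_HV_above' (hpos : ∀ n : ℤ, n < 0 → 𝒜 n = ⊥) (a : HomogeneousIdeal 𝒜)
    (ha : ∀ n : ℤ, 0 < n → ∀ r ∈ 𝒜 n, r ∈ a.toIdeal) (xs : List R) :
    ∀ (𝔠 : Ideal R) (_ : ∀ x ∈ xs, x ∈ a.toIdeal ∧ ∃ e : ℤ, 0 ≤ e ∧ x ∈ 𝒜 e)
      (_ : a.toIdeal ≤ 𝔠 ⊔ Ideal.ofList xs)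
      (M : Type u) [AddCommGroup M] [Module R M] (ℳ : ℤ → AddSubgroup M) [Decomposition ℳ]
      [SetLike.GradedSMul 𝒜 ℳ] [Module.Finite R M] (_ : ∀ r ∈ 𝔠, ∀ m : M, r • m = 0)
      (EM : StarInjRes 𝒜 ℳ), ∃ r : ℤ, ∀ (i : ℕ) (g : ℤ), r ≤ g → HV EM a.toIdeal i g := by
  induction xs with
  | nil =>
    intro 𝔠 _ hle M _ _ ℳ _ _ _ hc EM
    rw [Ideal.ofList_nil, sup_bot_eq] at hle
    have hkill : ∀ r ∈ a.toIdeal, ∀ m : M, r • m = 0 := fun r hr m => hc r (hle hr) m
    obtain ⟨D, hD⟩ := exists_piece_eq_bot_above (𝒜 := 𝒜) hpos ℳ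
      (fun n hn r hr m => hkill r (ha n hn r hr) m)
    refine ⟨D + 1, fun i g hg => ?_⟩
    cases i with
    | zero =>
      rw [HV_zero_iff]
      intro n hn _
      rw [hD g (by omega)] at hn
      exact (AddSubgroup.mem_bot).1 hn
    | succ i =>
      refine HV_of_torsion EM a (fun m => ⟨1, fun r hr => ?_⟩) (i + 1) (Nat.succ_pos i) g
      rw [pow_one] at hr
      exact hkill r hr m
  | cons x xs ih =>
    intro 𝔠 hxs hle M _ _ ℳ _ _ _ hc EM
    obtain ⟨hxa, e, he, hx⟩ := hxs x (List.mem_cons_self ..)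
    have hxs' : ∀ y ∈ xs, y ∈ a.toIdeal ∧ ∃ e : ℤ, 0 ≤ e ∧ y ∈ 𝒜 e :=
      fun y hy => hxs y (List.mem_cons_of_mem _ hy)
    have hle' : a.toIdeal ≤ (𝔠 ⊔ Ideal.span {x}) ⊔ Ideal.ofList xs := by
      rw [Ideal.ofList_cons, ← sup_assoc] at hle
      exact hle
    have hmem : ∀ r ∈ 𝔠 ⊔ Ideal.span {x}, ∃ c ∈ 𝔠, ∃ t : R, r = c + t * x := by
      intro r hr
      obtain ⟨c, hc', y, hy, rfl⟩ := Submodule.mem_sup.1 hr
      obtain ⟨t, rfl⟩ := Ideal.mem_span_singleton'.1 hy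
      exact ⟨c, hc', t, rfl⟩
    -- the kernel
    haveI : IsNoetherian R M := isNoetherian_of_isNoetherianRing_of_finite R M
    haveI : Module.Finite R (kerG hx ℳ).carrier :=
      Module.IsNoetherian.finite R ↥(LinearMap.ker (x • (LinearMap.id : M →ₗ[R] M)))
    obtain ⟨EK⟩ := exists_res (𝒜 := 𝒜) (kerG hx ℳ).carrier (kerG hx ℳ).gr
    have hcK : ∀ r ∈ 𝔠 ⊔ Ideal.span {x}, ∀ k : (kerG hx ℳ).carrier, r • k = 0 := by
      intro r hr k
      obtain ⟨c, hc', t, rfl⟩ := hmem r hr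
      apply Subtype.ext
      have hk : x • (k.1 : M) = 0 := LinearMap.mem_ker.1 k.2
      change (c + t * x) • (k.1 : M) = 0
      rw [add_smul, hc c hc', mul_smul, hk, smul_zero, add_zero]
    obtain ⟨rK, hrK⟩ := ih (𝔠 ⊔ Ideal.span {x}) hxs' hle' (kerG hx ℳ).carrier (kerG hx ℳ).gr hcK EK
    -- the cokernel
    have hQhom : (LinearMap.range (x • (LinearMap.id : M →ₗ[R] M))).IsHomogeneous ℳ :=
      range_smul_isHomogeneous' hx
    let _ : Decomposition (Helper66.GradedQuot.qpiece ℳ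
        (LinearMap.range (x • (LinearMap.id : M →ₗ[R] M)))) :=
      Helper66.GradedQuot.quotDecomposition ℳ _ hQhom
    let _ : SetLike.GradedSMul 𝒜 (Helper66.GradedQuot.qpiece ℳ
        (LinearMap.range (x • (LinearMap.id : M →ₗ[R] M)))) :=
      Helper66.GradedQuot.quotGradedSMul 𝒜 ℳ _
    obtain ⟨EC⟩ := exists_res (𝒜 := 𝒜) (M ⧸ LinearMap.range (x • (LinearMap.id : M →ₗ[R] M)))
      (Helper66.GradedQuot.qpiece ℳ (LinearMap.range (x • (LinearMap.id : M →ₗ[R] M))))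
    have hcC : ∀ r ∈ 𝔠 ⊔ Ideal.span {x},
        ∀ k : M ⧸ LinearMap.range (x • (LinearMap.id : M →ₗ[R] M)), r • k = 0 := by
      intro r hr k
      obtain ⟨c, hc', t, rfl⟩ := hmem r hr
      obtain ⟨m, rfl⟩ := Submodule.mkQ_surjective _ k
      rw [← map_smul, add_smul, hc c hc', zero_add, ← LinearMap.mem_ker, Submodule.ker_mkQ]
      exact ⟨t • m, by
        change x • (t • m) = (t * x) • m
        rw [smul_smul, mul_comm]⟩
    obtain ⟨rC, hrC⟩ := ih (𝔠 ⊔ Ideal.span {x}) hxs' hle'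
      (M ⧸ LinearMap.range (x • (LinearMap.id : M →ₗ[R] M)))
      (Helper66.GradedQuot.qpiece ℳ (LinearMap.range (x • (LinearMap.id : M →ₗ[R] M)))) hcC EC
    refine ⟨max rK (rC - e), fun i g hg => ?_⟩
    refine HV_of_smul_injective EM hx hxa i {g | max rK (rC - e) ≤ g} ?_ ?_ g hg
    · intro g hg
      simp only [Set.mem_ofPred_eq] at hg ⊢
      omega
    · intro g hg
      simp only [Set.mem_ofPred_eq] at hg
      cases i with
      | zero => exact smul_injective_zero a hx EM EK g (hrK 0 g (le_trans (le_max_left _ _) hg))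
      | succ i =>
        refine smul_injective_succ a hx (Submodule.mkQ _) (Helper66.GradedQuot.mkQ_grHom ℳ _)
          (Submodule.mkQ_surjective _) (Submodule.ker_mkQ _) EM EC EK i g
          (hrK (i + 1) g (le_trans (le_max_left _ _) hg)) (hrC i (e + g) ?_)
        have := le_trans (le_max_right rK (rC - e)) hg
        omega

end vanish'

section starlocal

variable {R : Type u} [CommRing R] [IsNoetherianRing R] {𝒜 : ℤ → AddSubgroup R} [GradedRing 𝒜]

theorem irrel_le_geSub (hpos : ∀ n : ℤ, n < 0 → 𝒜 n = ⊥) :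
    (GrSyz.irrel 𝒜).toIdeal ≤ geSub hpos 𝒜 1 := by
  change Ideal.span _ ≤ _
  rw [Ideal.span_le]
  rintro r ⟨n, hn, hr⟩
  exact piece_le_geSub hpos 𝒜 (by omega) hr

theorem decompose_zero_of_mem_irrel (hpos : ∀ n : ℤ, n < 0 → 𝒜 n = ⊥) {v : R}
    (hv : v ∈ (GrSyz.irrel 𝒜).toIdeal) : (decompose 𝒜 v 0 : R) = 0 :=
  (mem_geSub hpos 𝒜).1 (irrel_le_geSub hpos hv) 0 (by norm_num)

theorem pos_le_irrel (n : ℤ) (hn : 0 < n) (r : R) (hr : r ∈ 𝒜 n) : r ∈ (GrSyz.irrel 𝒜).toIdeal :=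
  Ideal.subset_span ⟨n, hn, hr⟩

/-- in a *local non-negatively graded ring the irrelevant ideal lies in the *maximal ideal -/
theorem irrel_le_of_isStarLocal (hpos : ∀ n : ℤ, n < 0 → 𝒜 n = ⊥) (m : HomogeneousIdeal 𝒜)
    (hm : IsStarLocal 𝒜 m) : (GrSyz.irrel 𝒜).toIdeal ≤ m.toIdeal := by
  classical
  by_contra hnot
  have hlt : m < m ⊔ GrSyz.irrel 𝒜 := by
    refine lt_of_le_of_ne le_sup_left (fun heq => hnot ?_)
    have h1 : GrSyz.irrel 𝒜 ≤ m ⊔ GrSyz.irrel 𝒜 := le_sup_right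
    rw [← heq] at h1
    exact h1
  have htop := hm.1.2 _ hlt
  have h1 : (1 : R) ∈ (m ⊔ GrSyz.irrel 𝒜).toIdeal := by
    rw [htop]
    trivial
  rw [HomogeneousIdeal.toIdeal_sup] at h1
  obtain ⟨u, hu, v, hv, huv⟩ := Submodule.mem_sup.1 h1
  have h2 : (decompose 𝒜 (u + v) 0 : R) = 1 := by
    rw [huv]
    exact decompose_of_mem_same 𝒜 (SetLike.GradedOne.one_mem (A := 𝒜))
  rw [decompose_add, DirectSum.add_apply, AddSubgroup.coe_add, decompose_zero_of_mem_irrel hpos hv,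
    add_zero] at h2
  have h3 : (1 : R) ∈ m.toIdeal := h2 ▸ m.isHomogeneous 0 hu
  apply hm.1.1
  apply HomogeneousIdeal.toIdeal_injective
  rw [HomogeneousIdeal.toIdeal_top]
  exact (Ideal.eq_top_iff_one _).2 h3

/-- in a *local non-negatively graded ring, the degree zero part of the *maximal ideal is a maximal
ideal of `R_0` -/
theorem isMaximal_comap_of_isStarLocal (hpos : ∀ n : ℤ, n < 0 → 𝒜 n = ⊥) (m : HomogeneousIdeal 𝒜)
    (hm : IsStarLocal 𝒜 m) : (m.toIdeal.comap (deg0 𝒜).subtype).IsMaximal := by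
  classical
  rw [Ideal.isMaximal_def]
  constructor
  · intro htop
    have h1 : (1 : deg0 𝒜) ∈ m.toIdeal.comap (deg0 𝒜).subtype := by rw [htop]; trivial
    have h3 : (1 : R) ∈ m.toIdeal := h1
    apply hm.1.1
    apply HomogeneousIdeal.toIdeal_injective
    rw [HomogeneousIdeal.toIdeal_top]
    exact (Ideal.eq_top_iff_one _).2 h3
  · intro J hJ
    obtain ⟨j, hjJ, hjm⟩ := SetLike.exists_of_lt hJ
    let J' : HomogeneousIdeal 𝒜 :=
      ⟨Ideal.span (((↑) : deg0 𝒜 → R) '' (J : Set (deg0 𝒜))),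
        Ideal.homogeneous_span 𝒜 _ (by
          rintro _ ⟨y, _, rfl⟩
          exact ⟨0, y.2⟩)⟩
    have hle : m ≤ J' ⊔ GrSyz.irrel 𝒜 := by
      intro u hu
      change u ∈ (J' ⊔ GrSyz.irrel 𝒜).toIdeal
      rw [HomogeneousIdeal.toIdeal_sup]
      have h0 : (decompose 𝒜 u 0 : R) ∈ m.toIdeal := m.isHomogeneous 0 hu
      have h1 : (⟨(decompose 𝒜 u 0 : R), SetLike.coe_mem _⟩ : deg0 𝒜) ∈ J := hJ.le h0
      have h2 : u - (decompose 𝒜 u 0 : R) ∈ (GrSyz.irrel 𝒜).toIdeal :=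
        sub_decompose_zero_mem hpos _ pos_le_irrel u
      have : u = (decompose 𝒜 u 0 : R) + (u - (decompose 𝒜 u 0 : R)) := by abel
      rw [this]
      exact Submodule.add_mem_sup (Ideal.subset_span ⟨_, h1, rfl⟩) h2
    have hlt : m < J' ⊔ GrSyz.irrel 𝒜 := by
      refine lt_of_le_of_ne hle (fun heq => hjm ?_)
      change (j : R) ∈ m.toIdeal
      have : (j : R) ∈ (J' ⊔ GrSyz.irrel 𝒜).toIdeal := by
        rw [HomogeneousIdeal.toIdeal_sup]
        exact Submodule.mem_sup_left (Ideal.subset_span ⟨j, hjJ, rfl⟩)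
      rw [← heq] at this
      exact this
    have htop := hm.1.2 _ hlt
    have h1 : (1 : R) ∈ (J' ⊔ GrSyz.irrel 𝒜).toIdeal := by
      rw [htop]
      trivial
    rw [HomogeneousIdeal.toIdeal_sup] at h1
    obtain ⟨w, hw, v, hv, hwv⟩ := Submodule.mem_sup.1 h1
    have h2 : (decompose 𝒜 (w + v) 0 : R) = 1 := by
      rw [hwv]
      exact decompose_of_mem_same 𝒜 (SetLike.GradedOne.one_mem (A := 𝒜))
    rw [decompose_add, DirectSum.add_apply, AddSubgroup.coe_add,
      decompose_zero_of_mem_irrel hpos hv, add_zero] at h2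
    have h3 : (decompose 𝒜 w 0 : R) ∈ J'.toIdeal := J'.isHomogeneous 0 hw
    have h4 := mem_of_coe_mem_span_deg0 𝒜 J ⟨(decompose 𝒜 w 0 : R), SetLike.coe_mem _⟩ h3
    have h5 : (⟨(decompose 𝒜 w 0 : R), SetLike.coe_mem _⟩ : deg0 𝒜) = 1 := Subtype.ext h2
    rw [h5] at h4
    exact (Ideal.eq_top_iff_one _).2 h4

end starlocal

section artbase

variable {A : Type*} [CommRing A] {X : Type*} [AddCommGroup X] [Module A X]

/-- a finitely generated module killed by a maximal ideal is Artinian -/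
theorem isArtinian_of_fg_of_kill (I : Ideal A) [hI : I.IsMaximal] (hfg : (⊤ : Submodule A X).FG)
    (hkill : ∀ r ∈ I, ∀ x : X, r • x = 0) : IsArtinian A X := by
  haveI : Module.Finite A X := ⟨hfg⟩
  have hM : Module.IsTorsionBySet A X (I : Set A) := fun x a => hkill a.1 a.2 x
  letI : Module (A ⧸ I) X := hM.module
  letI : Field (A ⧸ I) := Ideal.Quotient.field I
  haveI : Module.Finite (A ⧸ I) X := Module.Finite.of_restrictScalars_finite A (A ⧸ I) X
  haveI : IsArtinian (A ⧸ I) X := inferInstance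
  exact isArtinian_of_surjective_algebraMap (S := A) (R := A ⧸ I) Ideal.Quotient.mk_surjective

end artbase

section gens

variable {R : Type u} [CommRing R] [IsNoetherianRing R] {𝒜 : ℤ → AddSubgroup R} [GradedRing 𝒜]

/-- a homogeneous ideal of a Noetherian non-negatively graded ring is generated by a finite list of
homogeneous elements of non-negative degrees -/
theorem exists_homogeneous_generators (hpos : ∀ n : ℤ, n < 0 → 𝒜 n = ⊥) (m : HomogeneousIdeal 𝒜) :
    ∃ xs : List R, (∀ x ∈ xs, x ∈ m.toIdeal ∧ ∃ e : ℤ, 0 ≤ e ∧ x ∈ 𝒜 e) ∧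
      m.toIdeal ≤ ⊥ ⊔ Ideal.ofList xs := by
  classical
  have hspan : m.toIdeal = Ideal.span {x | x ∈ m.toIdeal ∧ ∃ e : ℤ, x ∈ 𝒜 e} := by
    apply le_antisymm
    · intro u hu
      rw [← DirectSum.sum_support_decompose 𝒜 u]
      exact Ideal.sum_mem _ (fun n _ => Ideal.subset_span ⟨m.isHomogeneous n hu, n, SetLike.coe_mem _⟩)
    · rw [Ideal.span_le]
      exact fun x hx => hx.1
  have hfg : (Ideal.span {x | x ∈ m.toIdeal ∧ ∃ e : ℤ, x ∈ 𝒜 e}).FG := IsNoetherian.noetherian _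
  obtain ⟨s', hs', hsp⟩ := (Submodule.fg_span_iff_fg_span_finset_subset _).1 hfg
  refine ⟨s'.toList, ?_, ?_⟩
  · intro x hx
    obtain ⟨hxm, e, hxe⟩ := hs' (Finset.mem_toList.1 hx)
    refine ⟨hxm, ?_⟩
    by_cases he : e < 0
    · refine ⟨0, le_rfl, ?_⟩
      rw [eq_zero_of_mem_neg' hpos he hxe]
      exact zero_mem _
    · exact ⟨e, by omega, hxe⟩
  · rw [bot_sup_eq]
    conv_lhs => rw [hspan]
    change Submodule.span R _ ≤ _
    rw [hsp]
    apply Ideal.span_mono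
    intro x hx
    exact Finset.mem_toList.2 hx

end gens

end Groth.Agent.Lib.Helper77.GLC
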