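import Mathlib
import Groth.Prelude.Def_GrLC
import Groth.Agent.Lib.Helper77.GLC24

/-!
GLC25 (helper77): Artinianness over `R_0` of the homogeneous pieces of graded local cohomology with
support in the *maximal ideal of a *local non-negatively graded Noetherian ring.
-/

set_option autoImplicit false
set_option linter.unusedSectionVars false
universe u

namespace Groth.Agent.Lib.Helper77.GLC

open GrLC DirectSum

section pure

variable {A : Type*} [CommRing A]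
variable {X X' X'' : Type*} [AddCommGroup X] [Module A X] [AddCommGroup X'] [Module A X']
  [AddCommGroup X''] [Module A X'']

/-- the Artinian analogue of `fg_of_exact` -/
theorem artinian_of_exact (Z B : Submodule A X) (Z' B' : Submodule A X') (Z'' B'' : Submodule A X'')
    (φ : X' →ₗ[A] X) (ψ : X →ₗ[A] X'')
    (hφB : B' ≤ B.comap φ) (hψZ : Z ≤ Z''.comap ψ) (hψB : B ≤ B''.comap ψ)
    (hex : ∀ z ∈ Z, ψ z ∈ B'' → ∃ z' ∈ Z', z - φ z' ∈ B)
    (h' : IsArtinian A ↥(Z'.map B'.mkQ)) (h'' : IsArtinian A ↥(Z''.map B''.mkQ)) :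
    IsArtinian A ↥(Z.map B.mkQ) := by
  set H := Z.map B.mkQ with hH
  set H' := Z'.map B'.mkQ with hH'
  set H'' := Z''.map B''.mkQ with hH''
  let φb := B'.mapQ B φ hφB
  let ψb := B.mapQ B'' ψ hψB
  have hψH : ∀ x : H, ψb x.1 ∈ H'' := by
    rintro ⟨_, ⟨z, hz, rfl⟩⟩
    exact ⟨ψ z, hψZ hz, rfl⟩
  let g : H →ₗ[A] H'' := LinearMap.codRestrict H'' (ψb ∘ₗ H.subtype) hψH
  have hker : ∀ x : LinearMap.ker g, ((x : H) : X ⧸ B) ∈ H'.map φb := by
    rintro ⟨⟨_, ⟨z, hz, rfl⟩⟩, hk⟩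
    have hk1 : g ⟨B.mkQ z, ⟨z, hz, rfl⟩⟩ = 0 := hk
    have hk2 : B''.mkQ (ψ z) = 0 := congrArg Subtype.val hk1
    rw [Submodule.mkQ_apply, Submodule.Quotient.mk_eq_zero] at hk2
    obtain ⟨z', hz', hzz'⟩ := hex z hz hk2
    refine ⟨B'.mkQ z', ⟨z', hz', rfl⟩, ?_⟩
    change B.mkQ (φ z') = B.mkQ z
    rw [Submodule.mkQ_apply, Submodule.mkQ_apply, eq_comm, Submodule.Quotient.eq]
    exact hzz'
  haveI : IsArtinian A ↥(H'.map φb) :=
    isArtinian_of_surjective _ (φb.submoduleMap H') (LinearMap.submoduleMap_surjective φb H')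
  let ι : LinearMap.ker g →ₗ[A] ↥(H'.map φb) :=
    LinearMap.codRestrict (H'.map φb) (H.subtype ∘ₗ (LinearMap.ker g).subtype) hker
  have hι : Function.Injective ι := by
    intro x y hxy
    have h1 : ((x : H) : X ⧸ B) = ((y : H) : X ⧸ B) :=
      congrArg (fun t : ↥(H'.map φb) => (t : X ⧸ B)) hxy
    exact Subtype.ext (Subtype.ext h1)
  haveI : IsArtinian A ↥(LinearMap.ker g) := isArtinian_of_injective ι hι
  have hrk : LinearMap.range (LinearMap.ker g).subtype = LinearMap.ker g :=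
    Submodule.range_subtype (LinearMap.ker g)
  exact isArtinian_of_range_eq_ker (M := ↥(LinearMap.ker g)) (N := ↥H) (P := ↥H'')
    (LinearMap.ker g).subtype g hrk

end pure

section artdef

variable {ι : Type} [AddCommGroup ι] [DecidableEq ι] {R : Type u} [CommRing R]
variable {𝒜 : ι → AddSubgroup R} [GradedRing 𝒜]
variable {M : Type u} [AddCommGroup M] [Module R M] {ℳ : ι → AddSubgroup M} [Decomposition ℳ]
  [SetLike.GradedSMul 𝒜 ℳ]

/-- `H^i_a(M)_g` (computed from `E`) is an Artinian `R_0`-module -/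
def ArtHV (E : StarInjRes 𝒜 ℳ) (a : Ideal R) (i : ℕ) (g : ι) : Prop :=
  IsArtinian (deg0 𝒜) ↥((ZG E a i g).map (BG E a i g).mkQ)

theorem ArtHV_of_HV {E : StarInjRes 𝒜 ℳ} {a : Ideal R} {i : ℕ} {g : ι} (h : HV E a i g) :
    ArtHV E a i g := by
  have : (ZG E a i g).map (BG E a i g).mkQ = ⊥ := by
    rw [eq_bot_iff]
    rintro _ ⟨z, hz, rfl⟩
    rw [Submodule.mem_bot, Submodule.mkQ_apply, Submodule.Quotient.mk_eq_zero]
    exact h z hz.1 hz.2
  unfold ArtHV
  rw [this]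
  exact isArtinian_of_finite

theorem isArtinian_Hcomp_of_ArtHV (E : StarInjRes 𝒜 ℳ) (a : HomogeneousIdeal 𝒜) (i : ℕ) (g : ι)
    (h : ArtHV E a.toIdeal i g) : IsArtinian (deg0 𝒜) (E.Hcomp a i g) := by
  set Φ : ↥(ZG E a.toIdeal i g) →ₗ[deg0 𝒜] ((E.X i).carrier ⧸ BG E a.toIdeal i g) :=
    (BG E a.toIdeal i g).mkQ ∘ₗ (ZG E a.toIdeal i g).subtype with hΦ
  have hrange : LinearMap.range Φ = (ZG E a.toIdeal i g).map (BG E a.toIdeal i g).mkQ := by
    rw [hΦ, LinearMap.range_comp, Submodule.range_subtype]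
  haveI : IsArtinian (deg0 𝒜) ↥((ZG E a.toIdeal i g).map (BG E a.toIdeal i g).mkQ) := h
  haveI hfin : IsArtinian (deg0 𝒜) (LinearMap.range Φ) :=
    isArtinian_of_linearEquiv (LinearEquiv.ofEq _ _ hrange.symm)
  haveI hfin2 : IsArtinian (deg0 𝒜) (↥(ZG E a.toIdeal i g) ⧸ LinearMap.ker Φ) :=
    isArtinian_of_linearEquiv (LinearMap.quotKerEquivRange Φ).symm
  have hker : LinearMap.ker Φ ≤ LinearMap.ker (classMap E a i g) := by
    intro z hz
    have h1 : (BG E a.toIdeal i g).mkQ (z : (E.X i).carrier) = 0 := hz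
    rw [Submodule.mkQ_apply, Submodule.Quotient.mk_eq_zero] at h1
    rw [LinearMap.mem_ker]
    change E.toH a i ⟨z.1, _⟩ = 0
    rw [Submodule.mkQ_apply, Submodule.Quotient.mk_eq_zero]
    exact mem_cobdy_of_isBd h1
  have hr : LinearMap.range ((LinearMap.ker Φ).liftQ (classMap E a i g) hker) = E.Hcomp a i g := by
    rw [Submodule.range_liftQ, range_classMap]
  exact isArtinian_of_linearEquiv (LinearEquiv.ofEq _ _ hr)

end artdef

section lesArt

variable {ι : Type} [AddCommGroup ι] [DecidableEq ι] {R : Type u} [CommRing R]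
variable {𝒜 : ι → AddSubgroup R} [GradedRing 𝒜]
variable {M' : Type u} [AddCommGroup M'] [Module R M'] {ℳ' : ι → AddSubgroup M'} [Decomposition ℳ']
  [SetLike.GradedSMul 𝒜 ℳ']
variable {M : Type u} [AddCommGroup M] [Module R M] {ℳ : ι → AddSubgroup M} [Decomposition ℳ]
  [SetLike.GradedSMul 𝒜 ℳ]
variable {M'' : Type u} [AddCommGroup M''] [Module R M''] {ℳ'' : ι → AddSubgroup M''}
  [Decomposition ℳ''] [SetLike.GradedSMul 𝒜 ℳ'']
variable {f : M' →ₗ[R] M} {p : M →ₗ[R] M''}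

/-- a cocycle of `E'` whose image in the horseshoe resolution is a coboundary is cohomologous to the
image under the connecting map `θ` of a cocycle of `E''`. -/
theorem Horse.exists_theta_of_inl_isBd' {E' : StarInjRes 𝒜 ℳ'} {E'' : StarInjRes 𝒜 ℳ''}
    (H : Horse ℳ E' E'' f p) (hS : GSES ℳ' ℳ ℳ'' f p) {a : Ideal R} {i : ℕ} {g : ι}
    {z' : (E'.X (i + 1)).carrier}
    (hb : IsBd (H.res hS) a (i + 1) g ((H.inl hS).φ (i + 1) z')) :
    ∃ u'', Gm E'' a i g u'' ∧ E''.d i u'' = 0 ∧ IsBd E' a (i + 1) g (z' - H.θ i u'') := by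
  obtain ⟨v, hv, hdv⟩ := hb
  rw [Horse.gm_res_iff] at hv
  have hdv : H.dd i v = (H.inl hS).φ (i + 1) z' := hdv
  have hd2 : E''.d i (psnd _ _ v) = 0 := by rw [← psnd_dd H, hdv, Horse.psnd_inl]
  have hd1 : E'.d i (pfst _ _ v) + H.θ i (psnd _ _ v) = z' := by
    rw [← pfst_dd H, hdv, Horse.pfst_inl]
  refine ⟨psnd _ _ v, hv.2, hd2, pfst _ _ v, hv.1, ?_⟩
  rw [← hd1, add_sub_cancel_right]

/-- LES: `H^i(M'')_g` and `H^{i+1}(M)_g` Artinian imply `H^{i+1}(M')_g` finite. -/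
theorem ArtHV_left (hS : GSES ℳ' ℳ ℳ'' f p) (E' : StarInjRes 𝒜 ℳ') (E : StarInjRes 𝒜 ℳ)
    (E'' : StarInjRes 𝒜 ℳ'') {a : Ideal R} {i : ℕ} {g : ι} (h'' : ArtHV E'' a i g)
    (h : ArtHV E a (i + 1) g) : ArtHV E' a (i + 1) g := by
  obtain ⟨H⟩ := exists_horse E' E'' hS
  obtain ⟨L⟩ := exists_lift E' E f hS.f_gr
  obtain ⟨c⟩ := exists_lift (H.res hS) E LinearMap.id (fun _ _ h => h)
  obtain ⟨c'⟩ := exists_lift E (H.res hS) LinearMap.id (fun _ _ h => h)
  refine artinian_of_exact (ZG E' a (i + 1) g) (BG E' a (i + 1) g) (ZG E'' a i g) (BG E'' a i g)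
    (ZG E a (i + 1) g) (BG E a (i + 1) g) ((H.θ i).restrictScalars (deg0 𝒜))
    ((L.φ (i + 1)).restrictScalars (deg0 𝒜)) ?_ ?_ ?_ ?_ h'' h
  · intro u hu
    change IsBd E' a (i + 1) g (H.θ i u)
    have hu' : IsBd E'' a i g u := hu
    cases i with
    | zero =>
      change u = 0 at hu'
      rw [hu', map_zero]
      exact IsBd.zero E' a 1 g
    | succ i =>
      obtain ⟨y, hy, rfl⟩ := hu'
      refine ⟨-(H.θ i y), (Gm.neg ⟨map_mem_gam (H.θ i) hy.1, H.θ_gr i g _ hy.2⟩), ?_⟩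
      rw [map_neg, H.θ_succ_apply, neg_neg]
  · intro z hz
    exact ⟨L.map_gm hz.1, by
      change E.d (i + 1) (L.φ (i + 1) z) = 0
      rw [← L.comm_apply, hz.2, map_zero]⟩
  · intro z hz
    exact L.map_isBd (show IsBd E' a (i + 1) g z from hz)
  · intro z' hz' hb
    have hz'1 : Gm E' a (i + 1) g z' := hz'.1
    have hdz' : E'.d (i + 1) z' = 0 := hz'.2
    have hb : IsBd E a (i + 1) g (L.φ (i + 1) z') := hb
    -- transfer to the horseshoe resolution
    have h1 := isBd_sub_of_lifts ((c.comp (H.inl hS)).congr (LinearMap.id_comp f)) L hz'1 hdz'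
    change IsBd E a (i + 1) g (c.φ (i + 1) ((H.inl hS).φ (i + 1) z') - L.φ (i + 1) z') at h1
    have h2 : IsBd E a (i + 1) g (c.φ (i + 1) ((H.inl hS).φ (i + 1) z')) := by
      have := h1.add hb
      rwa [sub_add_cancel] at this
    have h3 := c'.map_isBd h2
    have hz2 : Gm (H.res hS) a (i + 1) g ((H.inl hS).φ (i + 1) z') := (H.inl hS).map_gm hz'1
    have hdz2 : (H.res hS).d (i + 1) ((H.inl hS).φ (i + 1) z') = 0 := by
      rw [← (H.inl hS).comm_apply, hdz', map_zero]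
    have h4 := isBd_sub_of_lifts ((c'.comp c).congr (LinearMap.id_comp _)) (Lift.refl (H.res hS))
      hz2 hdz2
    change IsBd (H.res hS) a (i + 1) g
      (c'.φ (i + 1) (c.φ (i + 1) ((H.inl hS).φ (i + 1) z')) - (H.inl hS).φ (i + 1) z') at h4
    have h5 : IsBd (H.res hS) a (i + 1) g ((H.inl hS).φ (i + 1) z') := by
      have := h3.sub h4
      rwa [sub_sub_cancel] at this
    obtain ⟨u'', hu'', hdu'', hbu⟩ := H.exists_theta_of_inl_isBd' hS h5
    exact ⟨u'', ⟨hu'', hdu''⟩, hbu⟩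

/-- `H^0` is left exact: `H^0(M)_g` Artinian implies `H^0(M')_g` finite, for `f` injective. -/
theorem ArtHV_left_zero (E' : StarInjRes 𝒜 ℳ') (E : StarInjRes 𝒜 ℳ)
    (hf : IsGrHom ℳ' ℳ f) (hfi : Function.Injective f) {a : Ideal R} {g : ι}
    (h : ArtHV E a 0 g) : ArtHV E' a 0 g := by
  obtain ⟨L⟩ := exists_lift E' E f hf
  refine artinian_of_exact (ZG E' a 0 g) (BG E' a 0 g) (⊥ : Submodule (deg0 𝒜) (E'.X 0).carrier) ⊥
    (ZG E a 0 g) (BG E a 0 g) LinearMap.id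
    ((L.φ 0).restrictScalars (deg0 𝒜)) bot_le ?_ ?_ ?_ ?_ h
  · intro z hz
    exact ⟨L.map_gm hz.1, by
      change E.d 0 (L.φ 0 z) = 0
      rw [← L.comm_apply, hz.2, map_zero]⟩
  · intro z hz
    exact L.map_isBd (show IsBd E' a 0 g z from hz)
  · intro z' hz' hb
    have h1 : L.φ 0 z' = 0 := hb
    have h2 : z' ∈ LinearMap.range E'.ε := by rw [← E'.exact_zero]; exact hz'.2
    obtain ⟨m', rfl⟩ := h2
    rw [L.comm0_apply] at h1
    have h3 : f m' = 0 := E.ε_injective (h1.trans (map_zero _).symm)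
    have h4 : m' = 0 := hfi (h3.trans (map_zero _).symm)
    refine ⟨0, zero_mem _, ?_⟩
    rw [h4, map_zero, map_zero, sub_zero]
    exact zero_mem _
  · rw [Submodule.map_bot]
    exact isArtinian_of_finite

/-- LES: `H^i(M')_g` and `H^i(M'')_g` Artinian imply `H^i(M)_g` finite. -/
theorem ArtHV_mid (hS : GSES ℳ' ℳ ℳ'' f p) (E' : StarInjRes 𝒜 ℳ') (E : StarInjRes 𝒜 ℳ)
    (E'' : StarInjRes 𝒜 ℳ'') {a : Ideal R} {i : ℕ} {g : ι} (h' : ArtHV E' a i g)
    (h'' : ArtHV E'' a i g) : ArtHV E a i g := by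
  obtain ⟨L⟩ := exists_lift E' E f hS.f_gr
  obtain ⟨P⟩ := exists_lift E E'' p hS.p_gr
  refine artinian_of_exact (ZG E a i g) (BG E a i g) (ZG E' a i g) (BG E' a i g)
    (ZG E'' a i g) (BG E'' a i g) ((L.φ i).restrictScalars (deg0 𝒜))
    ((P.φ i).restrictScalars (deg0 𝒜)) ?_ ?_ ?_ ?_ h' h''
  · intro z hz
    exact L.map_isBd (show IsBd E' a i g z from hz)
  · intro z hz
    exact ⟨P.map_gm hz.1, by
      change E''.d i (P.φ i z) = 0
      rw [← P.comm_apply, hz.2, map_zero]⟩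
  · intro z hz
    exact P.map_isBd (show IsBd E a i g z from hz)
  · intro z hz hb
    obtain ⟨z', hz', hdz', hbz⟩ := exists_cocycle_of_proj hS E' E E'' L P hz.1 hz.2 hb
    refine ⟨z', ⟨hz', hdz'⟩, ?_⟩
    have := hbz.neg
    rw [neg_sub] at this
    exact this

/-- independence of the resolution -/
theorem ArtHV_of_res (E E₂ : StarInjRes 𝒜 ℳ) {a : Ideal R} {i : ℕ} {g : ι}
    (h : ArtHV E₂ a i g) : ArtHV E a i g := by
  obtain ⟨c⟩ := exists_lift E E₂ LinearMap.id (fun _ _ h => h)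
  obtain ⟨c'⟩ := exists_lift E₂ E LinearMap.id (fun _ _ h => h)
  refine artinian_of_exact (ZG E a i g) (BG E a i g) (ZG E₂ a i g) (BG E₂ a i g)
    (⊥ : Submodule (deg0 𝒜) (E.X i).carrier) ⊤ ((c'.φ i).restrictScalars (deg0 𝒜))
    0 ?_ ?_ ?_ ?_ h ?_
  · intro z hz
    exact c'.map_isBd (show IsBd E₂ a i g z from hz)
  · intro z _
    simp
  · intro z _
    trivial
  · intro z hz _
    refine ⟨c.φ i z, ⟨c.map_gm hz.1, by rw [← c.comm_apply, hz.2, map_zero]⟩, ?_⟩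
    have h5 := isBd_sub_of_lifts ((c'.comp c).congr (LinearMap.id_comp _)) (Lift.refl E) hz.1 hz.2
    change IsBd E a i g (c'.φ i (c.φ i z) - z) at h5
    have := h5.neg
    rw [neg_sub] at this
    exact this
  · rw [Submodule.map_bot]
    exact isArtinian_of_finite

theorem ArtHV_shiftRes_iff (E : StarInjRes 𝒜 ℳ) (s : ι) {a : Ideal R} {i : ℕ} {g : ι} :
    ArtHV (shiftRes E s) a i g ↔ ArtHV E a i (s + g) := by
  cases i with
  | zero => exact Iff.rfl
  | succ i => exact Iff.rfl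

end lesArt

end Groth.Agent.Lib.Helper77.GLC
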