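import Mathlib

/-!
GLC26 (helper77): Melkersson's lemma for a principal ideal — a module all of whose elements are
killed by a power of `x` and whose submodule `(0 :_H x)` is Artinian is Artinian.
-/

set_option autoImplicit false
universe u

namespace Groth.Agent.Lib.Helper77.GLC

section melkersson

variable {A : Type*} [CommRing A] {H : Type*} [AddCommGroup H] [Module A H]

/-- `x^n N ∩ (0 :_H x)` as a submodule of `(0 :_H x)` -/
def melT (x : A) (n : ℕ) (N : Submodule A H) :
    Submodule A ↥(LinearMap.ker (x • (LinearMap.id : H →ₗ[A] H))) :=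
  (N.map ((x ^ n) • (LinearMap.id : H →ₗ[A] H))).comap
    (LinearMap.ker (x • (LinearMap.id : H →ₗ[A] H))).subtype

theorem mem_melT {x : A} {n : ℕ} {N : Submodule A H}
    {k : ↥(LinearMap.ker (x • (LinearMap.id : H →ₗ[A] H)))} :
    k ∈ melT x n N ↔ ∃ y ∈ N, x ^ n • y = (k : H) := Iff.rfl

theorem melT_mono (x : A) (n : ℕ) {N N' : Submodule A H} (h : N ≤ N') : melT x n N ≤ melT x n N' := by
  rintro k ⟨y, hy, e⟩
  exact ⟨y, h hy, e⟩

theorem melT_succ_le (x : A) (n : ℕ) (N : Submodule A H) : melT x (n + 1) N ≤ melT x n N := by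
  rintro k ⟨y, hy, e⟩
  refine ⟨x • y, N.smul_mem x hy, ?_⟩
  change x ^ n • (x • y) = (k : H)
  rw [smul_smul, ← pow_succ]
  exact e

theorem melT_anti (x : A) {n n' : ℕ} (h : n ≤ n') (N : Submodule A H) : melT x n' N ≤ melT x n N := by
  induction h with
  | refl => exact le_rfl
  | step _ ih => exact le_trans (melT_succ_le x _ N) ih

theorem le_of_melT_le {x : A} (htor : ∀ h : H, ∃ n : ℕ, x ^ n • h = 0) {N N' : Submodule A H}
    (hle : N' ≤ N) (hT : ∀ n, melT x n N ≤ melT x n N') : N ≤ N' := by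
  have key : ∀ n : ℕ, ∀ y ∈ N, x ^ n • y = 0 → y ∈ N' := by
    intro n
    induction n with
    | zero =>
      intro y _ hy0
      rw [pow_zero, one_smul] at hy0
      rw [hy0]
      exact zero_mem _
    | succ n ih =>
      intro y hy hy0
      have hk : x ^ n • y ∈ LinearMap.ker (x • (LinearMap.id : H →ₗ[A] H)) := by
        rw [LinearMap.mem_ker]
        change x • (x ^ n • y) = 0
        rw [smul_smul, ← pow_succ']
        exact hy0
      have h1 : (⟨x ^ n • y, hk⟩ : ↥(LinearMap.ker (x • (LinearMap.id : H →ₗ[A] H)))) ∈ melT x n N :=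
        ⟨y, hy, rfl⟩
      obtain ⟨y', hy', e⟩ := hT n h1
      have e' : x ^ n • y' = x ^ n • y := e
      have h2 : y - y' ∈ N' := by
        apply ih (y - y') (sub_mem hy (hle hy'))
        rw [smul_sub, e', sub_self]
      have := add_mem h2 hy'
      rwa [sub_add_cancel] at this
  intro y hy
  obtain ⟨n, hn⟩ := htor y
  exact key n y hy hn

/-- **Melkersson's lemma** (principal case) -/
theorem isArtinian_of_torsion_of_ker (x : A) (htor : ∀ h : H, ∃ n : ℕ, x ^ n • h = 0)
    (hK : IsArtinian A ↥(LinearMap.ker (x • (LinearMap.id : H →ₗ[A] H)))) : IsArtinian A H := by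
  classical
  rw [← monotone_stabilizes_iff_artinian]
  intro f
  let N : ℕ → Submodule A H := fun j => OrderDual.ofDual (f j)
  have hN : ∀ {j j' : ℕ}, j ≤ j' → N j' ≤ N j := fun h => f.monotone h
  -- a minimal element of the doubly indexed family
  obtain ⟨P0, ⟨n0, j0, rfl⟩, hmin⟩ := IsArtinian.set_has_minimal
    {P | ∃ n j, P = melT x n (N j)} ⟨_, 0, 0, rfl⟩
  have h2 : ∀ n j, n0 ≤ n → j0 ≤ j → melT x n (N j) = melT x n0 (N j0) := by
    intro n j hn hj
    have hle : melT x n (N j) ≤ melT x n0 (N j0) :=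
      le_trans (melT_anti x hn (N j)) (melT_mono x n0 (hN hj))
    by_contra hne
    exact hmin _ ⟨n, j, rfl⟩ (lt_of_le_of_ne hle hne)
  -- stabilisation for each fixed `n`
  have h3 : ∀ n : ℕ, ∃ t : ℕ, ∀ j, t ≤ j → melT x n (N t) = melT x n (N j) := by
    intro n
    obtain ⟨t, ht⟩ := IsArtinian.monotone_stabilizes
      (⟨fun j => OrderDual.toDual (melT x n (N j)), fun j j' h => melT_mono x n (hN h)⟩ :
        ℕ →o (Submodule A ↥(LinearMap.ker (x • (LinearMap.id : H →ₗ[A] H))))ᵒᵈ)
    exact ⟨t, fun j hj => ht j hj⟩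
  choose tt htt using h3
  let t : ℕ := max j0 ((Finset.range n0).sup tt)
  have h4 : ∀ j, t ≤ j → ∀ n, melT x n (N t) = melT x n (N j) := by
    intro j hj n
    by_cases hn : n0 ≤ n
    · rw [h2 n t hn (le_max_left _ _), h2 n j hn (le_trans (le_max_left _ _) hj)]
    · have hn' : n ∈ Finset.range n0 := Finset.mem_range.2 (by omega)
      have h5 : tt n ≤ t := le_trans (Finset.le_sup (f := tt) hn') (le_max_right _ _)
      rw [← htt n t h5, ← htt n j (le_trans h5 hj)]
  refine ⟨t, fun j hj => ?_⟩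
  have h6 : N t = N j := by
    apply le_antisymm
    · exact le_of_melT_le htor (hN hj) (fun n => (h4 j hj n).le)
    · exact hN hj
  exact congrArg OrderDual.toDual h6

end melkersson

end Groth.Agent.Lib.Helper77.GLC
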