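import Mathlib
import Groth.Prelude.Def_GrLC
import Groth.Agent.Lib.Helper77.GLC25
import Groth.Agent.Lib.Helper77.GLC26

/-!
GLC27 (helper77): the kernel of multiplication by a homogeneous element on a piece of graded local
cohomology; the Melkersson step for generators of degree zero; Artinianness of the pieces of
`H^i_m(M)` for a *local ring.
-/

set_option autoImplicit false
set_option linter.unusedSectionVars false
universe u

namespace Groth.Agent.Lib.Helper77.GLC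

open GrLC DirectSum

section delta

variable {ι : Type} [AddCommGroup ι] [DecidableEq ι] {R : Type u} [CommRing R]
variable {𝒜 : ι → AddSubgroup R} [GradedRing 𝒜]
variable {M' : Type u} [AddCommGroup M'] [Module R M'] {ℳ' : ι → AddSubgroup M'} [Decomposition ℳ']
  [SetLike.GradedSMul 𝒜 ℳ']
variable {M : Type u} [AddCommGroup M] [Module R M] {ℳ : ι → AddSubgroup M} [Decomposition ℳ]
  [SetLike.GradedSMul 𝒜 ℳ]
variable {M'' : Type u} [AddCommGroup M''] [Module R M''] {ℳ'' : ι → AddSubgroup M''}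
  [Decomposition ℳ''] [SetLike.GradedSMul 𝒜 ℳ'']
variable {f : M' →ₗ[R] M} {p : M →ₗ[R] M''}

/-- exactness of the long exact sequence at `H^{i+1}(M')`: a class killed by the map to `H^{i+1}(M)`
comes from `H^i(M'')` under the connecting map `θ` of a horseshoe. -/
theorem exists_theta_of_lift_isBd (hS : GSES ℳ' ℳ ℳ'' f p) {E' : StarInjRes 𝒜 ℳ'}
    (E : StarInjRes 𝒜 ℳ) {E'' : StarInjRes 𝒜 ℳ''} (H : Horse ℳ E' E'' f p) (L : Lift E' E f)
    {a : Ideal R} {i : ℕ} {g : ι} {z' : (E'.X (i + 1)).carrier}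
    (hz'1 : Gm E' a (i + 1) g z') (hdz' : E'.d (i + 1) z' = 0)
    (hb : IsBd E a (i + 1) g (L.φ (i + 1) z')) :
    ∃ u'', Gm E'' a i g u'' ∧ E''.d i u'' = 0 ∧ IsBd E' a (i + 1) g (z' - H.θ i u'') := by
  obtain ⟨c⟩ := exists_lift (H.res hS) E LinearMap.id (fun _ _ h => h)
  obtain ⟨c'⟩ := exists_lift E (H.res hS) LinearMap.id (fun _ _ h => h)
  have h1 := isBd_sub_of_lifts ((c.comp (H.inl hS)).congr (LinearMap.id_comp f)) L hz'1 hdz'
  change IsBd E a (i + 1) g (c.φ (i + 1) ((H.inl hS).φ (i + 1) z') - L.φ (i + 1) z') at h1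
  have h2 : IsBd E a (i + 1) g (c.φ (i + 1) ((H.inl hS).φ (i + 1) z')) := by
    have := h1.add hb
    rwa [sub_add_cancel] at this
  have h3 := c'.map_isBd h2
  have hz2 : Gm (H.res hS) a (i + 1) g ((H.inl hS).φ (i + 1) z') := (H.inl hS).map_gm hz'1
  have hdz2 : (H.res hS).d (i + 1) ((H.inl hS).φ (i + 1) z') = 0 := by
    rw [← (H.inl hS).comm_apply, hdz', map_zero]
  have h4 := isBd_sub_of_lifts ((c'.comp c).congr (LinearMap.id_comp _)) (Lift.refl (H.res hS))
    hz2 hdz2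
  change IsBd (H.res hS) a (i + 1) g
    (c'.φ (i + 1) (c.φ (i + 1) ((H.inl hS).φ (i + 1) z')) - (H.inl hS).φ (i + 1) z') at h4
  have h5 : IsBd (H.res hS) a (i + 1) g ((H.inl hS).φ (i + 1) z') := by
    have := h3.sub h4
    rwa [sub_sub_cancel] at this
  exact H.exists_theta_of_inl_isBd' hS h5

end delta

section kernel

variable {ι : Type} [AddCommGroup ι] [DecidableEq ι] {R : Type u} [CommRing R]
variable {𝒜 : ι → AddSubgroup R} [GradedRing 𝒜]
variable [Module.Free ℤ ι] [Module.Finite ℤ ι] [IsNoetherianRing R]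
variable {M : Type u} [AddCommGroup M] [Module R M] {ℳ : ι → AddSubgroup M} [Decomposition ℳ]
  [SetLike.GradedSMul 𝒜 ℳ]
variable {N : Type u} [AddCommGroup N] [Module R N] {𝒩 : ι → AddSubgroup N} [Decomposition 𝒩]
  [SetLike.GradedSMul 𝒜 𝒩]

/-- cocycles of `Γ_a(E^i)_g` whose class is killed by `x` (homogeneous of degree `e`) -/
def ZX (E : StarInjRes 𝒜 ℳ) (a : Ideal R) (i : ℕ) (g e : ι) (x : R) :
    Submodule (deg0 𝒜) (E.X i).carrier where
  carrier := {z | z ∈ ZG E a i g ∧ IsBd E a i (e + g) (x • z)}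
  add_mem' := fun h h' => ⟨add_mem h.1 h'.1, by rw [smul_add]; exact h.2.add h'.2⟩
  zero_mem' := ⟨zero_mem _, by rw [smul_zero]; exact IsBd.zero E a i (e + g)⟩
  smul_mem' := fun r z h => ⟨Submodule.smul_mem _ r h.1, by
    change IsBd E a i (e + g) (x • ((r : R) • z))
    rw [smul_comm]
    exact h.2.smul0 r⟩

variable (a : Ideal R) {e : ι} {x : R} (hx : x ∈ 𝒜 e)
  (π : M →ₗ[R] N) (hπ : IsGrHom ℳ 𝒩 π) (hπs : Function.Surjective π)
  (hker : LinearMap.ker π = LinearMap.range (x • (LinearMap.id : M →ₗ[R] M)))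
  (EM : StarInjRes 𝒜 ℳ) (EN : StarInjRes 𝒜 𝒩) (EK : StarInjRes 𝒜 (kerG hx ℳ).gr)

include hπ hπs hker in
/-- the kernel of `x : H^i(M)_g → H^i(M)_{e+g}` is Artinian over `R_0` if `H^i(0 :_M x)_g` and
`H^{i-1}(M/xM)_{e+g}` are. -/
theorem isArtinian_ZX (i : ℕ) (g : ι) (hK : ArtHV EK a i g)
    (hN : ∀ i' : ℕ, i = i' + 1 → ArtHV EN a i' (e + g)) :
    IsArtinian (deg0 𝒜) ↥((ZX EM a i g e x).map (BG EM a i g).mkQ) := by
  classical
  set K : Submodule R M := LinearMap.ker (x • (LinearMap.id : M →ₗ[R] M)) with hKdef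
  have hKhom : K.IsHomogeneous ℳ := ker_smul_isHomogeneous hx
  let _ : Decomposition (Helper66.GradedSub.spiece ℳ K) :=
    Helper66.GradedSub.subDecomposition ℳ K hKhom
  let _ : SetLike.GradedSMul 𝒜 (Helper66.GradedSub.spiece ℳ K) :=
    Helper66.GradedSub.subGradedSMul 𝒜 ℳ K
  let _ : Decomposition (Helper66.GradedQuot.qpiece ℳ K) :=
    Helper66.GradedQuot.quotDecomposition ℳ K hKhom
  let _ : SetLike.GradedSMul 𝒜 (Helper66.GradedQuot.qpiece ℳ K) :=
    Helper66.GradedQuot.quotGradedSMul 𝒜 ℳ K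
  have hS1 : GSES (Helper66.GradedSub.spiece ℳ K) ℳ (Helper66.GradedQuot.qpiece ℳ K)
      K.subtype K.mkQ :=
    { f_gr := fun _ _ hx => hx
      p_gr := Helper66.GradedQuot.mkQ_grHom ℳ K
      f_inj := Subtype.val_injective
      p_surj := K.mkQ_surjective
      exact := by rw [Submodule.ker_mkQ, Submodule.range_subtype] }
  let xb : (Helper66.GradedShift.shiftGMod 𝒜 (Helper66.GradedQuot.qpiece ℳ K) (-e)).carrier →ₗ[R] M :=
    K.liftQ (x • (LinearMap.id : M →ₗ[R] M)) le_rfl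
  have hxb : ∀ m : M, xb (K.mkQ m) = x • m := fun m => rfl
  have hS2 : GSES (Helper66.GradedShift.shiftGMod 𝒜 (Helper66.GradedQuot.qpiece ℳ K) (-e)).gr ℳ 𝒩
      xb π :=
    { f_gr := by
        rintro g _ ⟨m, (hm : m ∈ ℳ (-e + g)), rfl⟩
        change xb (K.mkQ m) ∈ ℳ g
        rw [hxb]
        have := SetLike.GradedSMul.smul_mem (A := 𝒜) (B := ℳ) hx hm
        rw [vadd_eq_add, add_neg_cancel_left] at this
        exact this
      p_gr := hπ
      f_inj := by
        rw [← LinearMap.ker_eq_bot]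
        exact Submodule.ker_liftQ_eq_bot _ _ _ le_rfl
      p_surj := hπs
      exact := by
        rw [hker]
        exact (Submodule.range_liftQ K (x • (LinearMap.id : M →ₗ[R] M)) le_rfl).symm }
  obtain ⟨EQ⟩ := exists_res (𝒜 := 𝒜) (M ⧸ K) (Helper66.GradedQuot.qpiece ℳ K)
  obtain ⟨Lk⟩ := exists_lift EK EM K.subtype hS1.f_gr
  obtain ⟨Lq⟩ := exists_lift EM EQ K.mkQ (Helper66.GradedQuot.mkQ_grHom ℳ K)
  obtain ⟨Lx⟩ := exists_lift (shiftRes EQ (-e)) EM xb hS2.f_gr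
  obtain ⟨H⟩ := exists_horse (shiftRes EQ (-e)) EN hS2
  have hmap : xb ∘ₗ shiftMap (𝒜 := 𝒜) ℳ (Helper66.GradedQuot.qpiece ℳ K) K.mkQ (-e) =
      mulMap ℳ x (-e) := LinearMap.ext fun (m : M) => rfl
  -- cocycles of `Q` whose class dies in `H^i(M)_{e+g}`
  let lx : ∀ n, (EQ.X n).carrier →ₗ[R] (EM.X n).carrier := fun n => Lx.φ n
  have hlx : ∀ n (w : (EQ.X n).carrier), lx n w = Lx.φ n w := fun _ _ => rfl
  let ZQ : Submodule (deg0 𝒜) (EQ.X i).carrier :=
    { carrier := {w | w ∈ ZG EQ a i g ∧ IsBd EM a i (e + g) (lx i w)}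
      add_mem' := fun h h' => ⟨add_mem h.1 h'.1, by rw [map_add]; exact h.2.add h'.2⟩
      zero_mem' := ⟨zero_mem _, by rw [map_zero]; exact IsBd.zero EM a i (e + g)⟩
      smul_mem' := fun r w h => ⟨Submodule.smul_mem _ r h.1, by
        change IsBd EM a i (e + g) (lx i ((r : R) • w))
        rw [map_smul]
        exact h.2.smul0 r⟩ }
  have hZQ : IsArtinian (deg0 𝒜) ↥(ZQ.map (BG EQ a i g).mkQ) := by
    cases i with
    | zero =>
      have hbot : ZQ = ⊥ := by
        rw [eq_bot_iff]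
        rintro w ⟨hw, hb⟩
        rw [Submodule.mem_bot]
        have h1 : Lx.φ 0 w = 0 := hb
        have h2 : w ∈ LinearMap.range EQ.ε := by rw [← EQ.exact_zero]; exact hw.2
        obtain ⟨q, rfl⟩ := h2
        have h3 : Lx.φ 0 ((shiftRes EQ (-e)).ε q) = EM.ε (xb q) := Lx.comm0_apply q
        have h4 : EM.ε (xb q) = 0 := h3.symm.trans h1
        have h5 : xb q = 0 := EM.ε_injective (h4.trans (map_zero _).symm)
        have h6 : q = 0 := hS2.f_inj (h5.trans (map_zero _).symm)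
        rw [h6, map_zero]
      rw [hbot, Submodule.map_bot]
      exact isArtinian_of_finite
    | succ i' =>
      refine artinian_of_exact ZQ (BG EQ a (i' + 1) g) (ZG EN a i' (e + g)) (BG EN a i' (e + g))
        (⊥ : Submodule (deg0 𝒜) (EQ.X (i' + 1)).carrier) ⊤
        ((H.θ i').restrictScalars (deg0 𝒜)) 0 ?_ ?_ ?_ ?_ (hN i' rfl) ?_
      · intro u hu
        have hu' : IsBd EN a i' (e + g) u := hu
        have key : IsBd (shiftRes EQ (-e)) a (i' + 1) (e + g) (H.θ i' u) := by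
          cases i' with
          | zero =>
            change u = 0 at hu'
            rw [hu', map_zero]
            exact IsBd.zero _ a 1 (e + g)
          | succ i'' =>
            obtain ⟨y, hy, rfl⟩ := hu'
            refine ⟨-(H.θ i'' y), (Gm.neg ⟨map_mem_gam (H.θ i'') hy.1, H.θ_gr i'' _ _ hy.2⟩), ?_⟩
            rw [map_neg, H.θ_succ_apply, neg_neg]
        rw [isBd_shiftRes_iff, neg_add_cancel_left] at key
        exact key
      · intro z _
        simp
      · intro z _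
        trivial
      · intro w hw _
        have hw1 : Gm (shiftRes EQ (-e)) a (i' + 1) (e + g) w := by
          rw [gm_shiftRes_iff, neg_add_cancel_left]; exact hw.1.1
        obtain ⟨u'', hu'', hdu'', hbu⟩ :=
          exists_theta_of_lift_isBd hS2 EM H Lx hw1 hw.1.2 hw.2
        rw [isBd_shiftRes_iff, neg_add_cancel_left] at hbu
        exact ⟨u'', ⟨hu'', hdu''⟩, hbu⟩
      · rw [Submodule.map_bot]
        exact isArtinian_of_finite
  refine artinian_of_exact (ZX EM a i g e x) (BG EM a i g) (ZG EK a i g) (BG EK a i g)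
    ZQ (BG EQ a i g) ((Lk.φ i).restrictScalars (deg0 𝒜)) ((Lq.φ i).restrictScalars (deg0 𝒜))
    ?_ ?_ ?_ ?_ hK hZQ
  · intro z hz
    exact Lk.map_isBd (show IsBd EK a i g z from hz)
  · rintro z ⟨hz, hb⟩
    have hz1 : Gm EM a i g z := hz.1
    have hdz : EM.d i z = 0 := hz.2
    refine ⟨⟨Lq.map_gm hz1, by
      change EQ.d i (Lq.φ i z) = 0
      rw [← Lq.comm_apply, hdz, map_zero]⟩, ?_⟩
    have hz' : Gm (shiftRes EM (-e)) a i (e + g) z := by
      rw [gm_shiftRes_iff, neg_add_cancel_left]; exact hz1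
    have h1 := isBd_sub_of_lifts ((Lx.comp (Lq.shift (-e))).congr hmap) (mulLift EM hx) hz' hdz
    change IsBd EM a i (e + g) (Lx.φ i (Lq.φ i z) - x • z) at h1
    have := h1.add hb
    rwa [sub_add_cancel] at this
  · intro z hz
    exact Lq.map_isBd (show IsBd EM a i g z from hz)
  · rintro z ⟨hz, _⟩ hb
    obtain ⟨z', hz', hdz', hbz⟩ := exists_cocycle_of_proj hS1 EK EM EQ Lk Lq hz.1 hz.2 hb
    refine ⟨z', ⟨hz', hdz'⟩, ?_⟩
    have := hbz.neg
    rw [neg_sub] at this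
    exact this

end kernel

section stepzero

variable {ι : Type} [AddCommGroup ι] [DecidableEq ι] {R : Type u} [CommRing R]
variable {𝒜 : ι → AddSubgroup R} [GradedRing 𝒜]
variable [Module.Free ℤ ι] [Module.Finite ℤ ι] [IsNoetherianRing R]
variable {M : Type u} [AddCommGroup M] [Module R M] {ℳ : ι → AddSubgroup M} [Decomposition ℳ]
  [SetLike.GradedSMul 𝒜 ℳ]
variable {N : Type u} [AddCommGroup N] [Module R N] {𝒩 : ι → AddSubgroup N} [Decomposition 𝒩]
  [SetLike.GradedSMul 𝒜 𝒩]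

variable (a : Ideal R) {x : R} (hx : x ∈ 𝒜 (0 : ι)) (hxa : x ∈ a)
  (π : M →ₗ[R] N) (hπ : IsGrHom ℳ 𝒩 π) (hπs : Function.Surjective π)
  (hker : LinearMap.ker π = LinearMap.range (x • (LinearMap.id : M →ₗ[R] M)))
  (EM : StarInjRes 𝒜 ℳ) (EN : StarInjRes 𝒜 𝒩) (EK : StarInjRes 𝒜 (kerG hx ℳ).gr)

include hxa hπ hπs hker in
/-- the Melkersson step: for `x ∈ a` homogeneous of degree zero, `H^i(M)_g` is Artinian over `R_0`
if `H^i(0 :_M x)_g` and `H^{i-1}(M/xM)_g` are. -/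
theorem ArtHV_step_zero (i : ℕ) (g : ι) (hK : ArtHV EK a i g)
    (hN : ∀ i' : ℕ, i = i' + 1 → ArtHV EN a i' g) : ArtHV EM a i g := by
  have hZX := isArtinian_ZX a hx π hπ hπs hker EM EN EK i g hK
    (fun i' h => by rw [zero_add]; exact hN i' h)
  unfold ArtHV
  set Hm := (ZG EM a i g).map (BG EM a i g).mkQ with hHm
  let x₀ : deg0 𝒜 := ⟨x, hx⟩
  have hsm : ∀ (n : ℕ) (z : (EM.X i).carrier), (x₀ ^ n) • z = x ^ n • z := fun n z => rfl
  apply isArtinian_of_torsion_of_ker (A := deg0 𝒜) (H := ↥Hm) x₀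
  · rintro ⟨_, ⟨z, hz, rfl⟩⟩
    obtain ⟨n, hn⟩ := exists_pow_smul_eq_zero hz.1.1 hxa
    refine ⟨n, Subtype.ext ?_⟩
    change (x₀ ^ n) • ((BG EM a i g).mkQ z) = 0
    rw [← map_smul, hsm, hn, map_zero]
  · have hmem : ∀ h : ↥(LinearMap.ker (x₀ • (LinearMap.id : ↥Hm →ₗ[deg0 𝒜] ↥Hm))),
        ((h : ↥Hm) : (EM.X i).carrier ⧸ BG EM a i g) ∈
          (ZX EM a i g 0 x).map (BG EM a i g).mkQ := by
      rintro ⟨⟨_, ⟨z, hz, rfl⟩⟩, hk⟩
      have hk1 : x₀ • (⟨(BG EM a i g).mkQ z, ⟨z, hz, rfl⟩⟩ : ↥Hm) = 0 := hk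
      have hk2 : x₀ • ((BG EM a i g).mkQ z) = 0 := congrArg Subtype.val hk1
      rw [← map_smul, Submodule.mkQ_apply, Submodule.Quotient.mk_eq_zero] at hk2
      have hk3 : IsBd EM a i g (x • z) := hk2
      refine ⟨z, ⟨hz, ?_⟩, rfl⟩
      rw [zero_add]
      exact hk3
    let ι' : ↥(LinearMap.ker (x₀ • (LinearMap.id : ↥Hm →ₗ[deg0 𝒜] ↥Hm))) →ₗ[deg0 𝒜]
        ↥((ZX EM a i g 0 x).map (BG EM a i g).mkQ) :=
      LinearMap.codRestrict _ (Hm.subtype ∘ₗ (LinearMap.ker _).subtype) hmem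
    have hι : Function.Injective ι' := by
      intro p q hpq
      have h1 : ((p : ↥Hm) : (EM.X i).carrier ⧸ BG EM a i g) = ((q : ↥Hm) : _) :=
        congrArg (fun t : ↥((ZX EM a i g 0 x).map (BG EM a i g).mkQ) =>
          (t : (EM.X i).carrier ⧸ BG EM a i g)) hpq
      exact Subtype.ext (Subtype.ext h1)
    exact isArtinian_of_injective ι' hι

end stepzero

section baseArt

variable {R : Type u} [CommRing R] [IsNoetherianRing R] {𝒜 : ℤ → AddSubgroup R} [GradedRing 𝒜]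
variable {M : Type u} [AddCommGroup M] [Module R M] (ℳ : ℤ → AddSubgroup M) [Decomposition ℳ]
  [SetLike.GradedSMul 𝒜 ℳ]

theorem ArtHV_zero_of_kill (hpos : ∀ n : ℤ, n < 0 → 𝒜 n = ⊥) (a : Ideal R)
    (ha : ∀ n : ℤ, 0 < n → ∀ r ∈ 𝒜 n, r ∈ a) (hmax : (a.comap (deg0 𝒜).subtype).IsMaximal)
    [Module.Finite R M]
    (hkill : ∀ r ∈ a, ∀ m : M, r • m = 0) (EM : StarInjRes 𝒜 ℳ) (g : ℤ) :
    ArtHV EM a 0 g := by
  haveI : IsArtinian (deg0 𝒜) M :=
    isArtinian_of_fg_of_kill (a.comap (deg0 𝒜).subtype) (fg_top_deg0_of_kill hpos a ha hkill)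
      (fun r hr m => hkill (r : R) hr m)
  have hle : ZG EM a 0 g ≤ LinearMap.range (EM.ε.restrictScalars (deg0 𝒜)) := by
    intro z hz
    have h2 : z ∈ LinearMap.range EM.ε := by rw [← EM.exact_zero]; exact hz.2
    obtain ⟨m, rfl⟩ := h2
    exact ⟨m, rfl⟩
  haveI : IsArtinian (deg0 𝒜) ↥(ZG EM a 0 g) := isArtinian_of_le hle
  exact isArtinian_of_surjective _ ((BG EM a 0 g).mkQ.submoduleMap (ZG EM a 0 g))
    (LinearMap.submoduleMap_surjective _ _)

end baseArt

section stepArt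

variable {ι : Type} [AddCommGroup ι] [DecidableEq ι] {R : Type u} [CommRing R]
variable {𝒜 : ι → AddSubgroup R} [GradedRing 𝒜]
variable [Module.Free ℤ ι] [Module.Finite ℤ ι] [IsNoetherianRing R]
variable {M : Type u} [AddCommGroup M] [Module R M] {ℳ : ι → AddSubgroup M} [Decomposition ℳ]
  [SetLike.GradedSMul 𝒜 ℳ]
variable {N : Type u} [AddCommGroup N] [Module R N] {𝒩 : ι → AddSubgroup N} [Decomposition 𝒩]
  [SetLike.GradedSMul 𝒜 𝒩]

variable (a : Ideal R) {e : ι} {x : R} (hx : x ∈ 𝒜 e)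
  (π : M →ₗ[R] N) (hπ : IsGrHom ℳ 𝒩 π) (hπs : Function.Surjective π)
  (hker : LinearMap.ker π = LinearMap.range (x • (LinearMap.id : M →ₗ[R] M)))
  (EM : StarInjRes 𝒜 ℳ) (EN : StarInjRes 𝒜 𝒩) (EK : StarInjRes 𝒜 (kerG hx ℳ).gr)

include hπ hπs hker in
/-- Artinianness of `H^i(M)_g` from that of `H^i(0 :_M x)_g`, `H^{i-1}(M/xM)_{e+g}` and
`H^i(M)_{e+g}`. -/
theorem ArtHV_step (i : ℕ) (g : ι) (hK : ArtHV EK a i g)
    (hN : ∀ i' : ℕ, i = i' + 1 → ArtHV EN a i' (e + g)) (hM : ArtHV EM a i (e + g)) :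
    ArtHV EM a i g := by
  classical
  set K : Submodule R M := LinearMap.ker (x • (LinearMap.id : M →ₗ[R] M)) with hKdef
  have hKhom : K.IsHomogeneous ℳ := ker_smul_isHomogeneous hx
  let _ : Decomposition (Helper66.GradedSub.spiece ℳ K) :=
    Helper66.GradedSub.subDecomposition ℳ K hKhom
  let _ : SetLike.GradedSMul 𝒜 (Helper66.GradedSub.spiece ℳ K) :=
    Helper66.GradedSub.subGradedSMul 𝒜 ℳ K
  let _ : Decomposition (Helper66.GradedQuot.qpiece ℳ K) :=
    Helper66.GradedQuot.quotDecomposition ℳ K hKhom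
  let _ : SetLike.GradedSMul 𝒜 (Helper66.GradedQuot.qpiece ℳ K) :=
    Helper66.GradedQuot.quotGradedSMul 𝒜 ℳ K
  have hS1 : GSES (Helper66.GradedSub.spiece ℳ K) ℳ (Helper66.GradedQuot.qpiece ℳ K)
      K.subtype K.mkQ :=
    { f_gr := fun _ _ hx => hx
      p_gr := Helper66.GradedQuot.mkQ_grHom ℳ K
      f_inj := Subtype.val_injective
      p_surj := K.mkQ_surjective
      exact := by rw [Submodule.ker_mkQ, Submodule.range_subtype] }
  let xb : (Helper66.GradedShift.shiftGMod 𝒜 (Helper66.GradedQuot.qpiece ℳ K) (-e)).carrier →ₗ[R] M :=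
    K.liftQ (x • (LinearMap.id : M →ₗ[R] M)) le_rfl
  have hxb : ∀ m : M, xb (K.mkQ m) = x • m := fun m => rfl
  have hS2 : GSES (Helper66.GradedShift.shiftGMod 𝒜 (Helper66.GradedQuot.qpiece ℳ K) (-e)).gr ℳ 𝒩
      xb π :=
    { f_gr := by
        rintro g _ ⟨m, (hm : m ∈ ℳ (-e + g)), rfl⟩
        change xb (K.mkQ m) ∈ ℳ g
        rw [hxb]
        have := SetLike.GradedSMul.smul_mem (A := 𝒜) (B := ℳ) hx hm
        rw [vadd_eq_add, add_neg_cancel_left] at this
        exact this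
      p_gr := hπ
      f_inj := by
        rw [← LinearMap.ker_eq_bot]
        exact Submodule.ker_liftQ_eq_bot _ _ _ le_rfl
      p_surj := hπs
      exact := by
        rw [hker]
        exact (Submodule.range_liftQ K (x • (LinearMap.id : M →ₗ[R] M)) le_rfl).symm }
  obtain ⟨EQ⟩ := exists_res (𝒜 := 𝒜) (M ⧸ K) (Helper66.GradedQuot.qpiece ℳ K)
  have hQ' : ArtHV (shiftRes EQ (-e)) a i (e + g) := by
    cases i with
    | zero => exact ArtHV_left_zero (shiftRes EQ (-e)) EM hS2.f_gr hS2.f_inj hM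
    | succ i' => exact ArtHV_left hS2 (shiftRes EQ (-e)) EM EN (hN i' rfl) hM
  have hQ : ArtHV EQ a i g := by
    rw [ArtHV_shiftRes_iff, neg_add_cancel_left] at hQ'
    exact hQ'
  exact ArtHV_mid hS1 EK EM EQ hK hQ

end stepArt

section mainArt

variable {R : Type u} [CommRing R] [IsNoetherianRing R] {𝒜 : ℤ → AddSubgroup R} [GradedRing 𝒜]

/-- **Artinianness**: the homogeneous pieces of the graded local cohomology of a finitely generated
graded module with respect to a homogeneous ideal `a ⊇ R_+` whose degree zero part is a maximal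
ideal of `R_0` are Artinian over `R_0`. -/
theorem ArtHV_all (hpos : ∀ n : ℤ, n < 0 → 𝒜 n = ⊥) (a : HomogeneousIdeal 𝒜)
    (ha : ∀ n : ℤ, 0 < n → ∀ r ∈ 𝒜 n, r ∈ a.toIdeal)
    (hmax : (a.toIdeal.comap (deg0 𝒜).subtype).IsMaximal) (xs : List R) :
    ∀ (𝔠 : Ideal R) (_ : ∀ x ∈ xs, x ∈ a.toIdeal ∧ ∃ e : ℤ, 0 ≤ e ∧ x ∈ 𝒜 e)
      (_ : a.toIdeal ≤ 𝔠 ⊔ Ideal.ofList xs)
      (M : Type u) [AddCommGroup M] [Module R M] (ℳ : ℤ → AddSubgroup M) [Decomposition ℳ]
      [SetLike.GradedSMul 𝒜 ℳ] [Module.Finite R M] (_ : ∀ r ∈ 𝔠, ∀ m : M, r • m = 0)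
      (EM : StarInjRes 𝒜 ℳ) (i : ℕ) (g : ℤ), ArtHV EM a.toIdeal i g := by
  induction xs with
  | nil =>
    intro 𝔠 _ hle M _ _ ℳ _ _ _ hc EM i g
    rw [Ideal.ofList_nil, sup_bot_eq] at hle
    have hkill : ∀ r ∈ a.toIdeal, ∀ m : M, r • m = 0 := fun r hr m => hc r (hle hr) m
    cases i with
    | zero => exact ArtHV_zero_of_kill ℳ hpos a.toIdeal ha hmax hkill EM g
    | succ i =>
      apply ArtHV_of_HV
      refine HV_of_torsion EM a (fun m => ⟨1, fun r hr => ?_⟩) (i + 1) (Nat.succ_pos i) g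
      rw [pow_one] at hr
      exact hkill r hr m
  | cons x xs ih =>
    intro 𝔠 hxs hle M _ _ ℳ _ _ _ hc EM
    obtain ⟨hxa, e, he, hx⟩ := hxs x (List.mem_cons_self ..)
    have hxs' : ∀ y ∈ xs, y ∈ a.toIdeal ∧ ∃ e : ℤ, 0 ≤ e ∧ y ∈ 𝒜 e :=
      fun y hy => hxs y (List.mem_cons_of_mem _ hy)
    have hle' : a.toIdeal ≤ (𝔠 ⊔ Ideal.span {x}) ⊔ Ideal.ofList xs := by
      rw [Ideal.ofList_cons, ← sup_assoc] at hle
      exact hle
    have hmem : ∀ r ∈ 𝔠 ⊔ Ideal.span {x}, ∃ c ∈ 𝔠, ∃ t : R, r = c + t * x := by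
      intro r hr
      obtain ⟨c, hc', y, hy, rfl⟩ := Submodule.mem_sup.1 hr
      obtain ⟨t, rfl⟩ := Ideal.mem_span_singleton'.1 hy
      exact ⟨c, hc', t, rfl⟩
    -- the kernel
    haveI : IsNoetherian R M := isNoetherian_of_isNoetherianRing_of_finite R M
    haveI : Module.Finite R (kerG hx ℳ).carrier :=
      Module.IsNoetherian.finite R ↥(LinearMap.ker (x • (LinearMap.id : M →ₗ[R] M)))
    obtain ⟨EK⟩ := exists_res (𝒜 := 𝒜) (kerG hx ℳ).carrier (kerG hx ℳ).gr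
    have hcK : ∀ r ∈ 𝔠 ⊔ Ideal.span {x}, ∀ k : (kerG hx ℳ).carrier, r • k = 0 := by
      intro r hr k
      obtain ⟨c, hc', t, rfl⟩ := hmem r hr
      apply Subtype.ext
      have hk : x • (k.1 : M) = 0 := LinearMap.mem_ker.1 k.2
      change (c + t * x) • (k.1 : M) = 0
      rw [add_smul, hc c hc', mul_smul, hk, smul_zero, add_zero]
    have hK := ih (𝔠 ⊔ Ideal.span {x}) hxs' hle' (kerG hx ℳ).carrier (kerG hx ℳ).gr hcK EK
    -- the cokernel
    have hQhom : (LinearMap.range (x • (LinearMap.id : M →ₗ[R] M))).IsHomogeneous ℳ :=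
      range_smul_isHomogeneous' hx
    let _ : Decomposition (Helper66.GradedQuot.qpiece ℳ
        (LinearMap.range (x • (LinearMap.id : M →ₗ[R] M)))) :=
      Helper66.GradedQuot.quotDecomposition ℳ _ hQhom
    let _ : SetLike.GradedSMul 𝒜 (Helper66.GradedQuot.qpiece ℳ
        (LinearMap.range (x • (LinearMap.id : M →ₗ[R] M)))) :=
      Helper66.GradedQuot.quotGradedSMul 𝒜 ℳ _
    obtain ⟨EC⟩ := exists_res (𝒜 := 𝒜) (M ⧸ LinearMap.range (x • (LinearMap.id : M →ₗ[R] M)))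
      (Helper66.GradedQuot.qpiece ℳ (LinearMap.range (x • (LinearMap.id : M →ₗ[R] M))))
    have hcC : ∀ r ∈ 𝔠 ⊔ Ideal.span {x},
        ∀ k : M ⧸ LinearMap.range (x • (LinearMap.id : M →ₗ[R] M)), r • k = 0 := by
      intro r hr k
      obtain ⟨c, hc', t, rfl⟩ := hmem r hr
      obtain ⟨m, rfl⟩ := Submodule.mkQ_surjective _ k
      rw [← map_smul, add_smul, hc c hc', zero_add, ← LinearMap.mem_ker, Submodule.ker_mkQ]
      exact ⟨t • m, by
        change x • (t • m) = (t * x) • m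
        rw [smul_smul, mul_comm]⟩
    have hC := ih (𝔠 ⊔ Ideal.span {x}) hxs' hle'
      (M ⧸ LinearMap.range (x • (LinearMap.id : M →ₗ[R] M)))
      (Helper66.GradedQuot.qpiece ℳ (LinearMap.range (x • (LinearMap.id : M →ₗ[R] M)))) hcC EC
    -- degree zero: Melkersson; positive degree: eventual vanishing and descending induction
    rcases eq_or_lt_of_le he with he0 | hepos
    · subst he0
      intro i g
      exact ArtHV_step_zero a.toIdeal hx hxa (Submodule.mkQ _) (Helper66.GradedQuot.mkQ_grHom ℳ _)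
        (Submodule.mkQ_surjective _) (Submodule.ker_mkQ _) EM EC EK i g (hK i g)
        (fun i' _ => hC i' g)
    · obtain ⟨r, hr⟩ := exists_HV_above' hpos a ha (x :: xs) 𝔠 hxs hle M ℳ hc EM
      have key : ∀ n : ℕ, ∀ (i : ℕ) (g : ℤ), r - n ≤ g → ArtHV EM a.toIdeal i g := by
        intro n
        induction n with
        | zero =>
          intro i g hg
          exact ArtHV_of_HV (hr i g (by simpa using hg))
        | succ n ihn =>
          intro i g hg
          refine ArtHV_step a.toIdeal hx (Submodule.mkQ _) (Helper66.GradedQuot.mkQ_grHom ℳ _)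
            (Submodule.mkQ_surjective _) (Submodule.ker_mkQ _) EM EC EK i g (hK i g)
            (fun i' _ => hC i' (e + g)) (ihn i (e + g) ?_)
          push_cast at hg
          omega
      intro i g
      exact key (r - g).toNat i g (by omega)

end mainArt


end Groth.Agent.Lib.Helper77.GLC
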