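import Mathlib
import Groth.Prelude.Def_GrSyz
import Groth.Prelude.Def_GrLC
import Groth.Agent.Lib.Helper77.GrHilbert

/-!
# Tools for the Hilbert–Burch degree statement (S15432)

* `zero_block_contra`, `zero_block_contra'`: a `(t+1) × t` matrix `Mx` over a domain with injective
  `mulVec`, killed on the left by `G` with no zero column, cannot have a zero block in rows
  `≤ i` (resp. `≤ i+1`) and columns `≥ i`.
* `finrank_piece_le_card`: the Hilbert function of the homogeneous coordinate ring of a finite set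
  of points is bounded by the number of points.
* `quad_bounded`: a bounded integer quadratic has vanishing leading coefficients.
-/

universe u
namespace Groth.Agent.Lib.Helper77.HilbBurch

open GrSyz MvPolynomial DirectSum

section Mat


variable {S : Type*} [CommRing S] [IsDomain S] {t r : ℕ}
  (G : Matrix (Fin r) (Fin (t + 1)) S) (Mx : Matrix (Fin (t + 1)) (Fin t) S)

/-- the lower right square block. -/
def blk (i : Fin t) : Matrix {q : Fin t // i ≤ q} {q : Fin t // i ≤ q} S :=
  fun q' q => Mx q'.1.succ q.1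

omit [IsDomain S] in
theorem sum_split (i : Fin t) (f : Fin t → S) (hf : ∀ q, ¬ i ≤ q → f q = 0) :
    ∑ q, f q = ∑ q : {q : Fin t // i ≤ q}, f q.1 := by
  rw [← Fintype.sum_subtype_add_sum_subtype (fun q => i ≤ q) f]
  rw [add_eq_left]
  exact Finset.sum_eq_zero fun q _ => hf q.1 q.2

theorem det_blk_ne_zero (hinj : Function.Injective Mx.mulVec) (i : Fin t)
    (hz : ∀ (p : Fin (t + 1)) (q : Fin t), p ≤ i.castSucc → i ≤ q → Mx p q = 0) :
    (blk Mx i).det ≠ 0 := by
  intro hdet
  obtain ⟨v, hv, hNv⟩ := Matrix.exists_mulVec_eq_zero_iff.2 hdet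
  let c' : Fin t → S := fun q => if h : i ≤ q then v ⟨q, h⟩ else 0
  have hc' : Mx.mulVec c' = 0 := by
    ext p
    simp only [Matrix.mulVec, dotProduct, Pi.zero_apply]
    rw [sum_split i _ (fun q hq => by simp [c', hq])]
    have hc'q : ∀ q : {q : Fin t // i ≤ q}, c' q.1 = v q := fun q => by simp [c', q.2]
    simp only [hc'q]
    by_cases hp : p ≤ i.castSucc
    · exact Finset.sum_eq_zero fun q _ => by rw [hz p q.1 hp q.2, zero_mul]
    · obtain ⟨q', rfl⟩ : ∃ q' : Fin t, p = q'.succ := by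
        refine ⟨p.pred ?_, (Fin.succ_pred _ _).symm⟩
        rintro rfl
        exact hp (Fin.zero_le _)
      have hq' : i ≤ q' := by
        rw [Fin.le_def] at hp ⊢
        simp at hp
        omega
      have := congrFun hNv ⟨q', hq'⟩
      simpa [Matrix.mulVec, dotProduct, blk] using this
  have hc0 : c' = 0 := hinj (by rw [hc', Matrix.mulVec_zero])
  apply hv
  ext q
  have := congrFun hc0 q.1
  simpa [c', q.2] using this

theorem zero_block_contra (hGM : G * Mx = 0) (hinj : Function.Injective Mx.mulVec)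
    (hcol : ∀ p, ∃ a, G a p ≠ 0) (i : Fin t)
    (hz : ∀ (p : Fin (t + 1)) (q : Fin t), p ≤ i.castSucc → i ≤ q → Mx p q = 0) : False := by
  have hdet := det_blk_ne_zero Mx hinj i hz
  obtain ⟨a, ha⟩ := hcol i.succ
  apply ha
  let w : {q : Fin t // i ≤ q} → S := fun q' => G a q'.1.succ
  have hw : Matrix.vecMul w (blk Mx i) = 0 := by
    ext q
    simp only [Matrix.vecMul, dotProduct, Pi.zero_apply, blk, w]
    have h0 : (G * Mx) a q.1 = 0 := by rw [hGM]; rfl
    rw [Matrix.mul_apply, Fin.sum_univ_succ, hz 0 q.1 (Fin.zero_le _) q.2, mul_zero, zero_add] at h0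
    rw [sum_split i _ (fun q' hq' => by
      rw [hz q'.succ q.1 _ q.2, mul_zero]
      rw [Fin.le_def] at hq' ⊢
      simp at hq' ⊢
      omega)] at h0
    exact h0
  by_contra hne
  have : (blk Mx i).det = 0 := Matrix.exists_vecMul_eq_zero_iff.1 ⟨w, fun h0 => hne (by
    have := congrFun h0 ⟨i, le_rfl⟩
    simpa [w] using this), hw⟩
  exact hdet this

theorem zero_block_contra' (hinj : Function.Injective Mx.mulVec) (i : Fin t)
    (hz : ∀ (p : Fin (t + 1)) (q : Fin t), p ≤ i.succ → i ≤ q → Mx p q = 0) : False := by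
  have hdet := det_blk_ne_zero Mx hinj i (fun p q hp hq => hz p q (le_trans hp (by
    rw [Fin.le_def]; simp)) hq)
  apply hdet
  apply Matrix.det_eq_zero_of_row_eq_zero ⟨i, le_rfl⟩
  intro q
  exact hz i.succ q.1 le_rfl q.2

end Mat

section Points


variable {k : Type u} [Field k] {σ : Type} [Fintype σ]

omit [Fintype σ] in
theorem homogeneousComponent_of_mem_stdGr {d : ℤ} {f : MvPolynomial σ k} (hf : f ∈ stdGr k σ d)
    (j : ℕ) : homogeneousComponent j f = if (j : ℤ) = d then f else 0 := by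
  rw [mem_stdGr_iff] at hf
  ext m
  rw [coeff_homogeneousComponent]
  by_cases hm : coeff m f = 0
  · split_ifs <;> simp [hm]
  · have h1 := hf hm
    have h2 : Finsupp.weight (fun _ : σ => (1 : ℤ)) m = (m.degree : ℤ) := by
      rw [Finsupp.weight_apply, Finsupp.degree, Finsupp.sum]
      simp
    rw [h2] at h1
    by_cases hj : (j : ℤ) = d
    · rw [if_pos hj, if_pos (by exact_mod_cast h1.trans hj.symm)]
    · rw [if_neg hj, if_neg (fun h => hj (by rw [← h1, h])), coeff_zero]

end Points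

section Gr


variable {k R : Type u} [CommRing k] [CommRing R]
  {M : Type u} [AddCommGroup M] [Module k M] [Module R M]
  {N : Type u} [AddCommGroup N] [Module k N] [Module R N]
  (ℳ : ℤ → Submodule k M) [Decomposition ℳ] (𝒩 : ℤ → Submodule k N) [Decomposition 𝒩]

/-- A graded hom commutes with taking homogeneous components. -/
theorem decompose_grHom (f : M →ₗ[R] N) (hf : GrLC.IsGrHom ℳ 𝒩 f) (m : M) (i : ℤ) :
    (decompose 𝒩 (f m) i : N) = f (decompose ℳ m i : M) := by
  induction m using DirectSum.Decomposition.inductionOn ℳ with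
  | zero => simp
  | @homogeneous j m =>
    obtain ⟨m, hm⟩ := m
    by_cases h : j = i
    · subst h
      rw [decompose_of_mem_same _ hm, decompose_of_mem_same _ (hf _ _ hm)]
    · rw [decompose_of_mem_ne _ hm h, decompose_of_mem_ne _ (hf _ _ hm) h, map_zero]
  | add m m' h h' =>
    simp only [map_add, decompose_add, DirectSum.add_apply, Submodule.coe_add, h, h']

end Gr

section Points2


variable {k : Type u} [Field k] {r : ℕ}
  (Z : Finset (Fin (r + 1) → k)) (I : Ideal (MvPolynomial (Fin (r + 1)) k))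
  (hI : ∀ f : MvPolynomial (Fin (r + 1)) k, f ∈ I ↔
      ∀ p ∈ Z, ∀ j : ℕ, MvPolynomial.eval p (MvPolynomial.homogeneousComponent j f) = 0)
  {M : Type u} [AddCommGroup M] [Module k M] [Module (MvPolynomial (Fin (r + 1)) k) M]
  [IsScalarTower k (MvPolynomial (Fin (r + 1)) k) M]
  (ℳ : ℤ → Submodule k M) [DirectSum.Decomposition ℳ]
  [SetLike.GradedSMul (GrSyz.stdGr k (Fin (r + 1))) ℳ]
  (π : MvPolynomial (Fin (r + 1)) k →ₗ[MvPolynomial (Fin (r + 1)) k] M) (hπ : Function.Surjective π)
  (hπg : GrLC.IsGrHom (GrSyz.stdGr k (Fin (r + 1))) ℳ π) (hker : LinearMap.ker π = I)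

include hπ hπg in
theorem exists_mem_stdGr_of_mem (d : ℤ) (m : M) (hm : m ∈ ℳ d) :
    ∃ s ∈ stdGr k (Fin (r + 1)) d, π s = m := by
  obtain ⟨s₀, rfl⟩ := hπ m
  refine ⟨(decompose (stdGr k (Fin (r + 1))) s₀ d : MvPolynomial (Fin (r + 1)) k),
    Submodule.coe_mem _, ?_⟩
  rw [← decompose_grHom (stdGr k (Fin (r + 1))) ℳ π hπg s₀ d, decompose_of_mem_same ℳ hm]

include hI hπ hπg hker in
theorem finrank_piece_le_card (d : ℤ) : Module.finrank k ↥(ℳ d) ≤ Z.card := by
  classical
  let V := stdGr k (Fin (r + 1)) d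
  have _ : Module.Finite k ↥V := GrHilbert.finite_stdGr k r d
  let πd : ↥V →ₗ[k] M := (π.restrictScalars k).comp V.subtype
  let ev : ↥V →ₗ[k] (↥Z → k) :=
    (LinearMap.pi fun p : ↥Z => (aeval (p : Fin (r + 1) → k)).toLinearMap).comp V.subtype
  have hrange : LinearMap.range πd = ℳ d := by
    apply le_antisymm
    · rintro _ ⟨s, rfl⟩
      exact hπg d s.1 s.2
    · intro m hm
      obtain ⟨s, hs, rfl⟩ := exists_mem_stdGr_of_mem ℳ π hπ hπg d m hm
      exact ⟨⟨s, hs⟩, rfl⟩
  have hk : LinearMap.ker ev ≤ LinearMap.ker πd := by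
    intro s hs
    rw [LinearMap.mem_ker] at hs ⊢
    change π s.1 = 0
    rw [← LinearMap.mem_ker, hker, hI]
    intro p hp j
    rw [homogeneousComponent_of_mem_stdGr s.2 j]
    split_ifs
    · have h5 : (aeval p) s.1 = 0 := congrFun hs ⟨p, hp⟩
      rwa [aeval_eq_eval] at h5
    · simp
  have h1 := LinearMap.finrank_range_add_finrank_ker πd
  have h2 := LinearMap.finrank_range_add_finrank_ker ev
  have h3 := Submodule.finrank_mono hk
  have h4 : Module.finrank k ↥(LinearMap.range ev) ≤ Module.finrank k (↥Z → k) :=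
    Submodule.finrank_le _
  rw [Module.finrank_pi, Fintype.card_coe] at h4
  rw [← hrange]
  omega

end Points2


theorem quad_bounded (A B C K D : ℤ) (h : ∀ d, D ≤ d → |A * d ^ 2 + B * d + C| ≤ K) :
    A = 0 ∧ B = 0 := by
  have hK : 0 ≤ K := le_trans (abs_nonneg _) (h D le_rfl)
  have hA : A = 0 := by
    have h0 := abs_le.1 (h D le_rfl)
    have h1 := abs_le.1 (h (D + (K + 1)) (by omega))
    have h2 := abs_le.1 (h (D + 2 * (K + 1)) (by omega))
    by_contra hA
    rcases lt_or_gt_of_ne hA with hA | hA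
    · have : A ≤ -1 := by omega
      nlinarith [h0.1, h0.2, h1.1, h1.2, h2.1, h2.2, mul_nonneg hK hK]
    · have : 1 ≤ A := by omega
      nlinarith [h0.1, h0.2, h1.1, h1.2, h2.1, h2.2, mul_nonneg hK hK]
  subst hA
  refine ⟨rfl, ?_⟩
  have h0 := abs_le.1 (h D le_rfl)
  have h1 := abs_le.1 (h (D + (2 * K + 1)) (by omega))
  by_contra hB
  rcases lt_or_gt_of_ne hB with hB | hB
  · have : B ≤ -1 := by omega
    nlinarith [h0.1, h0.2, h1.1, h1.2]
  · have : 1 ≤ B := by omega
    nlinarith [h0.1, h0.2, h1.1, h1.2]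


theorem two_mul_choose (x : ℤ) (hx : 0 ≤ x) :
    2 * ((Nat.choose (2 + x.toNat) 2 : ℕ) : ℤ) = (x + 2) * (x + 1) := by
  obtain ⟨n, rfl⟩ := Int.eq_ofNat_of_zero_le hx
  simp only [Int.toNat_natCast]
  have h : ∀ n : ℕ, 2 * Nat.choose (2 + n) 2 = (n + 2) * (n + 1) := by
    intro n
    induction n with
    | zero => simp
    | succ n ih =>
      have : 2 + (n + 1) = (2 + n) + 1 := by ring
      rw [this, Nat.choose_succ_succ' (2 + n) 1, Nat.choose_one_right]
      nlinarith [ih]
  exact_mod_cast h n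

theorem sum_quad (n : ℕ) (c : Fin n → ℤ) (d : ℤ) :
    ∑ b, ((d - c b) + 2) * ((d - c b) + 1) =
      (n : ℤ) * d ^ 2 + (∑ b, (3 - 2 * c b)) * d + ∑ b, ((c b) ^ 2 - 3 * c b + 2) := by
  have : (n : ℤ) * d ^ 2 = ∑ _b : Fin n, d ^ 2 := by simp
  rw [this, Finset.sum_mul, ← Finset.sum_add_distrib, ← Finset.sum_add_distrib]
  exact Finset.sum_congr rfl fun b _ => by ring

section FreeRes

variable {R : Type u} [CommRing R] {σ' : Type u} [SetLike σ' R]
variable {𝒜 : ℤ → σ'}
variable {M : Type u} [AddCommGroup M] [Module R M] {τ : Type u} [SetLike τ M] [AddSubgroupClass τ M]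
  {ℳ : ℤ → τ} [DirectSum.Decomposition ℳ] [SetLike.GradedSMul 𝒜 ℳ]

theorem d_mul_d (F : FreeRes 𝒜 ℳ) (i : ℕ) : F.d i * F.d (i + 1) = 0 := by
  apply Matrix.toLin'.injective
  rw [Matrix.toLin'_mul, map_zero]
  apply LinearMap.ext
  intro v
  have : Matrix.mulVecLin (F.d (i + 1)) v ∈ LinearMap.ker (Matrix.mulVecLin (F.d i)) := by
    rw [F.exact_succ i]
    exact ⟨v, rfl⟩
  simpa using this

theorem mulVec_injective_of_rk (F : FreeRes 𝒜 ℳ) (i : ℕ) (h : F.rk (i + 2) = 0) :
    Function.Injective (F.d i).mulVec := by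
  have hker : LinearMap.ker (Matrix.mulVecLin (F.d i)) = ⊥ := by
    rw [F.exact_succ i, eq_bot_iff]
    rintro _ ⟨w, rfl⟩
    have : IsEmpty (Fin (F.rk (i + 1 + 1))) := by rw [h]; infer_instance
    have hw : w = 0 := Subsingleton.elim _ _
    rw [hw, map_zero]
    exact Submodule.zero_mem _
  exact LinearMap.ker_eq_bot.1 hker

end FreeRes

end Groth.Agent.Lib.Helper77.HilbBurch
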