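import Mathlib
import Groth.Agent.Lib.Helper46.TorShift
import Groth.Agent.Lib.Helper77.TorVanish
import Groth.Prelude.Def_CAlg

/-!
# Auslander–Buchsbaum over a polynomial ring, via `Tor`

* `tor_map_smul_app`: the two scalar actions on Mathlib's `Tor` agree.
* `isZero_tor_quot_of_gt`, `isZero_tor_of_isZero_tor_quot`: `Tor_i(κ, M/xM)` versus `Tor_i(κ, M)`
  for an `M`-regular `x` killing `κ`.
* `idealDepth_eq`: for a Noetherian ring `R`, a maximal ideal `𝔪` with `Tor_i(R/𝔪, -) = 0` for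
  `i > m` and `Tor_m(R/𝔪, R/𝔪) ≠ 0`, a finite module `M` with `𝔪M ≠ M` whose last non-vanishing
  `Tor_p(R/𝔪, M)` is at `p` has `𝔪`-depth `m - p`.
* `not_isZero_tor_Iv`: `Tor_m(κ, κ) ≠ 0` for `κ` the residue field at the origin of
  `k[x_0..x_{m-1}]`.
-/

universe u
open CategoryTheory MonoidalCategory

namespace Groth.Agent.Lib.Helper77.TorAB
open Groth.Agent.Lib.Helper46

section General
variable {R : Type u} [CommRing R]

theorem lift_w (N : ModuleCat.{u} R) (x : R) (P : ProjectiveResolution N) :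
    (x • 𝟙 P.complex) ≫ P.π = P.π ≫ (ChainComplex.single₀ (ModuleCat.{u} R)).map (x • 𝟙 N) := by
  apply HomologicalComplex.to_single_hom_ext
  simp only [HomologicalComplex.comp_f, HomologicalComplex.smul_f_apply,
    ChainComplex.single₀_map_f_zero, Linear.smul_comp, Category.id_comp]
  exact ((Linear.comp_smul (R := R) _ _ N (P.π.f 0) x (𝟙 N)).trans (congrArg (x • ·) (Category.comp_id (P.π.f 0)))).symm

theorem chain_eq (A N : ModuleCat.{u} R) (x : R) (P : ProjectiveResolution N) :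
    (NatTrans.mapHomologicalComplex ((tensoringLeft (ModuleCat.{u} R)).map (x • 𝟙 A))
      (ComplexShape.down ℕ)).app P.complex =
    (((tensoringLeft (ModuleCat.{u} R)).obj A).mapHomologicalComplex (ComplexShape.down ℕ)).map
      (x • 𝟙 P.complex) := by
  ext i : 1
  simp
  rfl

/-- the two ways `x` acts on `Tor` agree. -/
theorem tor_map_smul_app (A N : ModuleCat.{u} R) (x : R) (n : ℕ) :
    ((Tor (ModuleCat.{u} R) n).map (x • 𝟙 A)).app N =
      ((Tor (ModuleCat.{u} R) n).obj A).map (x • 𝟙 N) := by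
  let P := projectiveResolution N
  change (NatTrans.leftDerived ((tensoringLeft (ModuleCat.{u} R)).map (x • 𝟙 A)) n).app N =
    (Functor.leftDerived ((tensoringLeft (ModuleCat.{u} R)).obj A) n).map (x • 𝟙 N)
  rw [P.leftDerived_app_eq, Functor.leftDerived_map_eq _ n (x • 𝟙 N) (x • 𝟙 P.complex) (lift_w N x P),
    chain_eq]
  rfl

theorem tor_obj_map_smul_eq_zero (A N : ModuleCat.{u} R) (x : R) (hx : x • 𝟙 A = 0) (n : ℕ) :
    ((Tor (ModuleCat.{u} R) n).obj A).map (x • 𝟙 N) = 0 := by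
  rw [← tor_map_smul_app]
  let P := projectiveResolution N
  change (NatTrans.leftDerived ((tensoringLeft (ModuleCat.{u} R)).map (x • 𝟙 A)) n).app N = 0
  rw [P.leftDerived_app_eq, hx]
  have : (NatTrans.mapHomologicalComplex ((tensoringLeft (ModuleCat.{u} R)).map (0 : A ⟶ A))
      (ComplexShape.down ℕ)).app P.complex = 0 := by
    ext i : 1
    simp
    rfl
  rw [this, Functor.map_zero, Limits.zero_comp, Limits.comp_zero]

theorem tor_map_smul_app_eq_zero (A N : ModuleCat.{u} R) (x : R) (hx : x • 𝟙 N = 0) (n : ℕ) :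
    ((Tor (ModuleCat.{u} R) n).map (x • 𝟙 A)).app N = 0 := by
  rw [tor_map_smul_app, hx]
  let P := projectiveResolution N
  change (Functor.leftDerived ((tensoringLeft (ModuleCat.{u} R)).obj A) n).map (0 : N ⟶ N) = 0
  rw [Functor.leftDerived_map_eq _ n (0 : N ⟶ N) (P := P) (Q := P) 0 (by simp),
    Functor.map_zero, Limits.zero_comp, Limits.comp_zero]

section Shift

variable (κ M : ModuleCat.{u} R) (x : R) (hκ : x • 𝟙 κ = 0) (hreg : IsSMulRegular M x)

include hreg in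
theorem isZero_tor_quot_of_gt (p : ℕ)
    (h : ∀ i, p < i → Limits.IsZero (((Tor (ModuleCat.{u} R) i).obj κ).obj M)) :
    ∀ i, p + 1 < i → Limits.IsZero (((Tor (ModuleCat.{u} R) i).obj κ).obj
      (ModuleCat.of R (QuotSMulTop x M))) := by
  intro i hi
  obtain ⟨j, rfl⟩ : ∃ j, i = j + 1 := ⟨i - 1, by omega⟩
  have hS := hreg.smulShortComplex_shortExact
  exact (TorLES2.exact₃₂ κ _ hS j).isZero_of_both_zeros ((h (j + 1) (by omega)).eq_of_src _ _)
    ((h j (by omega)).eq_of_tgt _ _)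

include hκ hreg in
theorem isZero_tor_of_isZero_tor_quot (p : ℕ)
    (h : Limits.IsZero (((Tor (ModuleCat.{u} R) (p + 1)).obj κ).obj
      (ModuleCat.of R (QuotSMulTop x M)))) :
    Limits.IsZero (((Tor (ModuleCat.{u} R) p).obj κ).obj M) := by
  have hS := hreg.smulShortComplex_shortExact
  have hex := TorLES2.exact₁₂ κ _ hS p
  have h0 : ((Tor (ModuleCat.{u} R) p).obj κ).map (M.smulShortComplex x).f = 0 :=
    tor_obj_map_smul_eq_zero κ M x hκ p
  have : Epi (TorLES2.δ₂ κ (M.smulShortComplex x) hS p) := hex.epi_f h0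
  exact @Limits.IsZero.of_epi _ _ _ _ _ (TorLES2.δ₂ κ (M.smulShortComplex x) hS p) this h

end Shift

section Depth

variable [IsNoetherianRing R] (𝔪 : Ideal R) [h𝔪 : 𝔪.IsMaximal]

/-- if no element of `𝔪` is `M`-regular then `R ⧸ 𝔪` embeds in `M`. -/
theorem exists_injective_of_forall_not_regular (M : Type u) [AddCommGroup M] [Module R M]
    [Module.Finite R M] (h : ∀ x ∈ 𝔪, ¬ IsSMulRegular M x) :
    ∃ f : (R ⧸ 𝔪) →ₗ[R] M, Function.Injective f := by
  have h1 : ¬ Subsingleton ((R ⧸ 𝔪) →ₗ[R] M) := by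
    rw [IsSMulRegular.subsingleton_linearMap_iff]
    rintro ⟨r, hr, hreg⟩
    rw [Ideal.annihilator_quotient] at hr
    exact h r hr hreg
  rw [not_subsingleton_iff_nontrivial] at h1
  obtain ⟨f, hf⟩ := exists_ne (0 : (R ⧸ 𝔪) →ₗ[R] M)
  refine ⟨f, ?_⟩
  have : IsSimpleModule R (R ⧸ 𝔪) := by
    rw [isSimpleModule_iff_isCoatom]
    exact Ideal.isMaximal_def.1 h𝔪
  rcases eq_bot_or_eq_top (LinearMap.ker f) with h2 | h2
  · exact LinearMap.ker_eq_bot.1 h2
  · exact absurd (LinearMap.ker_eq_top.1 h2) hf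

omit [IsNoetherianRing R] h𝔪 in
theorem smul_id_quot_eq_zero {x : R} (hx : x ∈ 𝔪) : x • 𝟙 (ModuleCat.of R (R ⧸ 𝔪)) = 0 := by
  ext
  simp only [ModuleCat.hom_smul, ModuleCat.hom_id, LinearMap.smul_apply, LinearMap.id_coe, id_eq,
    LinearMap.coe_comp, Function.comp_apply, Submodule.mkQ_apply, ModuleCat.hom_zero,
    LinearMap.zero_comp, LinearMap.zero_apply]
  rw [← Submodule.Quotient.mk_smul, Submodule.Quotient.mk_eq_zero]
  simpa using hx

variable (m : ℕ)
  (H1 : ∀ (N : ModuleCat.{u} R) (i : ℕ), m < i →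
    Limits.IsZero (((Tor (ModuleCat.{u} R) i).obj (ModuleCat.of R (R ⧸ 𝔪))).obj N))
  (H2 : ¬ Limits.IsZero (((Tor (ModuleCat.{u} R) m).obj (ModuleCat.of R (R ⧸ 𝔪))).obj
    (ModuleCat.of R (R ⧸ 𝔪))))

include H1 H2 in
theorem exists_regular_of_isZero_tor (M : Type u) [AddCommGroup M] [Module R M]
    [Module.Finite R M]
    (h0 : Limits.IsZero (((Tor (ModuleCat.{u} R) m).obj (ModuleCat.of R (R ⧸ 𝔪))).obj
      (ModuleCat.of R M))) : ∃ x ∈ 𝔪, IsSMulRegular M x := by
  by_contra hcon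
  push Not at hcon
  obtain ⟨f, hf⟩ := exists_injective_of_forall_not_regular 𝔪 M hcon
  exact H2 (TorShift.isZero_left₂ (N := R ⧸ 𝔪) f (LinearMap.range f).mkQ hf
    (LinearMap.exact_map_mkQ_range f) (Submodule.mkQ_surjective _) m (H1 _ (m + 1) (by omega)) h0)

omit [IsNoetherianRing R] h𝔪 in
include H1 in
theorem add_length_le (rs : List R) : ∀ (M : ModuleCat.{u} R) (p : ℕ),
    RingTheory.Sequence.IsWeaklyRegular M rs → (∀ r ∈ rs, r ∈ 𝔪) →
    ¬ Limits.IsZero (((Tor (ModuleCat.{u} R) p).obj (ModuleCat.of R (R ⧸ 𝔪))).obj M) →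
    (∀ i, p < i → Limits.IsZero (((Tor (ModuleCat.{u} R) i).obj (ModuleCat.of R (R ⧸ 𝔪))).obj M)) →
    p + rs.length ≤ m := by
  induction rs with
  | nil =>
    intro M p _ _ hp _
    by_contra hcon
    exact hp (H1 M p (by simpa using hcon))
  | cons x rs ih =>
    intro M p hreg hmem hp hvan
    rw [RingTheory.Sequence.isWeaklyRegular_cons_iff] at hreg
    have hx : x ∈ 𝔪 := hmem x (by simp)
    have := ih (ModuleCat.of R (QuotSMulTop x M)) (p + 1) hreg.2
      (fun r hr => hmem r (by simp [hr]))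
      (fun h => hp (isZero_tor_of_isZero_tor_quot _ M x (smul_id_quot_eq_zero 𝔪 hx) hreg.1 p h))
      (isZero_tor_quot_of_gt _ M x hreg.1 p hvan)
    simp only [List.length_cons]
    omega

include H1 H2 in
theorem exists_regular_seq (q : ℕ) : ∀ (M : ModuleCat.{u} R) [Module.Finite R M] (p : ℕ),
    p + q = m →
    ¬ Limits.IsZero (((Tor (ModuleCat.{u} R) p).obj (ModuleCat.of R (R ⧸ 𝔪))).obj M) →
    (∀ i, p < i → Limits.IsZero (((Tor (ModuleCat.{u} R) i).obj (ModuleCat.of R (R ⧸ 𝔪))).obj M)) →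
    ∃ rs : List R, RingTheory.Sequence.IsWeaklyRegular M rs ∧ (∀ r ∈ rs, r ∈ 𝔪) ∧
      rs.length = q := by
  induction q with
  | zero =>
    intro M _ p _ _ _
    exact ⟨[], RingTheory.Sequence.IsWeaklyRegular.nil R M, by simp, rfl⟩
  | succ q ih =>
    intro M _ p hpq hp hvan
    obtain ⟨x, hx, hreg⟩ := exists_regular_of_isZero_tor 𝔪 m H1 H2 M (hvan m (by omega))
    obtain ⟨rs, h1, h2, h3⟩ := ih (ModuleCat.of R (QuotSMulTop x M)) (p + 1) (by omega)
      (fun h => hp (isZero_tor_of_isZero_tor_quot _ M x (smul_id_quot_eq_zero 𝔪 hx) hreg p h))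
      (isZero_tor_quot_of_gt _ M x hreg p hvan)
    refine ⟨x :: rs, ?_, ?_, by simp [h3]⟩
    · rw [RingTheory.Sequence.isWeaklyRegular_cons_iff]
      exact ⟨hreg, h1⟩
    · intro r hr
      rcases List.mem_cons.1 hr with rfl | hr
      · exact hx
      · exact h2 r hr

include H1 H2 in
/-- **Auslander–Buchsbaum, `Tor` form**: if `Tor_p(R ⧸ 𝔪, M)` is the last non-vanishing `Tor` and
`p + q = m` then the `𝔪`-depth of `M` is `q`. -/
theorem idealDepth_eq (M : Type u) [AddCommGroup M] [Module R M] [Module.Finite R M]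
    (hM : 𝔪 • (⊤ : Submodule R M) ≠ ⊤) (p q : ℕ) (hpq : p + q = m)
    (hp : ¬ Limits.IsZero (((Tor (ModuleCat.{u} R) p).obj (ModuleCat.of R (R ⧸ 𝔪))).obj
      (ModuleCat.of R M)))
    (hvan : ∀ i, p < i → Limits.IsZero (((Tor (ModuleCat.{u} R) i).obj
      (ModuleCat.of R (R ⧸ 𝔪))).obj (ModuleCat.of R M))) :
    LocCoh.idealDepth 𝔪 M = (q : ℕ∞) := by
  unfold LocCoh.idealDepth
  rw [if_neg hM]
  apply le_antisymm
  · refine iSup₂_le fun rs hrs => ?_
    have := add_length_le 𝔪 m H1 rs (ModuleCat.of R M) p hrs.1 hrs.2 hp hvan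
    exact_mod_cast (by omega : rs.length ≤ q)
  · obtain ⟨rs, h1, h2, h3⟩ := exists_regular_seq 𝔪 m H1 H2 q (ModuleCat.of R M) p hpq hp hvan
    exact le_iSup₂_of_le rs ⟨h1, h2⟩ (by rw [h3])

end Depth

end General
section Poly

open MvPolynomial TorVanish

variable (k : Type u) [CommRing k] [Nontrivial k] (m : ℕ)

theorem ofHom_lsmul {R : Type u} [CommRing R] (M : Type u) [AddCommGroup M] [Module R M] (x : R) :
    ModuleCat.ofHom (LinearMap.lsmul R M x) = x • 𝟙 (ModuleCat.of R M) := by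
  ext
  simp

theorem Iv_top_ne_top : Iv k m m ≠ ⊤ := by
  rw [Iv_top, Ne, Ideal.eq_top_iff_one, RingHom.mem_ker]
  simp

theorem not_isZero_tor_Iv : ∀ j : ℕ, j ≤ m →
    ¬ Limits.IsZero (((Tor (ModuleCat.{u} (MvPolynomial (Fin m) k)) j).obj
      (ModuleCat.of (MvPolynomial (Fin m) k) (MvPolynomial (Fin m) k ⧸ Iv k m j))).obj
      (ModuleCat.of (MvPolynomial (Fin m) k) (MvPolynomial (Fin m) k ⧸ Iv k m m))) := by
  intro j
  induction j with
  | zero =>
    intro _ h
    have h2 := ModuleCat.subsingleton_of_isZero h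
    have e := (TorShift.torZeroEquiv (R := MvPolynomial (Fin m) k)
      (MvPolynomial (Fin m) k ⧸ Iv k m 0) (MvPolynomial (Fin m) k ⧸ Iv k m m)).symm
    have e2 : TensorProduct (MvPolynomial (Fin m) k) (MvPolynomial (Fin m) k ⧸ Iv k m 0)
        (MvPolynomial (Fin m) k ⧸ Iv k m m) ≃ₗ[MvPolynomial (Fin m) k]
        (MvPolynomial (Fin m) k ⧸ Iv k m m) :=
      (TensorProduct.congr (Submodule.quotEquivOfEqBot (Iv k m 0) (Iv_zero k m))
        (LinearEquiv.refl _ _)).trans (TensorProduct.lid _ _)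
    have h3 : Subsingleton (MvPolynomial (Fin m) k ⧸ Iv k m m) :=
      (e2.symm.trans e).toEquiv.subsingleton
    rw [Submodule.Quotient.subsingleton_iff] at h3
    exact Iv_top_ne_top k m h3
  | succ j ih =>
    intro hj h
    apply ih (by omega)
    let jj : Fin m := ⟨j, by omega⟩
    have hS := quotSC_shortExact (Iv k m j) (Iv k m (j + 1)) (Iv_mono k m (Nat.le_succ j)) (X jj)
        (X_mem_Iv k m jj) (Iv_exact k m jj) (Iv_reg k m jj)
    have hex := TorLES.exact₁ _ hS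
      (ModuleCat.of (MvPolynomial (Fin m) k) (MvPolynomial (Fin m) k ⧸ Iv k m m)) j
    have h0 : ((Tor (ModuleCat.{u} (MvPolynomial (Fin m) k)) j).map
        (quotSC (Iv k m j) (Iv k m (j + 1)) (Iv_mono k m (Nat.le_succ j)) (X jj)
          (X_mem_Iv k m jj)).f).app
        (ModuleCat.of (MvPolynomial (Fin m) k) (MvPolynomial (Fin m) k ⧸ Iv k m m)) = 0 := by
      have : (quotSC (Iv k m j) (Iv k m (j + 1)) (Iv_mono k m (Nat.le_succ j)) (X jj)
          (X_mem_Iv k m jj)).f = (X jj : MvPolynomial (Fin m) k) • 𝟙 _ := ofHom_lsmul _ _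
      rw [this]
      exact tor_map_smul_app_eq_zero _ _ _
        (smul_id_quot_eq_zero _ (Iv_mono k m (by omega) (X_mem_Iv k m jj))) j
    have hepi : Epi ((TorLES.δ _ hS j).app
        (ModuleCat.of (MvPolynomial (Fin m) k) (MvPolynomial (Fin m) k ⧸ Iv k m m))) :=
      hex.epi_f h0
    exact @Limits.IsZero.of_epi _ _ _ _ _ _ hepi h

theorem not_isZero_tor_of_eq_ker (𝔪 : Ideal (MvPolynomial (Fin m) k))
    (h𝔪 : 𝔪 = RingHom.ker (constantCoeff : MvPolynomial (Fin m) k →+* k)) :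
    ¬ Limits.IsZero (((Tor (ModuleCat.{u} (MvPolynomial (Fin m) k)) m).obj
      (ModuleCat.of (MvPolynomial (Fin m) k) (MvPolynomial (Fin m) k ⧸ 𝔪))).obj
      (ModuleCat.of (MvPolynomial (Fin m) k) (MvPolynomial (Fin m) k ⧸ 𝔪))) := by
  rw [← Iv_top] at h𝔪
  subst h𝔪
  exact not_isZero_tor_Iv k m m le_rfl

end Poly

end Groth.Agent.Lib.Helper77.TorAB
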