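import Mathlib
import Groth.Prelude.Def_GrSyz
import Groth.Prelude.Def_GrLC
import Groth.Agent.Lib.Helper77.HilbBurch
import Groth.Agent.Lib.Helper77.TorAB
import Groth.Agent.Lib.Helper77.GrTor
import Groth.Agent.Lib.Helper77.GrSyzBasic
import Groth.Agent.Lib.Helper77.TorVanish
import Groth.Agent.Lib.Helper77.GrSyzMinimal
import Groth.Agent.S15416

/-!
# The minimal free resolution of the coordinate ring of a finite set of points in the plane
-/

universe u
namespace Groth.Agent.Lib.Helper77.PointsRes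

open DirectSum GrSyz MvPolynomial CategoryTheory Groth.Agent.Lib.Helper46

section Quot


variable {k R : Type u} [CommRing k] [CommRing R] [Algebra k R]
  (𝒜 : ℤ → Submodule k R) [GradedAlgebra 𝒜] (I : Ideal R)

/-- the `k`-linear quotient map. -/
def mkQk : R →ₗ[k] R ⧸ I := (Submodule.mkQ I).restrictScalars k

/-- pieces of the quotient: images of the pieces. -/
def qpiece (d : ℤ) : Submodule k (R ⧸ I) := (𝒜 d).map (mkQk (k := k) I)

omit [GradedAlgebra 𝒜] in
theorem mk_mem_qpiece {d : ℤ} {y : R} (hy : y ∈ 𝒜 d) : Submodule.mkQ I y ∈ qpiece 𝒜 I d :=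
  ⟨y, hy, rfl⟩

/-- restriction of `mkQ` to pieces -/
def mkPiece (d : ℤ) : 𝒜 d →+ qpiece 𝒜 I d where
  toFun y := ⟨Submodule.mkQ I y.1, mk_mem_qpiece 𝒜 I y.2⟩
  map_zero' := by ext; simp
  map_add' a b := by ext; simp

noncomputable def preDecomp : R →+ ⨁ d, qpiece 𝒜 I d :=
  (DirectSum.map (mkPiece 𝒜 I)).comp (DirectSum.decomposeAddEquiv 𝒜).toAddMonoidHom

theorem preDecomp_of_mem {d : ℤ} {y : R} (hy : y ∈ 𝒜 d) :
    preDecomp 𝒜 I y = DirectSum.of (fun d => qpiece 𝒜 I d) d ⟨Submodule.mkQ I y, mk_mem_qpiece 𝒜 I hy⟩ := by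
  unfold preDecomp
  rw [AddMonoidHom.comp_apply]
  change DirectSum.map _ (DirectSum.decompose 𝒜 y) = _
  rw [DirectSum.decompose_of_mem 𝒜 hy, DirectSum.map_of]
  rfl

variable (hI : ∀ f ∈ I, ∀ d : ℤ, (decompose 𝒜 f d : R) ∈ I)

include hI in
theorem preDecomp_eq_zero {x : R} (hx : x ∈ I) : preDecomp 𝒜 I x = 0 := by
  classical
  rw [← DirectSum.sum_support_decompose 𝒜 x, map_sum]
  apply Finset.sum_eq_zero
  intro g _
  rw [preDecomp_of_mem 𝒜 I (SetLike.coe_mem _)]
  have : Submodule.mkQ I (DirectSum.decompose 𝒜 x g : R) = 0 := by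
    rw [Submodule.mkQ_apply, Submodule.Quotient.mk_eq_zero]
    exact hI x hx g
  have h2 : (⟨Submodule.mkQ I (DirectSum.decompose 𝒜 x g : R), mk_mem_qpiece 𝒜 I (SetLike.coe_mem _)⟩ :
      qpiece 𝒜 I g) = 0 := Subtype.ext this
  rw [h2, map_zero]

noncomputable def qDecomp : (R ⧸ I) →+ ⨁ d, qpiece 𝒜 I d :=
  QuotientAddGroup.lift I.toAddSubgroup (preDecomp 𝒜 I) (fun _ hx => preDecomp_eq_zero 𝒜 I hI hx)

theorem qDecomp_mk (x : R) : qDecomp 𝒜 I hI (Submodule.mkQ I x) = preDecomp 𝒜 I x := rfl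

/-- The decomposition instance on the quotient by a homogeneous ideal. -/
@[reducible] noncomputable def quotDecomposition : DirectSum.Decomposition (qpiece 𝒜 I) :=
  DirectSum.Decomposition.ofAddHom (qpiece 𝒜 I) (qDecomp 𝒜 I hI)
    (by
      ext x
      obtain ⟨x, rfl⟩ := Submodule.mkQ_surjective I x
      rw [AddMonoidHom.comp_apply, qDecomp_mk, AddMonoidHom.id_apply]
      induction x using DirectSum.Decomposition.inductionOn 𝒜 with
      | zero => simp
      | @homogeneous g y =>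
        obtain ⟨y, hy⟩ := y
        rw [preDecomp_of_mem 𝒜 I hy, DirectSum.coeAddMonoidHom_of]
      | add y y' hy hy' => rw [map_add, map_add, hy, hy', map_add])
    (by
      apply DirectSum.addHom_ext
      intro g x
      obtain ⟨x, y, hy, rfl⟩ := x
      rw [AddMonoidHom.comp_apply, DirectSum.coeAddMonoidHom_of]
      change qDecomp 𝒜 I hI (Submodule.mkQ I y) = _
      rw [qDecomp_mk, preDecomp_of_mem 𝒜 I hy]
      rfl)

theorem quotGradedSMul : SetLike.GradedSMul 𝒜 (qpiece 𝒜 I) where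
  smul_mem := by
    intro h g a x ha hx
    obtain ⟨y, hy, rfl⟩ := hx
    change a • Submodule.mkQ I y ∈ qpiece 𝒜 I (h + g)
    rw [← map_smul]
    exact mk_mem_qpiece 𝒜 I (SetLike.GradedMul.mul_mem ha hy)

theorem mkQ_grHom : GrLC.IsGrHom 𝒜 (qpiece 𝒜 I) (Submodule.mkQ I) := fun _ _ hy => mk_mem_qpiece 𝒜 I hy

end Quot

section A

variable {k : Type u} [Field k] {σ : Type} 

theorem coe_decompose_stdGr (f : MvPolynomial σ k) (d : ℤ) :
    (decompose (stdGr k σ) f d : MvPolynomial σ k) =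
      weightedHomogeneousComponent (fun _ : σ => (1 : ℤ)) d f :=
  MvPolynomial.weightedDecomposition.decompose'_apply k (fun _ : σ => (1 : ℤ)) f d

theorem weight_one_int (m : σ →₀ ℕ) :
    Finsupp.weight (fun _ : σ => (1 : ℤ)) m = (m.degree : ℤ) := by
  rw [Finsupp.weight_apply, Finsupp.degree, Finsupp.sum]
  simp

theorem coe_decompose_stdGr_natCast (f : MvPolynomial σ k) (j : ℕ) :
    (decompose (stdGr k σ) f (j : ℤ) : MvPolynomial σ k) = homogeneousComponent j f := by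
  rw [coe_decompose_stdGr]
  ext m
  rw [coeff_weightedHomogeneousComponent, coeff_homogeneousComponent, weight_one_int]
  simp only [Nat.cast_inj]

theorem coe_decompose_stdGr_neg (f : MvPolynomial σ k) (d : ℤ) (hd : d < 0) :
    (decompose (stdGr k σ) f d : MvPolynomial σ k) = 0 := by
  rw [coe_decompose_stdGr]
  ext m
  rw [coeff_weightedHomogeneousComponent, weight_one_int, if_neg (by omega), coeff_zero]

end A

section Pts


variable {k : Type u} [Field k] {r : ℕ}
  (Z : Finset (Fin (r + 1) → k)) (hZ : ∀ p ∈ Z, p ≠ 0) (I : Ideal (MvPolynomial (Fin (r + 1)) k))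
  (hI : ∀ f : MvPolynomial (Fin (r + 1)) k, f ∈ I ↔
      ∀ p ∈ Z, ∀ j : ℕ, MvPolynomial.eval p (MvPolynomial.homogeneousComponent j f) = 0)

include hI in
theorem mem_iff_decompose (f : MvPolynomial (Fin (r + 1)) k) :
    f ∈ I ↔ ∀ p ∈ Z, ∀ d : ℤ,
      MvPolynomial.eval p (decompose (stdGr k (Fin (r + 1))) f d : MvPolynomial (Fin (r + 1)) k) = 0 := by
  rw [hI]
  constructor
  · intro h p hp d
    by_cases hd : 0 ≤ d
    · obtain ⟨j, rfl⟩ := Int.eq_ofNat_of_zero_le hd
      rw [coe_decompose_stdGr_natCast]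
      exact h p hp j
    · rw [coe_decompose_stdGr_neg f d (by omega), map_zero]
  · intro h p hp j
    rw [← coe_decompose_stdGr_natCast]
    exact h p hp j

include hI in
theorem I_homogeneous (f : MvPolynomial (Fin (r + 1)) k) (hf : f ∈ I) (d : ℤ) :
    (decompose (stdGr k (Fin (r + 1))) f d : MvPolynomial (Fin (r + 1)) k) ∈ I := by
  rw [mem_iff_decompose Z I hI] at hf ⊢
  intro p hp d'
  by_cases h : d = d'
  · subst h
    rw [decompose_of_mem_same _ (SetLike.coe_mem _)]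
    exact hf p hp d
  · rw [decompose_of_mem_ne _ (SetLike.coe_mem _) h, map_zero]

include hZ hI in
theorem no_socle (g : MvPolynomial (Fin (r + 1)) k) (hg : ∀ i, X i * g ∈ I) : g ∈ I := by
  rw [mem_iff_decompose Z I hI]
  intro p hp d
  obtain ⟨i, hi⟩ : ∃ i, p i ≠ 0 := by
    by_contra hcon
    push Not at hcon
    exact hZ p hp (funext hcon)
  have h1 := (mem_iff_decompose Z I hI _).1 (hg i) p hp (1 + d)
  have hX : (X i : MvPolynomial (Fin (r + 1)) k) ∈ stdGr k (Fin (r + 1)) 1 := by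
    rw [mem_stdGr_iff]
    exact isWeightedHomogeneous_X k _ i
  rw [DirectSum.coe_decompose_mul_add_of_left_mem _ hX, map_mul, eval_X] at h1
  exact (mul_eq_zero.1 h1).resolve_left hi

include hI in
theorem I_le_irrel (hZne : Z.Nonempty) : I ≤ (irrel (stdGr k (Fin (r + 1)))).toIdeal := by
  intro f hf
  rw [GrTor.irrel_eq_ker_constantCoeff, RingHom.mem_ker, constantCoeff_eq]
  obtain ⟨p, hp⟩ := hZne
  have := (hI f).1 hf p hp 0
  simpa [homogeneousComponent_zero] using this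

end Pts

section Res


variable {k : Type u} [Field k] {r : ℕ}
  (Z : Finset (Fin (r + 1) → k)) (hZ : ∀ p ∈ Z, p ≠ 0) (I : Ideal (MvPolynomial (Fin (r + 1)) k))
  (hI : ∀ f : MvPolynomial (Fin (r + 1)) k, f ∈ I ↔
      ∀ p ∈ Z, ∀ j : ℕ, MvPolynomial.eval p (MvPolynomial.homogeneousComponent j f) = 0)
  {M : Type u} [AddCommGroup M] [Module k M] [Module (MvPolynomial (Fin (r + 1)) k) M]
  [IsScalarTower k (MvPolynomial (Fin (r + 1)) k) M]
  (ℳ : ℤ → Submodule k M) [DirectSum.Decomposition ℳ]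
  [SetLike.GradedSMul (GrSyz.stdGr k (Fin (r + 1))) ℳ]
  (π : MvPolynomial (Fin (r + 1)) k →ₗ[MvPolynomial (Fin (r + 1)) k] M) (hπ : Function.Surjective π)
  (hker : LinearMap.ker π = I)
  (F : FreeRes (stdGr k (Fin (r + 1))) ℳ) (hF : F.IsMinimal (irrel (stdGr k (Fin (r + 1)))).toIdeal)

include hZ hI hπ hker in
theorem eq_zero_of_irrel_smul (m : M)
    (hm : ∀ x ∈ (irrel (stdGr k (Fin (r + 1)))).toIdeal, x • m = 0) : m = 0 := by
  obtain ⟨g, rfl⟩ := hπ m
  have : g ∈ I := by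
    apply no_socle Z hZ I hI
    intro i
    rw [← hker, LinearMap.mem_ker, ← smul_eq_mul, map_smul]
    apply hm
    apply Groth.Agent.Lib.Helper77.mem_irrel_of_mem_stdGr k (Fin (r + 1)) (n := 1) (by norm_num)
    rw [mem_stdGr_iff]
    exact isWeightedHomogeneous_X k _ i
  rw [← hker] at this
  exact this

include hZ hI hπ hker in
theorem exists_regular : ∃ x ∈ (irrel (stdGr k (Fin (r + 1)))).toIdeal, IsSMulRegular M x := by
  have _ : Module.Finite (MvPolynomial (Fin (r + 1)) k) M := Module.Finite.of_surjective π hπ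
  have hsub : Subsingleton ((MvPolynomial (Fin (r + 1)) k ⧸ (irrel (stdGr k (Fin (r + 1)))).toIdeal)
      →ₗ[MvPolynomial (Fin (r + 1)) k] M) := by
    refine ⟨fun f g => ?_⟩
    have key : ∀ f : (MvPolynomial (Fin (r + 1)) k ⧸ (irrel (stdGr k (Fin (r + 1)))).toIdeal)
      →ₗ[MvPolynomial (Fin (r + 1)) k] M, f = 0 := by
      intro f
      have h1 : f (Submodule.Quotient.mk 1) = 0 := by
        apply eq_zero_of_irrel_smul Z hZ I hI π hπ hker
        intro x hx
        rw [← map_smul, ← Submodule.Quotient.mk_smul, smul_eq_mul, mul_one,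
          (Submodule.Quotient.mk_eq_zero _).2 hx, map_zero]
      apply LinearMap.ext
      intro y
      obtain ⟨s, rfl⟩ := Submodule.Quotient.mk_surjective _ y
      have : (Submodule.Quotient.mk s : MvPolynomial (Fin (r + 1)) k ⧸ (irrel (stdGr k (Fin (r + 1)))).toIdeal)
          = s • Submodule.Quotient.mk 1 := by
        rw [← Submodule.Quotient.mk_smul, smul_eq_mul, mul_one]
      rw [this, map_smul, h1, smul_zero, LinearMap.zero_apply]
    rw [key f, key g]
  obtain ⟨x, hx, hreg⟩ := IsSMulRegular.subsingleton_linearMap_iff.1 hsub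
  rw [Ideal.annihilator_quotient] at hx
  exact ⟨x, hx, hreg⟩

include hZ hI hπ hker hF in
theorem rk_top_eq_zero : ∀ i, r < i → F.rk i = 0 := by
  intro i hi
  have hmax := GrTor.irrel_isMaximal k (Fin (r + 1))
  have hkerc := GrTor.irrel_eq_ker_constantCoeff k (Fin (r + 1))
  have H1 := fun (N : ModuleCat.{u} (MvPolynomial (Fin (r + 1)) k)) (i : ℕ) (hi : r + 1 < i) =>
    TorVanish.isZero_tor_of_eq_ker k (r + 1) _ hkerc N i hi
  have hlen := GrTor.length_tor F _ hF i
  suffices hz : Limits.IsZero (((Tor (ModuleCat.{u} (MvPolynomial (Fin (r + 1)) k)) i).obj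
      (ModuleCat.of _ (MvPolynomial (Fin (r + 1)) k ⧸ (irrel (stdGr k (Fin (r + 1)))).toIdeal))).obj
      (ModuleCat.of _ M)) by
    have hsub := ModuleCat.subsingleton_of_isZero hz
    rw [Module.length_eq_zero] at hlen
    exact_mod_cast hlen.symm
  by_cases hi' : r + 1 < i
  · exact H1 _ i hi'
  · have hir : i = r + 1 := by omega
    subst hir
    by_contra hnz
    obtain ⟨x, hx, hreg⟩ := exists_regular Z hZ I hI π hπ hker
    have := TorAB.add_length_le _ (r + 1) H1 [x] (ModuleCat.of _ M) (r + 1)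
      ((RingTheory.Sequence.isWeaklyRegular_cons_iff _ _ _).2
        ⟨hreg, RingTheory.Sequence.IsWeaklyRegular.nil _ _⟩)
      (by simpa using hx) hnz (fun j hj => H1 _ j hj)
    simp at this

end Res

section Res2


variable {k : Type u} [Field k] {r : ℕ}
  (I : Ideal (MvPolynomial (Fin (r + 1)) k))
  {M : Type u} [AddCommGroup M] [Module k M] [Module (MvPolynomial (Fin (r + 1)) k) M]
  [IsScalarTower k (MvPolynomial (Fin (r + 1)) k) M]
  (ℳ : ℤ → Submodule k M) [DirectSum.Decomposition ℳ]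
  [SetLike.GradedSMul (GrSyz.stdGr k (Fin (r + 1))) ℳ]
  (π : MvPolynomial (Fin (r + 1)) k →ₗ[MvPolynomial (Fin (r + 1)) k] M) (hπ : Function.Surjective π)
  (hker : LinearMap.ker π = I)
  (F : FreeRes (stdGr k (Fin (r + 1))) ℳ) (hF : F.IsMinimal (irrel (stdGr k (Fin (r + 1)))).toIdeal)

include hπ hker in
theorem pi_one_notMem (hle : I ≤ (irrel (stdGr k (Fin (r + 1)))).toIdeal) :
    π 1 ∉ (irrel (stdGr k (Fin (r + 1)))).toIdeal • (⊤ : Submodule (MvPolynomial (Fin (r + 1)) k) M) := by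
  intro h
  have htop : (⊤ : Submodule (MvPolynomial (Fin (r + 1)) k) M) = Submodule.map π ⊤ := by
    rw [Submodule.map_top, LinearMap.range_eq_top.2 hπ]
  rw [htop, ← Submodule.map_smul''] at h
  obtain ⟨m, hm, hm'⟩ := h
  rw [smul_eq_mul, Ideal.mul_top] at hm
  have h1 : (1 - m) ∈ I := by
    rw [← hker, LinearMap.mem_ker, map_sub, hm', sub_self]
  have : (1 : MvPolynomial (Fin (r + 1)) k) ∈ (irrel (stdGr k (Fin (r + 1)))).toIdeal := by
    have := Ideal.add_mem _ (hle h1) hm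
    simpa using this
  exact Groth.Agent.Lib.Helper77.one_notMem_irrel k (Fin (r + 1)) this

include hπ hker hF in
theorem rk_zero_eq_one (hle : I ≤ (irrel (stdGr k (Fin (r + 1)))).toIdeal) : F.rk 0 = 1 := by
  have hmax := GrTor.irrel_isMaximal k (Fin (r + 1))
  set 𝔪 := (irrel (stdGr k (Fin (r + 1)))).toIdeal with h𝔪
  have hlen0 := GrTor.length_tor F 𝔪 hF 0
  have e1 := TorShift.torZeroEquiv (R := MvPolynomial (Fin (r + 1)) k)
    (MvPolynomial (Fin (r + 1)) k ⧸ 𝔪) M
  have e2 := TensorProduct.quotTensorEquivQuotSMul M 𝔪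
  have hsimple : IsSimpleModule (MvPolynomial (Fin (r + 1)) k) (MvPolynomial (Fin (r + 1)) k ⧸ 𝔪) := by
    rw [isSimpleModule_iff_isCoatom]
    exact Ideal.isMaximal_def.1 hmax
  let ψ : MvPolynomial (Fin (r + 1)) k →ₗ[MvPolynomial (Fin (r + 1)) k]
      M ⧸ 𝔪 • (⊤ : Submodule (MvPolynomial (Fin (r + 1)) k) M) := (Submodule.mkQ _).comp π
  have hψ : 𝔪 ≤ LinearMap.ker ψ := by
    intro x hx
    rw [LinearMap.mem_ker]
    change Submodule.mkQ _ (π x) = 0
    rw [Submodule.mkQ_apply, Submodule.Quotient.mk_eq_zero]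
    have : π x = x • π 1 := by rw [← map_smul, smul_eq_mul, mul_one]
    rw [this]
    exact Submodule.smul_mem_smul hx Submodule.mem_top
  let φ := Submodule.liftQ 𝔪 ψ hψ
  have hφsurj : Function.Surjective φ := by
    rw [← LinearMap.range_eq_top, Submodule.range_liftQ, LinearMap.range_eq_top]
    exact (Submodule.mkQ_surjective _).comp hπ
  have hφinj : Function.Injective φ := by
    rcases eq_bot_or_eq_top (LinearMap.ker φ) with h | h
    · exact LinearMap.ker_eq_bot.1 h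
    · exfalso
      apply pi_one_notMem I π hπ hker hle
      have : φ (Submodule.Quotient.mk 1) = 0 := by
        rw [← LinearMap.mem_ker, h]; trivial
      change Submodule.mkQ _ (π 1) = 0 at this
      rwa [Submodule.mkQ_apply, Submodule.Quotient.mk_eq_zero] at this
  have e3 := LinearEquiv.ofBijective φ ⟨hφinj, hφsurj⟩
  rw [LinearEquiv.length_eq ((e1.trans e2).trans e3.symm), Module.length_eq_one] at hlen0
  exact_mod_cast hlen0.symm

end Res2

section Hilb


variable {k : Type u} [Field k]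
  {M : Type u} [AddCommGroup M] [Module k M] [Module (MvPolynomial (Fin (2 + 1)) k) M]
  [IsScalarTower k (MvPolynomial (Fin (2 + 1)) k) M]
  (ℳ : ℤ → Submodule k M) [DirectSum.Decomposition ℳ]
  [SetLike.GradedSMul (GrSyz.stdGr k (Fin (2 + 1))) ℳ]
  (F : FreeRes (stdGr k (Fin (2 + 1))) ℳ)

/-- a graded module over `k[x_0,x_1,x_2]` with bounded Hilbert function and a resolution of length
`≤ 2`: the two leading coefficients of the Hilbert polynomial vanish. -/
theorem hilbert_AB (hlen : F.HasLengthLE 2) (K : ℕ)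
    (hbound : ∀ d, Module.finrank k ↥(ℳ d) ≤ K) :
    (F.rk 0 : ℤ) - F.rk 1 + F.rk 2 = 0 ∧
      (∑ b, (3 - 2 * F.deg 0 b)) - (∑ b, (3 - 2 * F.deg 1 b)) + ∑ b, (3 - 2 * F.deg 2 b) = 0 := by
  have hH := fun d => GrHilbert.finrank_piece (k := k) (r := 2) F 2 hlen d
  let D : ℤ := ∑ i ∈ Finset.range 3, ∑ b : Fin (F.rk i), |F.deg i b|
  have hD : ∀ i (b : Fin (F.rk i)), i ≤ 2 → F.deg i b ≤ D := by
    intro i b hi
    calc F.deg i b ≤ |F.deg i b| := le_abs_self _
      _ ≤ ∑ b : Fin (F.rk i), |F.deg i b| :=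
        Finset.single_le_sum (f := fun b => |F.deg i b|) (fun _ _ => abs_nonneg _) (Finset.mem_univ b)
      _ ≤ D := Finset.single_le_sum (f := fun i => ∑ b : Fin (F.rk i), |F.deg i b|)
        (fun _ _ => Finset.sum_nonneg fun _ _ => abs_nonneg _) (Finset.mem_range.2 (by omega))
  let A : ℤ := (F.rk 0 : ℤ) - F.rk 1 + F.rk 2
  let B : ℤ := (∑ b, (3 - 2 * F.deg 0 b)) - (∑ b, (3 - 2 * F.deg 1 b)) + ∑ b, (3 - 2 * F.deg 2 b)
  let C : ℤ := (∑ b, ((F.deg 0 b) ^ 2 - 3 * F.deg 0 b + 2)) -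
    (∑ b, ((F.deg 1 b) ^ 2 - 3 * F.deg 1 b + 2)) + ∑ b, ((F.deg 2 b) ^ 2 - 3 * F.deg 2 b + 2)
  have hquad : ∀ d, D ≤ d → 2 * (Module.finrank k ↥(ℳ d) : ℤ) = A * d ^ 2 + B * d + C := by
    intro d hd
    have hs : ∀ i, i ≤ 2 → 2 * ∑ b : Fin (F.rk i),
        (if F.deg i b ≤ d then ((Nat.choose (2 + (d - F.deg i b).toNat) 2 : ℕ) : ℤ) else 0) =
        (F.rk i : ℤ) * d ^ 2 + (∑ b, (3 - 2 * F.deg i b)) * d +
          ∑ b, ((F.deg i b) ^ 2 - 3 * F.deg i b + 2) := by
      intro i hi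
      rw [← HilbBurch.sum_quad, Finset.mul_sum]
      refine Finset.sum_congr rfl fun b _ => ?_
      have := hD i b hi
      rw [if_pos (by omega)]
      exact HilbBurch.two_mul_choose _ (by omega)
    rw [hH d]
    simp only [Finset.sum_range_succ, Finset.sum_range_zero, zero_add, pow_zero, pow_one, one_mul]
    have e0 := hs 0 (by norm_num)
    have e1 := hs 1 (by norm_num)
    have e2 := hs 2 (by norm_num)
    simp only [A, B, C]
    linear_combination e0 - e1 + e2
  exact HilbBurch.quad_bounded A B C (2 * (K : ℤ)) D (fun d hd => by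
    rw [← hquad d hd, abs_le]
    have := hbound d
    constructor <;> [skip; skip] <;> omega)

variable (π : MvPolynomial (Fin (2 + 1)) k →ₗ[MvPolynomial (Fin (2 + 1)) k] M)
  (hπ : Function.Surjective π) (hπg : GrLC.IsGrHom (GrSyz.stdGr k (Fin (2 + 1))) ℳ π)

include hπ hπg in
/-- the generator of `F_0` has degree `0`. -/
theorem deg_zero_eq_zero (hπ1 : π 1 ≠ 0) (hrk0 : F.rk 0 = 1) (b₀ : Fin (F.rk 0)) :
    F.deg 0 b₀ = 0 := by
  have hb₀ : ∀ b : Fin (F.rk 0), b = b₀ := fun b => Fin.ext (by have := b.2; have := b₀.2; omega)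
  rcases lt_trichotomy (F.deg 0 b₀) 0 with hneg | h0 | hpos
  · exfalso
    obtain ⟨s, hs, hs'⟩ := HilbBurch.exists_mem_stdGr_of_mem (r := 2) ℳ π hπ hπg _ _ (F.aug_mem b₀)
    have hfin : Module.Finite k ↥(GrSyz.stdGr k (Fin (2 + 1)) (F.deg 0 b₀)) :=
      GrHilbert.finite_stdGr k 2 _
    have hs0 : s = 0 := by
      have h0 := GrHilbert.finrank_stdGr_neg k 2 _ hneg
      rw [Submodule.finrank_eq_zero] at h0
      rw [h0] at hs
      exact (Submodule.mem_bot _).1 hs
    rw [hs0, map_zero] at hs'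
    obtain ⟨v, hv⟩ := F.aug_surjective (π 1)
    apply hπ1
    rw [← hv, Fintype.linearCombination_apply]
    refine Finset.sum_eq_zero fun b _ => ?_
    rw [hb₀ b, ← hs', smul_zero]
  · exact h0
  · exfalso
    have hfr : Module.finrank k ↥(GrStrand.strand F 0 0) = 0 := by
      rw [GrHilbert.finrank_strand]
      refine Finset.sum_eq_zero fun b _ => ?_
      rw [hb₀ b, if_neg (by omega)]
    have hsub : Subsingleton ↥(GrStrand.strand F 0 0) := Module.finrank_zero_iff.1 hfr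
    have h1mem : π 1 ∈ ℳ 0 := hπg 0 1 (SetLike.GradedOne.one_mem)
    obtain ⟨w, hw⟩ := GrStrand.augS_surjective F 0 ⟨π 1, h1mem⟩
    have hw0 : w = 0 := Subsingleton.elim _ _
    rw [hw0, map_zero] at hw
    exact hπ1 (congrArg Subtype.val hw).symm

end Hilb

section Abstract


theorem ef_ge_one {S : Type*} [CommRing S] [IsDomain S] {t r : ℕ}
    (G : Matrix (Fin r) (Fin (t + 1)) S) (Mx : Matrix (Fin (t + 1)) (Fin t) S)
    (hGM : G * Mx = 0) (hinj : Function.Injective Mx.mulVec) (hcol : ∀ p, ∃ a, G a p ≠ 0)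
    (a : Fin (t + 1) → ℤ) (b : Fin t → ℤ) (ha : Antitone a) (hb : Antitone b)
    (hzero : ∀ p q, b q - a p ≤ 0 → Mx p q = 0) (i : Fin t) :
    1 ≤ b i - a i.castSucc ∧ 1 ≤ b i - a i.succ := by
  constructor
  · by_contra hcon
    refine HilbBurch.zero_block_contra G Mx hGM hinj hcol i (fun p q hp hq => hzero p q ?_)
    have := ha hp
    have := hb hq
    omega
  · by_contra hcon
    refine HilbBurch.zero_block_contra' Mx hinj i (fun p q hp hq => hzero p q ?_)
    have := ha hp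
    have := hb hq
    omega

theorem le_of_ef (t : ℕ) (a : Fin (t + 1) → ℤ) (b : Fin t → ℤ)
    (he : ∀ i : Fin t, 1 ≤ b i - a i.castSucc) (hf : ∀ i : Fin t, 1 ≤ b i - a i.succ)
    (hsum : ∑ p, a p = ∑ q, b q) (i : Fin (t + 1)) : (t : ℤ) ≤ a i := by
  rw [Fin.sum_univ_succAbove a i] at hsum
  have h1 : ∑ j : Fin t, (1 : ℤ) ≤ ∑ j : Fin t, (b j - a (i.succAbove j)) := by
    apply Finset.sum_le_sum
    intro j _
    unfold Fin.succAbove
    split_ifs
    · exact he j
    · exact hf j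
  rw [Finset.sum_sub_distrib] at h1
  simp at h1
  linarith

end Abstract

section Deg


variable {k : Type u} [Field k] {σ : Type}

/-- a nonzero homogeneous element of degree `d` of the ideal generated by homogeneous `g p` of
degrees `a p` forces some `a p ≤ d`. -/
theorem exists_deg_le {n : ℕ} (g : Fin n → MvPolynomial σ k) (a : Fin n → ℤ)
    (hg : ∀ p, g p ∈ stdGr k σ (a p)) (f : MvPolynomial σ k) (d : ℤ) (hf : f ∈ stdGr k σ d)
    (hf0 : f ≠ 0) (hmem : f ∈ Ideal.span (Set.range g)) : ∃ p, a p ≤ d := by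
  by_contra hcon
  push Not at hcon
  apply hf0
  obtain ⟨h, rfl⟩ := (Ideal.mem_span_range_iff_exists_fun).1 hmem
  rw [← decompose_of_mem_same (stdGr k σ) hf, decompose_sum]
  rw [DFinsupp.finsetSum_apply, AddSubmonoidClass.coe_finsetSum]
  refine Finset.sum_eq_zero fun p _ => ?_
  have : d = (d - a p) + a p := by ring
  rw [this, DirectSum.coe_decompose_mul_add_of_right_mem _ (hg p),
    coe_decompose_stdGr_neg _ _ (by have := hcon p; omega), zero_mul]

end Deg

section Data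


variable {k : Type u} [Field k]
  (Z : Finset (Fin (2 + 1) → k)) (hZ : ∀ p ∈ Z, p ≠ 0) (hZne : Z.Nonempty)
  (I : Ideal (MvPolynomial (Fin (2 + 1)) k))
  (hI : ∀ f : MvPolynomial (Fin (2 + 1)) k, f ∈ I ↔
      ∀ p ∈ Z, ∀ j : ℕ, MvPolynomial.eval p (MvPolynomial.homogeneousComponent j f) = 0)
  {M : Type u} [AddCommGroup M] [Module k M] [Module (MvPolynomial (Fin (2 + 1)) k) M]
  [IsScalarTower k (MvPolynomial (Fin (2 + 1)) k) M]
  (ℳ : ℤ → Submodule k M) [DirectSum.Decomposition ℳ]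
  [SetLike.GradedSMul (GrSyz.stdGr k (Fin (2 + 1))) ℳ]
  (π : MvPolynomial (Fin (2 + 1)) k →ₗ[MvPolynomial (Fin (2 + 1)) k] M) (hπ : Function.Surjective π)
  (hπg : GrLC.IsGrHom (GrSyz.stdGr k (Fin (2 + 1))) ℳ π)
  (hker : LinearMap.ker π = I)
  (F : FreeRes (stdGr k (Fin (2 + 1))) ℳ) (hF : F.IsMinimal (irrel (stdGr k (Fin (2 + 1)))).toIdeal)

include hZ hZne hI hπ hπg hker hF in
theorem points_data : F.HasLengthLE 2 ∧ F.rk 0 = 1 ∧ F.rk 1 = F.rk 2 + 1 ∧
    (∀ b, F.deg 0 b = 0) ∧ ∑ b, F.deg 1 b = ∑ b, F.deg 2 b := by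
  have hlen : F.HasLengthLE 2 := fun i hi => rk_top_eq_zero Z hZ I hI ℳ π hπ hker F hF i hi
  have hle := I_le_irrel Z I hI hZne
  have hrk0 := rk_zero_eq_one I ℳ π hπ hker F hF hle
  have hbound := fun d => HilbBurch.finrank_piece_le_card (r := 2) Z I hI ℳ π hπ hπg hker d
  obtain ⟨hA, hB⟩ := hilbert_AB ℳ F hlen Z.card hbound
  have hrk1 : F.rk 1 = F.rk 2 + 1 := by
    rw [hrk0] at hA
    push_cast at hA
    omega
  have hπ1 : π 1 ≠ 0 := by
    intro h
    have h1 : (1 : MvPolynomial (Fin (2 + 1)) k) ∈ I := by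
      rw [← hker]; exact LinearMap.mem_ker.2 h
    exact Groth.Agent.Lib.Helper77.one_notMem_irrel k (Fin (2 + 1)) (hle h1)
  have hdeg0 : ∀ b, F.deg 0 b = 0 := fun b => deg_zero_eq_zero ℳ F π hπ hπg hπ1 hrk0 b
  refine ⟨hlen, hrk0, hrk1, hdeg0, ?_⟩
  have s0 : ∑ b, (3 - 2 * F.deg 0 b) = 3 := by
    simp only [hdeg0, mul_zero, sub_zero, Finset.sum_const, Finset.card_univ, Fintype.card_fin, hrk0]
    norm_num
  have s1 : ∑ b, (3 - 2 * F.deg 1 b) = 3 * (F.rk 1 : ℤ) - 2 * ∑ b, F.deg 1 b := by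
    rw [Finset.sum_sub_distrib, ← Finset.mul_sum]
    simp
    ring
  have s2 : ∑ b, (3 - 2 * F.deg 2 b) = 3 * (F.rk 2 : ℤ) - 2 * ∑ b, F.deg 2 b := by
    rw [Finset.sum_sub_distrib, ← Finset.mul_sum]
    simp
    ring
  rw [s0, s1, s2] at hB
  have hc : (F.rk 1 : ℤ) = F.rk 2 + 1 := by exact_mod_cast hrk1
  linarith


include hZ hZne hI hπ hπg hker hF in
theorem data_of_freeRes :
    ∃ (t : ℕ) (Ψ : Matrix (Fin (t + 1)) (Fin t) (MvPolynomial (Fin (2 + 1)) k))
      (g : Fin (t + 1) → MvPolynomial (Fin (2 + 1)) k) (a : Fin (t + 1) → ℤ) (b : Fin t → ℤ),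
      Function.Injective Ψ.mulVec ∧
      LinearMap.ker (Fintype.linearCombination (MvPolynomial (Fin (2 + 1)) k) g) =
        LinearMap.range Ψ.mulVecLin ∧
      LinearMap.range (Fintype.linearCombination (MvPolynomial (Fin (2 + 1)) k) g) = I ∧
      (∀ p q, Ψ p q ∈ stdGr k (Fin (2 + 1)) (b q - a p) ∧
        Ψ p q ∈ (irrel (stdGr k (Fin (2 + 1)))).toIdeal) ∧
      (∀ p, g p ∈ stdGr k (Fin (2 + 1)) (a p) ∧ g p ≠ 0) ∧
      ∑ p, a p = ∑ q, b q := by
  obtain ⟨hlen, hrk0, hrk1, hdeg0, hsum⟩ := points_data Z hZ hZne I hI ℳ π hπ hπg hker F hF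
  have h1𝔪 : (1 : MvPolynomial (Fin (2 + 1)) k) ∉ (irrel (stdGr k (Fin (2 + 1)))).toIdeal :=
    Groth.Agent.Lib.Helper77.one_notMem_irrel k (Fin (2 + 1))
  let b₀ : Fin (F.rk 0) := ⟨0, by omega⟩
  have hb₀ : ∀ b : Fin (F.rk 0), b = b₀ := fun b => Fin.ext (by have := b.2; simp only [b₀]; omega)
  let e1 : Fin (F.rk 2 + 1) ≃ Fin (F.rk 1) := finCongr hrk1.symm
  have hd1 : Function.Injective (F.d 1).mulVec := HilbBurch.mulVec_injective_of_rk F 1 (hlen 3 (by norm_num))
  -- `d_0` in terms of the single row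
  have hd0 : ∀ v' : Fin (F.rk 1) → MvPolynomial (Fin (2 + 1)) k,
      (F.d 0).mulVec v' = Pi.single b₀ (∑ p', F.d 0 b₀ p' * v' p') := by
    intro v'
    funext b
    rw [hb₀ b, Pi.single_eq_same]
    rfl
  have key : ∀ v : Fin (F.rk 2 + 1) → MvPolynomial (Fin (2 + 1)) k,
      ∑ p, v p • F.d 0 b₀ (e1 p) = ∑ p', F.d 0 b₀ p' * (v ∘ e1.symm) p' := by
    intro v
    rw [← Fintype.sum_equiv e1 (fun p => F.d 0 b₀ (e1 p) * (v ∘ e1.symm) (e1 p)) _ (fun _ => rfl)]
    refine Finset.sum_congr rfl fun p _ => ?_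
    simp [mul_comm]
  refine ⟨F.rk 2, fun p q => F.d 1 (e1 p) q, fun p => F.d 0 b₀ (e1 p), fun p => F.deg 1 (e1 p),
    fun q => F.deg 2 q, ?_, ?_, ?_, ?_, ?_, ?_⟩
  · intro v w h
    apply hd1
    funext p'
    have := congrFun h (e1.symm p')
    simpa [Matrix.mulVec, dotProduct] using this
  · ext v
    rw [LinearMap.mem_ker, Fintype.linearCombination_apply, LinearMap.mem_range]
    constructor
    · intro h
      have hk : (v ∘ e1.symm) ∈ LinearMap.ker (Matrix.mulVecLin (F.d 0)) := by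
        rw [LinearMap.mem_ker, Matrix.mulVecLin_apply, hd0, ← key, h, Pi.single_zero]
      rw [F.exact_succ 0] at hk
      obtain ⟨w, hw⟩ := hk
      refine ⟨w, ?_⟩
      funext p
      have := congrFun hw (e1 p)
      simpa [Matrix.mulVec, dotProduct] using this
    · rintro ⟨w, rfl⟩
      have hk : Matrix.mulVecLin (F.d (0 + 1)) w ∈ LinearMap.ker (Matrix.mulVecLin (F.d 0)) := by
        rw [F.exact_succ 0]; exact ⟨w, rfl⟩
      rw [LinearMap.mem_ker, Matrix.mulVecLin_apply, hd0] at hk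
      have h2 := congrFun hk b₀
      rw [Pi.single_eq_same, Pi.zero_apply] at h2
      rw [key, ← h2]
      refine Finset.sum_congr rfl fun p' _ => ?_
      simp [Matrix.mulVec, dotProduct]
  · have hle := I_le_irrel Z I hI hZne
    have hπ1 : π 1 ≠ 0 := by
      intro h
      have h1 : (1 : MvPolynomial (Fin (2 + 1)) k) ∈ I := by
        rw [← hker]; exact LinearMap.mem_ker.2 h
      exact h1𝔪 (hle h1)
    have haug : ∀ s : MvPolynomial (Fin (2 + 1)) k,
        Fintype.linearCombination (MvPolynomial (Fin (2 + 1)) k) F.aug (Pi.single b₀ s) = s • F.aug b₀ := by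
      intro s
      rw [Fintype.linearCombination_apply, Fintype.sum_eq_single b₀ (fun b hb => absurd (hb₀ b) hb),
        Pi.single_eq_same]
    obtain ⟨c, hc, hc'⟩ := HilbBurch.exists_mem_stdGr_of_mem (r := 2) ℳ π hπ hπg _ _ (F.aug_mem b₀)
    rw [hdeg0] at hc
    have hcu : IsUnit c := by
      apply Groth.Agent.Lib.Helper77.isUnit_of_mem_stdGr_of_notMem_irrel k (Fin (2 + 1)) hc
      intro hcm
      have hc0 : c = 0 :=
        Groth.Agent.Lib.Helper77.eq_zero_of_mem_stdGr_of_mem_irrel k (Fin (2 + 1)) le_rfl hc hcm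
      rw [hc0, map_zero] at hc'
      obtain ⟨v, hv⟩ := F.aug_surjective (π 1)
      apply hπ1
      rw [← hv, Fintype.linearCombination_apply]
      refine Finset.sum_eq_zero fun b _ => ?_
      rw [hb₀ b, ← hc', smul_zero]
    have hiff : ∀ s : MvPolynomial (Fin (2 + 1)) k, s • F.aug b₀ = 0 ↔ s ∈ I := by
      intro s
      rw [← hc', ← map_smul, smul_eq_mul, ← LinearMap.mem_ker, hker]
      constructor
      · intro h
        have := I.mul_mem_right (↑hcu.unit⁻¹ : MvPolynomial (Fin (2 + 1)) k) h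
        simpa [mul_assoc] using this
      · intro h
        exact I.mul_mem_right _ h
    ext s
    rw [LinearMap.mem_range, ← hiff]
    constructor
    · rintro ⟨v, rfl⟩
      have hmem : Pi.single b₀ (Fintype.linearCombination (MvPolynomial (Fin (2 + 1)) k)
          (fun p => F.d 0 b₀ (e1 p)) v) ∈
          LinearMap.ker (Fintype.linearCombination (MvPolynomial (Fin (2 + 1)) k) F.aug) := by
        rw [F.exact_zero]
        refine ⟨v ∘ e1.symm, ?_⟩
        rw [Matrix.mulVecLin_apply, hd0, Fintype.linearCombination_apply, key]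
      rw [LinearMap.mem_ker, haug] at hmem
      exact hmem
    · intro h
      have hmem : Pi.single b₀ s ∈
          LinearMap.ker (Fintype.linearCombination (MvPolynomial (Fin (2 + 1)) k) F.aug) := by
        rw [LinearMap.mem_ker, haug]; exact h
      rw [F.exact_zero] at hmem
      obtain ⟨v', hv'⟩ := hmem
      rw [Matrix.mulVecLin_apply, hd0] at hv'
      have h2 := congrFun hv' b₀
      rw [Pi.single_eq_same, Pi.single_eq_same] at h2
      refine ⟨v' ∘ e1, ?_⟩
      rw [Fintype.linearCombination_apply, key, ← h2]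
      refine Finset.sum_congr rfl fun p' _ => ?_
      simp
  · intro p q
    exact ⟨F.d_mem 1 (e1 p) q, hF 1 _ _⟩
  · intro p
    constructor
    · have := F.d_mem 0 b₀ (e1 p)
      rwa [hdeg0, sub_zero] at this
    · obtain ⟨a', ha'⟩ := Groth.Agent.Lib.Helper77.freeRes_exists_entry_ne_zero F h1𝔪 hF 0 (e1 p)
      rwa [hb₀ a'] at ha'
  · rw [← hsum]
    exact Fintype.sum_equiv e1 _ _ (fun _ => rfl)


include hZ hZne hI in
/-- the Hilbert–Burch data of the vanishing ideal of a nonempty finite set of points of the plane. -/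
theorem exists_data :
    ∃ (t : ℕ) (Ψ : Matrix (Fin (t + 1)) (Fin t) (MvPolynomial (Fin (2 + 1)) k))
      (g : Fin (t + 1) → MvPolynomial (Fin (2 + 1)) k) (a : Fin (t + 1) → ℤ) (b : Fin t → ℤ),
      Function.Injective Ψ.mulVec ∧
      LinearMap.ker (Fintype.linearCombination (MvPolynomial (Fin (2 + 1)) k) g) =
        LinearMap.range Ψ.mulVecLin ∧
      LinearMap.range (Fintype.linearCombination (MvPolynomial (Fin (2 + 1)) k) g) = I ∧
      (∀ p q, Ψ p q ∈ stdGr k (Fin (2 + 1)) (b q - a p) ∧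
        Ψ p q ∈ (irrel (stdGr k (Fin (2 + 1)))).toIdeal) ∧
      (∀ p, g p ∈ stdGr k (Fin (2 + 1)) (a p) ∧ g p ≠ 0) ∧
      ∑ p, a p = ∑ q, b q := by
  have hIh := I_homogeneous Z I hI
  letI : DirectSum.Decomposition (qpiece (stdGr k (Fin (2 + 1))) I) :=
    quotDecomposition (stdGr k (Fin (2 + 1))) I hIh
  haveI : SetLike.GradedSMul (stdGr k (Fin (2 + 1))) (qpiece (stdGr k (Fin (2 + 1))) I) :=
    quotGradedSMul (stdGr k (Fin (2 + 1))) I
  obtain ⟨F, hF⟩ := Groth.Agent.S15416.result k 2 (MvPolynomial (Fin (2 + 1)) k ⧸ I)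
    (qpiece (stdGr k (Fin (2 + 1))) I)
  exact data_of_freeRes Z hZ hZne I hI (qpiece (stdGr k (Fin (2 + 1))) I) (Submodule.mkQ I)
    (Submodule.mkQ_surjective I) (mkQ_grHom (stdGr k (Fin (2 + 1))) I) (Submodule.ker_mkQ I) F hF

end Data

end Groth.Agent.Lib.Helper77.PointsRes
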