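import Mathlib
import Groth.Prelude.Def_GrMod2
import Groth.Agent.Lib.Helper77.TM2

/-!
TM3 (helper77): `A(-a)~ (t) ≅ O(t - a)` on `Proj`: for an `ℕ`-indexed family `𝒮` on `A` with
`𝒮 n = 𝒜 (n - a)`, the module `GrTilde.tilde 𝒜 𝒮 t` is isomorphic to `Twist.twist 𝒜 (t - a)`.
-/

set_option autoImplicit false
universe u
open CategoryTheory CategoryTheory.Limits AlgebraicGeometry Opposite TopologicalSpace

namespace Groth.Agent.Lib.Helper77.TM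

open Groth.Agent.Lib.QCoh

variable {R A : Type u} [CommRing R] [CommRing A] [Algebra R A] {𝒜 : ℕ → Submodule R A}
  [GradedAlgebra 𝒜]

/-- a homogeneous element of positive degree outside a point of `Proj` -/
theorem exists_pos_not_mem (x : ProjectiveSpectrum 𝒜) :
    ∃ (d : ℕ) (g : 𝒜 d), 0 < d ∧ g.1 ∉ x.asHomogeneousIdeal := by
  classical
  obtain ⟨f, m, f_deg, hm, hx⟩ : ∃ (f : A) (m : ℕ) (_ : f ∈ 𝒜 m) (_ : 0 < m),
      f ∉ x.asHomogeneousIdeal := by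
    by_contra!
    refine x.not_irrelevant_le fun z hz ↦ ?_
    rw [← DirectSum.sum_support_decompose 𝒜 z]
    exact x.asHomogeneousIdeal.toIdeal.sum_mem fun k hk ↦
      this _ k (SetLike.coe_mem _) <| by_contra <| by aesop
  exact ⟨m, ⟨f, f_deg⟩, hm, hx⟩

variable (𝒮 : ℕ → Submodule R A) [SetLike.GradedSMul 𝒜 𝒮] (a : ℤ)
  (h1 : ∀ n i : ℕ, (n : ℤ) = i + a → 𝒮 n = 𝒜 i) (h2 : ∀ n : ℕ, (n : ℤ) < a → 𝒮 n = ⊥)

include h1 h2 in
theorem mem_twistAt_of_mem_tildeAt (t : ℤ) (x : ProjectiveSpectrum 𝒜)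
    (q : GrTilde.LocMod 𝒜 (M := A) x) (hq : q ∈ GrTilde.tildeAt 𝒜 𝒮 t x) :
    (q : Twist.Loc 𝒜 x) ∈ Twist.twistAt 𝒜 (t - a) x := by
  unfold GrTilde.tildeAt at hq
  unfold Twist.twistAt
  induction hq using Submodule.span_induction with
  | mem q hq =>
    obtain ⟨i, j, m, s, hs, hij, rfl⟩ := hq
    by_cases hia : (i : ℤ) < a
    · have hm : m.1 = 0 := (Submodule.mem_bot R).1 ((h2 i hia).le m.2)
      rw [hm]
      show (Localization.mk 0 _ : Twist.Loc 𝒜 x) ∈ _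
      rw [Localization.mk_zero]
      exact zero_mem _
    · push_neg at hia
      obtain ⟨i', hi'⟩ : ∃ i' : ℕ, (i : ℤ) = i' + a := ⟨(i - a).toNat, by omega⟩
      have hm : m.1 ∈ 𝒜 i' := (h1 i i' hi').le m.2
      exact Submodule.subset_span ⟨i', j, ⟨m.1, hm⟩, s, hs, by omega, rfl⟩
  | zero => exact zero_mem _
  | add p q _ _ hp hq => exact add_mem hp hq
  | smul c p _ hp => exact Submodule.smul_mem _ c hp

/-- sections of `A(-a)~(t)` are sections of `O(t - a)` -/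
noncomputable def toTwistSect (t : ℤ) (U : (Opens (ProjectiveSpectrum.top 𝒜))ᵒᵖ) :
    GrTilde.sect 𝒜 𝒮 t U →ₗ[Twist.O (𝒜 := 𝒜) U] Twist.sectN (𝒜 := 𝒜) (t - a) U where
  toFun s := ⟨fun x => ⟨((s.1 x).1 : Twist.Loc 𝒜 x.1),
      mem_twistAt_of_mem_tildeAt 𝒮 a h1 h2 t x.1 _ (s.1 x).2⟩, by
    intro x
    obtain ⟨V, hxV, i, i', j, m, b, nin, h, w⟩ := s.2 x
    by_cases hia : (i' : ℤ) < a
    · have hm : m.1 = 0 := (Submodule.mem_bot R).1 ((h2 i' hia).le m.2)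
      exact ⟨V, hxV, i, 0, j, 0, b, nin, Or.inr rfl, fun y => by
        have := w y
        dsimp only at this ⊢
        erw [this, hm]
        show (Localization.mk 0 _ : Twist.Loc 𝒜 _) = Localization.mk 0 _
        rfl⟩
    · push_neg at hia
      obtain ⟨i'', hi''⟩ : ∃ i'' : ℕ, (i' : ℤ) = i'' + a := ⟨(i' - a).toNat, by omega⟩
      have hm : m.1 ∈ 𝒜 i'' := (h1 i' i'' hi'').le m.2
      refine ⟨V, hxV, i, i'', j, ⟨m.1, hm⟩, b, nin, ?_, fun y => w y⟩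
      rcases h with h | h
      · exact Or.inl (by omega)
      · exact Or.inr h⟩
  map_add' s s' := rfl
  map_smul' r s := rfl

/-- the comparison morphism `A(-a)~(t) ⟶ O(t - a)` -/
noncomputable def toTwist (t : ℤ) : GrTilde.tilde 𝒜 𝒮 t ⟶ Twist.twist 𝒜 (t - a) :=
  SheafOfModules.Hom.mk
    (PresheafOfModules.homMk (M₁ := GrTilde.tildePMod 𝒜 𝒮 t) (M₂ := Twist.twistPMod 𝒜 (t - a))
      { app := fun U => AddCommGrpCat.ofHom (toTwistSect 𝒮 a h1 h2 t U).toAddMonoidHom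
        naturality := fun _ _ _ => rfl }
      (fun U r s => (toTwistSect 𝒮 a h1 h2 t U).map_smul r s))

/-- value of a section of `O(n)` at a point -/
noncomputable abbrev tv (n : ℤ) {U : (Proj 𝒜).Opens} (s : Γ(Twist.twist 𝒜 n, U)) (p : U) :
    Twist.Loc 𝒜 p.1 :=
  (((s : Twist.sectN (𝒜 := 𝒜) n (op U)).1 p : Twist.twistAt 𝒜 n p.1) : Twist.Loc 𝒜 p.1)

theorem tv_ext (n : ℤ) {U : (Proj 𝒜).Opens} {s s' : Γ(Twist.twist 𝒜 n, U)}
    (h : ∀ p : U, tv n s p = tv n s' p) : s = s' := by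
  apply Subtype.ext
  funext p
  exact Subtype.ext (h p)

theorem tv_map (n : ℤ) {U V : (Proj 𝒜).Opens} (i : V ⟶ U) (s : Γ(Twist.twist 𝒜 n, U)) (p : V) :
    tv n ((Twist.twist 𝒜 n).presheaf.map i.op s) p = tv n s ⟨p.1, i.le p.2⟩ := rfl

theorem tv_toTwist (t : ℤ) {U : (Proj 𝒜).Opens} (s : Γ(GrTilde.tilde 𝒜 𝒮 t, U)) (p : U) :
    tv (t - a) ((toTwist 𝒮 a h1 h2 t).app U s) p = (mv t s p : Twist.Loc 𝒜 p.1) := rfl

theorem exists_fracN (n : ℤ) {U : (Proj 𝒜).Opens} (s : Γ(Twist.twist 𝒜 n, U)) (p : U) :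
    ∃ (V : (Proj 𝒜).Opens) (_ : p.1 ∈ V) (hVU : V ≤ U) (i j : ℕ) (m : 𝒜 i) (b : 𝒜 j)
      (nin : ∀ y : V, b.1 ∉ y.1.asHomogeneousIdeal),
      ((i : ℤ) = j + n ∨ m.1 = 0) ∧
      ∀ y : V, tv n s ⟨y.1, hVU y.2⟩ = Localization.mk m.1 ⟨b.1, nin y⟩ := by
  obtain ⟨V, hxV, i, i', j, m, b, nin, h, w⟩ := (s : Twist.sectN (𝒜 := 𝒜) n (op U)).2 p
  exact ⟨V, hxV, i.le, i', j, m, b, nin, h, fun y => w y⟩

instance toTwist_mono (t : ℤ) : Mono (toTwist 𝒮 a h1 h2 t) := by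
  apply mono_of_app_injective
  intro U
  rw [injective_iff_map_eq_zero]
  intro s hs
  apply mv_ext
  intro p
  have h := congrArg (fun z => tv (t - a) z p) hs
  exact h

include h1 in
theorem toTwist_epi (t : ℤ) : Epi (toTwist 𝒮 a h1 h2 t) := by
  apply epi_of_locally_surjective
  intro V n x hx
  obtain ⟨W, hxW, hWV, i, j, m, b, nin, hij, hw⟩ := exists_fracN (t - a) n ⟨x, hx⟩
  by_cases h0 : m.1 = 0
  · refine ⟨W, hWV, hxW, fracSect t (0 : 𝒮 0) b (Or.inr rfl) W nin, ?_⟩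
    apply tv_ext
    intro y
    rw [tv_toTwist, mv_fracSect, tv_map, hw y, h0]
    show (Localization.mk 0 _ : Twist.Loc 𝒜 _) = Localization.mk 0 _
    rfl
  · have hij' : (i : ℤ) = j + (t - a) := hij.resolve_right h0
    obtain ⟨d, g, hd, hgx⟩ := exists_pos_not_mem x
    -- choose `N` with `j + t + N d ≥ 0`
    obtain ⟨N, hN⟩ : ∃ N : ℕ, 0 ≤ (j : ℤ) + t + N * d := by
      refine ⟨(-(j + t)).toNat, ?_⟩
      have hd' : (1 : ℤ) ≤ d := by exact_mod_cast hd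
      have h3 : ((-(j + t : ℤ)).toNat : ℤ) ≤ ((-(j + t : ℤ)).toNat : ℤ) * d :=
        le_mul_of_one_le_right (by positivity) hd'
      have h4 : -(j + t : ℤ) ≤ ((-(j + t : ℤ)).toNat : ℤ) := Int.self_le_toNat _
      omega
    obtain ⟨n', hn'⟩ : ∃ n' : ℕ, (n' : ℤ) = j + t + N * d := ⟨((j : ℤ) + t + N * d).toNat, by omega⟩
    have hgN : g.1 ^ N ∈ 𝒜 (N * d) := by
      have := SetLike.pow_mem_graded N g.2
      simpa [smul_eq_mul] using this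
    have hmem : g.1 ^ N * m.1 ∈ 𝒮 n' := by
      rw [h1 n' (N * d + i) (by push_cast; omega)]
      exact SetLike.mul_mem_graded hgN m.2
    have hnin' : ∀ y : (W ⊓ Proj.basicOpen 𝒜 g.1 : (Proj 𝒜).Opens),
        (g.1 ^ N * b.1) ∉ y.1.asHomogeneousIdeal := fun y hy =>
      (y.1.isPrime.mem_or_mem hy).elim
        (fun hh => (ProjectiveSpectrum.mem_basicOpen 𝒜 g.1 y.1).1 y.2.2
          (y.1.isPrime.mem_of_pow_mem N hh)) (nin ⟨y.1, y.2.1⟩)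
    refine ⟨W ⊓ Proj.basicOpen 𝒜 g.1, inf_le_left.trans hWV,
      ⟨hxW, (ProjectiveSpectrum.mem_basicOpen 𝒜 g.1 x).2 hgx⟩,
      fracSect t (⟨g.1 ^ N * m.1, hmem⟩ : 𝒮 n')
        (⟨g.1 ^ N * b.1, SetLike.mul_mem_graded hgN b.2⟩ : 𝒜 (N * d + j))
        (Or.inl (by push_cast; omega)) _ hnin', ?_⟩
    apply tv_ext
    intro y
    rw [tv_toTwist, mv_fracSect, tv_map, hw ⟨y.1, y.2.1⟩]
    show (Localization.mk (g.1 ^ N * m.1) _ : Twist.Loc 𝒜 _) = Localization.mk m.1 _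
    rw [Localization.mk_eq_mk_iff, Localization.r_iff_exists]
    exact ⟨1, by simp only [OneMemClass.coe_one, one_mul]; ring⟩

include h1 h2 in
/-- **`A(-a)~(t) ≅ O(t - a)`** -/
theorem nonempty_tilde_shift_iso (t : ℤ) :
    Nonempty (GrTilde.tilde 𝒜 𝒮 t ≅ Twist.twist 𝒜 (t - a)) := by
  have := toTwist_mono 𝒮 a h1 h2 t
  have := toTwist_epi 𝒮 a h1 h2 t
  have : IsIso (toTwist 𝒮 a h1 h2 t) := isIso_of_mono_of_epi _
  exact ⟨asIso (toTwist 𝒮 a h1 h2 t)⟩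

end Groth.Agent.Lib.Helper77.TM
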