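import Mathlib
import Groth.Prelude.Def_GrMod2
import Groth.Prelude.Def_GrLC
import Groth.Prelude.Def_GrSyz
import Groth.Agent.Lib.Helper77.TM3
import Groth.Agent.Lib.Helper77.GLC7
import Groth.Agent.Lib.Helper77.PointsRes
import Groth.Agent.Lib.Cohomology.helper5_R3Skeleton
import Groth.Agent.S0844

/-!
TM4 (helper77): graded modules over `k[x_0..x_r]` (in the `GLC` form: `ℤ`-indexed families of
additive subgroups over `sg k (r+1)`) and the cohomology of their sheaves on `P^r_k`.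

* `nrA 𝒩 : ℕ → Submodule k N` the non-negative pieces, `GradedSMul` over `polyGrading`,
  `homAnn_nrA`.
* `SV 𝒩 t i` : `H^i(P^r, N(t)~) = 0`; `SV_right` (from a graded short exact sequence),
  `SV_of_subsingleton`, `SV_fgr` (free modules, from `S0844`).
-/

set_option autoImplicit false
universe u
open CategoryTheory CategoryTheory.Limits AlgebraicGeometry Opposite TopologicalSpace

namespace Groth.Agent.Lib.Helper77.TM

open GrLC DirectSum GrSyz MvPolynomial Groth.Agent.Lib.Helper77.GLC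
open Groth.Agent.Lib.Cohomology.HHLES Groth.Agent.Lib.Cohomology.R3

variable (k : Type u) [Field k] (r : ℕ)

theorem stdGr_natCast (n : ℕ) :
    stdGr k (Fin (r + 1)) (n : ℤ) = CohB1.polyGrading r k n := by
  ext p
  rw [mem_stdGr_iff]
  show _ ↔ p.IsHomogeneous n
  unfold MvPolynomial.IsHomogeneous MvPolynomial.IsWeightedHomogeneous
  refine forall_congr' fun d => forall_congr' fun _ => ?_
  rw [Groth.Agent.Lib.Helper77.PointsRes.weight_one_int, Finsupp.degree_eq_weight_one]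
  simp only [Nat.cast_inj]
  rfl

theorem stdGr_neg (n : ℤ) (hn : n < 0) : stdGr k (Fin (r + 1)) n = ⊥ := by
  rw [eq_bot_iff]
  intro p hp
  rw [mem_stdGr_iff] at hp
  rw [Submodule.mem_bot]
  by_contra hp0
  obtain ⟨d, hd⟩ := MvPolynomial.ne_zero_iff.1 hp0
  have := hp hd
  rw [Groth.Agent.Lib.Helper77.PointsRes.weight_one_int] at this
  omega

section bridge

variable {N : Type u} [AddCommGroup N] [Module (MvPolynomial (Fin (r + 1)) k) N] [Module k N]
  [IsScalarTower k (MvPolynomial (Fin (r + 1)) k) N]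
  (𝒩 : ℤ → AddSubgroup N) [SetLike.GradedSMul (sg k (r + 1)) 𝒩]

/-- the pieces of non-negative degree, as `k`-subspaces -/
def nrA (n : ℕ) : Submodule k N where
  carrier := 𝒩 (n : ℤ)
  add_mem' := add_mem
  zero_mem' := zero_mem _
  smul_mem' c x hx := by
    have h0 : (C c : MvPolynomial (Fin (r + 1)) k) ∈ sg k (r + 1) 0 :=
      isWeightedHomogeneous_C (fun _ : Fin (r + 1) => (1 : ℤ)) c
    have h := SetLike.GradedSMul.smul_mem h0 hx
    rw [vadd_eq_add, zero_add] at h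
    have e : c • x = (C c : MvPolynomial (Fin (r + 1)) k) • x := by
      rw [← algebraMap_eq, algebraMap_smul]
    rw [e]
    exact h

theorem mem_nrA {n : ℕ} {x : N} : x ∈ nrA k r 𝒩 n ↔ x ∈ 𝒩 (n : ℤ) := Iff.rfl

instance nrA_gradedSMul : SetLike.GradedSMul (CohB1.polyGrading r k) (nrA k r 𝒩) where
  smul_mem := by
    intro i j a x ha hx
    have ha' : a ∈ sg k (r + 1) (i : ℤ) := by
      show a ∈ stdGr k (Fin (r + 1)) (i : ℤ)
      rw [stdGr_natCast]; exact ha
    have h := SetLike.GradedSMul.smul_mem ha' ((mem_nrA k r 𝒩).1 hx)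
    rw [mem_nrA]
    rw [vadd_eq_add] at h ⊢
    rw [Nat.cast_add]
    exact h

theorem homAnn_nrA [Decomposition 𝒩] : HomAnn (CohB1.polyGrading r k) (nrA k r 𝒩) := by
  intro c i n hn hc j
  have h1 := Groth.Agent.Lib.Helper66.Graded.decompose_smul_of_mem (sg k (r + 1)) 𝒩
    ((mem_nrA k r 𝒩).1 hn) c ((j : ℤ) + i)
  rw [hc, decompose_zero, DirectSum.zero_apply, ZeroMemClass.coe_zero, add_sub_cancel_right,
    coe_decompose_flat, Groth.Agent.Lib.Helper77.PointsRes.coe_decompose_stdGr_natCast] at h1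
  have h2 : (DirectSum.decompose (CohB1.polyGrading r k) c j : MvPolynomial (Fin (r + 1)) k) =
      homogeneousComponent j c := MvPolynomial.decomposition.decompose'_apply c j
  rw [h2]
  exact h1.symm

end bridge

section SV

variable {K : Type u} [AddCommGroup K] [Module (MvPolynomial (Fin (r + 1)) k) K] [Module k K]
  [IsScalarTower k (MvPolynomial (Fin (r + 1)) k) K]
  {M : Type u} [AddCommGroup M] [Module (MvPolynomial (Fin (r + 1)) k) M] [Module k M]
  [IsScalarTower k (MvPolynomial (Fin (r + 1)) k) M]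
  {N : Type u} [AddCommGroup N] [Module (MvPolynomial (Fin (r + 1)) k) N] [Module k N]
  [IsScalarTower k (MvPolynomial (Fin (r + 1)) k) N]
  (𝒦 : ℤ → AddSubgroup K) [SetLike.GradedSMul (sg k (r + 1)) 𝒦]
  (ℳ : ℤ → AddSubgroup M) [SetLike.GradedSMul (sg k (r + 1)) ℳ]
  (𝒩 : ℤ → AddSubgroup N) [SetLike.GradedSMul (sg k (r + 1)) 𝒩]

/-- the sheaf `N(t)~` on `P^r_k` -/
noncomputable abbrev Sh (t : ℤ) : (CohB1.ProjSpace r k).Modules :=
  GrTilde.tilde (CohB1.polyGrading r k) (nrA k r 𝒩) t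

/-- vanishing of `H^i(P^r, N(t)~)` -/
def SV (t : ℤ) (i : ℕ) : Prop :=
  Subsingleton (Coh.HH (CohB1.ProjSpace r k) (Sh k r 𝒩 t) i)

theorem subsingleton_HH_of_iso {X : Scheme.{u}} {F G : X.Modules} (e : F ≅ G) (i : ℕ)
    (h : Subsingleton (Coh.HH X G i)) : Subsingleton (Coh.HH X F i) := by
  refine subsingleton_of_forall_eq 0 fun x => ?_
  have h1 : hmap e.inv i (hmap e.hom i x) = x := by
    rw [← hmap_comp, e.hom_inv_id, hmap_id]
  rw [← h1, Subsingleton.elim (hmap e.hom i x) 0, map_zero]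

theorem subsingleton_HH_of_isZero {X : Scheme.{u}} {F : X.Modules} (hF : IsZero F) (i : ℕ) :
    Subsingleton (Coh.HH X F i) := by
  refine subsingleton_of_forall_eq 0 fun x => ?_
  have h1 : hmap (𝟙 F) i x = x := hmap_id F i x
  rw [← h1, hF.eq_of_src (𝟙 F) 0, hmap_zero]

theorem SV_of_subsingleton [Subsingleton N] (t : ℤ) (i : ℕ) : SV k r 𝒩 t i :=
  subsingleton_HH_of_isZero (isZero_tilde_of_subsingleton t) i

variable {𝒦 ℳ 𝒩} [Decomposition 𝒦] [Decomposition ℳ] [Decomposition 𝒩]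

omit [Decomposition 𝒩] in
theorem GSES.exists_piece_lift_left {f : K →ₗ[MvPolynomial (Fin (r + 1)) k] M}
    {p : M →ₗ[MvPolynomial (Fin (r + 1)) k] N} (S : GSES 𝒦 ℳ 𝒩 f p) (g : ℤ) (m : M) (hm : m ∈ ℳ g)
    (hpm : p m = 0) : ∃ x ∈ 𝒦 g, f x = m := by
  have : m ∈ LinearMap.range f := by rw [← S.exact]; exact hpm
  obtain ⟨x, rfl⟩ := this
  refine ⟨(decompose 𝒦 x g : K), SetLike.coe_mem _, ?_⟩
  rw [← Groth.Agent.Lib.Helper66.Graded.decompose_grHom 𝒦 ℳ f S.f_gr x g,
    decompose_of_mem_same ℳ hm]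

omit [Decomposition 𝒦] in
theorem GSES.exists_piece_lift_right {f : K →ₗ[MvPolynomial (Fin (r + 1)) k] M}
    {p : M →ₗ[MvPolynomial (Fin (r + 1)) k] N} (S : GSES 𝒦 ℳ 𝒩 f p) (g : ℤ) (n : N) (hn : n ∈ 𝒩 g) :
    ∃ m ∈ ℳ g, p m = n := by
  obtain ⟨m, rfl⟩ := S.p_surj n
  refine ⟨(decompose ℳ m g : M), SetLike.coe_mem _, ?_⟩
  rw [← Groth.Agent.Lib.Helper66.Graded.decompose_grHom ℳ 𝒩 p S.p_gr m g,
    decompose_of_mem_same 𝒩 hn]

/-- the cohomological step along a graded short exact sequence -/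
theorem SV_right {f : K →ₗ[MvPolynomial (Fin (r + 1)) k] M}
    {p : M →ₗ[MvPolynomial (Fin (r + 1)) k] N} (S : GSES 𝒦 ℳ 𝒩 f p) (t : ℤ) (i : ℕ)
    (h2 : SV k r ℳ t i) (h1 : SV k r 𝒦 t (i + 1)) : SV k r 𝒩 t i := by
  have hf : IsGr (nrA k r 𝒦) (nrA k r ℳ) f := fun j x hx => S.f_gr j x hx
  have hp : IsGr (nrA k r ℳ) (nrA k r 𝒩) p := fun j x hx => S.p_gr j x hx
  have hzero : p.comp f = 0 := by
    ext x
    have : f x ∈ LinearMap.ker p := by rw [S.exact]; exact ⟨x, rfl⟩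
    exact this
  have hS := tilde_shortExact (𝒜 := CohB1.polyGrading r k) f hf p hp S.f_inj hzero
    (fun j m hm hpm => GSES.exists_piece_lift_left k r S j m hm hpm)
    (fun j n hn => GSES.exists_piece_lift_right k r S j n hn) (homAnn_nrA k r 𝒩) t
  unfold SV at h1 h2 ⊢
  refine subsingleton_of_forall_eq 0 fun x => ?_
  obtain ⟨y, rfl⟩ := exact₃ hS i x (h1.elim _ _)
  have hy : y = 0 := h2.elim y 0
  subst hy
  exact map_zero _

end SV

section free

/-- the shifted grading `A(-a)` on the polynomial ring -/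
noncomputable def shA (a : ℤ) : ℤ → AddSubgroup (MvPolynomial (Fin (r + 1)) k) := fun g => sg k (r + 1) (g - a)

instance shA_gradedSMul (a : ℤ) : SetLike.GradedSMul (sg k (r + 1)) (shA k r a) where
  smul_mem := by
    intro i j x y hx hy
    have h : x * y ∈ sg k (r + 1) (i + (j - a)) :=
      SetLike.GradedMul.mul_mem (A := sg k (r + 1)) hx hy
    show x • y ∈ sg k (r + 1) ((i +ᵥ j) - a)
    rw [vadd_eq_add, smul_eq_mul, add_sub_assoc]
    exact h

theorem nonempty_Sh_shA_iso (a t : ℤ) :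
    Nonempty (Sh k r (shA k r a) t ≅ Twist.twistProjSpace r k (t - a)) := by
  refine nonempty_tilde_shift_iso (𝒜 := CohB1.polyGrading r k) (nrA k r (shA k r a)) a ?_ ?_ t
  · intro n i hni
    ext x
    rw [mem_nrA]
    show x ∈ stdGr k (Fin (r + 1)) ((n : ℤ) - a) ↔ _
    rw [show (n : ℤ) - a = (i : ℤ) by omega, stdGr_natCast]
  · intro n hna
    ext x
    rw [mem_nrA]
    show x ∈ stdGr k (Fin (r + 1)) ((n : ℤ) - a) ↔ _
    rw [stdGr_neg k r _ (by omega)]

theorem SV_shA (a t : ℤ) (i : ℕ) (h₀ : ¬ (i = 0 ∧ 0 ≤ t - a))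
    (hn : ¬ (i = r ∧ t - a ≤ -((r : ℤ) + 1))) : SV k r (shA k r a) t i := by
  obtain ⟨e⟩ := nonempty_Sh_shA_iso k r a t
  exact subsingleton_HH_of_iso e i (Groth.Agent.S0844.result k r (t - a) i h₀ hn)

variable {n : ℕ} (dg : Fin n → ℤ)

theorem SV_fgr (t : ℤ) (i : ℕ)
    (h : ∀ b, ¬ (i = 0 ∧ 0 ≤ t - dg b) ∧ ¬ (i = r ∧ t - dg b ≤ -((r : ℤ) + 1))) :
    SV k r (fgr (sg k (r + 1)) dg) t i := by
  classical
  let inc : ∀ b : Fin n, MvPolynomial (Fin (r + 1)) k →ₗ[MvPolynomial (Fin (r + 1)) k]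
      (Fin n → MvPolynomial (Fin (r + 1)) k) := fun b => LinearMap.single (MvPolynomial (Fin (r + 1)) k)
        (fun _ : Fin n => MvPolynomial (Fin (r + 1)) k) b
  let prj : ∀ b : Fin n, (Fin n → MvPolynomial (Fin (r + 1)) k) →ₗ[MvPolynomial (Fin (r + 1)) k]
      MvPolynomial (Fin (r + 1)) k := fun b => LinearMap.proj b
  have hinc : ∀ b, IsGr (nrA k r (shA k r (dg b))) (nrA k r (fgr (sg k (r + 1)) dg)) (inc b) := by
    intro b j x hx
    exact single_mem_fgr (sg k (r + 1)) dg b hx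
  have hprj : ∀ b, IsGr (nrA k r (fgr (sg k (r + 1)) dg)) (nrA k r (shA k r (dg b))) (prj b) := by
    intro b j v hv
    exact hv b
  have hsum : ∑ b, (inc b).comp (prj b) = LinearMap.id := by
    refine LinearMap.ext fun v => ?_
    rw [LinearMap.sum_apply]
    exact Finset.univ_sum_single v
  have hid : ∑ b, tildeMap (𝒜 := CohB1.polyGrading r k) (prj b) (hprj b) t ≫
      tildeMap (𝒜 := CohB1.polyGrading r k) (inc b) (hinc b) t = 𝟙 _ := by
    have h1 : ∀ b, tildeMap (𝒜 := CohB1.polyGrading r k) (prj b) (hprj b) t ≫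
        tildeMap (𝒜 := CohB1.polyGrading r k) (inc b) (hinc b) t =
        tildeMap (𝒜 := CohB1.polyGrading r k) ((inc b).comp (prj b)) ((hinc b).comp (hprj b)) t :=
      fun b => (tildeMap_comp _ _ _ _ t).symm
    rw [Finset.sum_congr rfl fun b _ => h1 b,
      ← tildeMap_sum Finset.univ (fun b => (inc b).comp (prj b)) (fun b => (hinc b).comp (hprj b)) t,
      tildeMap_congr hsum _ IsGr.id t, tildeMap_id]
  unfold SV
  exact subsingleton_of_sum_eq_id
    (fun b => Sh k r (shA k r (dg b)) t)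
    (fun b => tildeMap (𝒜 := CohB1.polyGrading r k) (inc b) (hinc b) t)
    (fun b => tildeMap (𝒜 := CohB1.polyGrading r k) (prj b) (hprj b) t) hid i
    (fun b => SV_shA k r (dg b) t i (h b).1 (h b).2)

end free

end Groth.Agent.Lib.Helper77.TM
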