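import Mathlib
import Groth.Prelude.Def_GrMod2
import Groth.Prelude.Def_GrLC
import Groth.Prelude.Def_GrSyz
import Groth.Prelude.Def_Curv2
import Groth.Agent.Lib.Helper77.TM4
import Groth.Agent.Lib.Helper77.TMul
import Groth.Agent.Lib.Proj.Helper3_PnCoh

/-!
TM5 (helper77): regularity of a graded module over `k[x_0..x_r]` in the sense of minimal free
resolutions bounds the Castelnuovo–Mumford regularity of the associated sheaf on `P^r_k`.
-/

set_option autoImplicit false
universe u
open CategoryTheory CategoryTheory.Limits AlgebraicGeometry Opposite TopologicalSpace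

namespace Groth.Agent.Lib.Helper77.TM

open GrLC DirectSum GrSyz MvPolynomial Groth.Agent.Lib.Helper77.GLC
open Groth.Agent.Lib.Cohomology.HHLES Groth.Agent.Lib.Cohomology.R3

variable (k : Type u) [Field k] (r : ℕ)
  {M : Type u} [AddCommGroup M] [Module k M] [Module (MvPolynomial (Fin (r + 1)) k) M]
  [IsScalarTower k (MvPolynomial (Fin (r + 1)) k) M]
  {ℳ : ℤ → Submodule k M} [Decomposition ℳ] [SetLike.GradedSMul (stdGr k (Fin (r + 1))) ℳ]
  (F : FreeRes (stdGr k (Fin (r + 1))) ℳ)
  [Module.Finite (MvPolynomial (Fin (r + 1)) k) M]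
  (hF : F.IsMinimal (irrel (stdGr k (Fin (r + 1)))).toIdeal) (d : ℤ) (hd : F.IsGenLE d)

include hd in
theorem SV_Fp (j : ℕ) (t : ℤ) (i : ℕ) (hi : 1 ≤ i) (ht : d + j - i ≤ t) :
    SV k r (Fp k r F j) t i := by
  apply SV_fgr
  intro b
  have := hd j b
  constructor
  · rintro ⟨h0, -⟩; omega
  · rintro ⟨h1, h2⟩; omega

include hF hd in
theorem SV_Zp : ∀ (u j : ℕ), r + 1 ≤ j + u → ∀ (i : ℕ), 1 ≤ i →
    SV k r (Zp k r F j) (d + (j + 1) - i) i := by
  intro u
  induction u with
  | zero =>
    intro j hj i _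
    have hrk : F.rk (j + 1) = 0 := rk_eq_zero_of_minimal k r F hF (j + 1) (by omega)
    have hbot := GrPD.Zc_eq_bot_of_rk F j hrk
    have : Subsingleton ↥(GrPD.Zc F j) := by
      rw [hbot]; infer_instance
    exact SV_of_subsingleton k r _ _ i
  | succ u ih =>
    intro j hj i hi
    refine SV_right k r (gses_syz k r F j) _ i ?_ ?_
    · apply SV_Fp k r F d hd (j + 1) _ i hi
      push_cast
      omega
    · have := ih (j + 1) (by omega) (i + 1) (by omega)
      have e : d + ((j + 1 : ℕ) + 1) - ((i + 1 : ℕ) : ℤ) = d + (j + 1) - i := by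
        push_cast; ring
      rw [e] at this
      exact this

include hF hd in
theorem SV_flat (i : ℕ) (hi : 1 ≤ i) : SV k r (flat ℳ) (d - i) i := by
  refine SV_right k r (gses_aug k r F) _ i ?_ ?_
  · apply SV_Fp k r F d hd 0 _ i hi
    push_cast
    omega
  · have := SV_Zp k r F hF d hd (r + 1) 0 (by omega) (i + 1) (by omega)
    have e : d + ((0 : ℕ) + 1) - ((i + 1 : ℕ) : ℤ) = d - i := by
      push_cast; ring
    rw [e] at this
    exact this

end Groth.Agent.Lib.Helper77.TM
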