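import Mathlib
import Groth.Prelude.Def_GrMod2
import Groth.Prelude.Def_GrSyz
import Groth.Prelude.Def_CohB1
import Groth.Prelude.Def_Curv2
import Groth.Agent.Lib.Helper77.MF4
import Groth.Agent.Lib.Helper77.TM5
import Groth.Agent.S15416
import Groth.Agent.S15434

/-!
MF10 (helper77): **Serre vanishing on `P^r_k`** (`k` a field): every coherent module on `P^r_k` is
`d`-regular for some `d`; hence `H^i(F(t)) = 0` for all `i ≥ 1` and `t ≥ d`.
Route: `F = N~` (S3551), regrade `N` by `ℤ`, minimal graded free resolution (S15416) of finite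
length (Hilbert), S15434, Mumford's theorem (`regular_all`).
-/

set_option autoImplicit false
set_option linter.unusedSectionVars false
universe u
open CategoryTheory CategoryTheory.Limits AlgebraicGeometry Opposite TopologicalSpace DirectSum

namespace Groth.Agent.Lib.Helper77.TM

section ZGrade

variable {R : Type u} [CommRing R] {N : Type u} [AddCommGroup N] [Module R N]

/-- extension by zero of an `ℕ`-grading to a `ℤ`-grading -/
def zgrade (𝒩 : ℕ → Submodule R N) : ℤ → Submodule R N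
  | Int.ofNat n => 𝒩 n
  | Int.negSucc _ => ⊥

theorem zgrade_natCast (𝒩 : ℕ → Submodule R N) (n : ℕ) : zgrade 𝒩 (n : ℤ) = 𝒩 n := rfl

theorem zgrade_neg (𝒩 : ℕ → Submodule R N) (n : ℤ) (hn : n < 0) : zgrade 𝒩 n = ⊥ := by
  cases n with
  | ofNat n => exact absurd hn (by simp)
  | negSucc n => rfl

variable (𝒩 : ℕ → Submodule R N) [DirectSum.Decomposition 𝒩]

/-- the embedding of the direct sums -/
noncomputable def zemb : (⨁ n : ℕ, 𝒩 n) →+ ⨁ z : ℤ, zgrade 𝒩 z :=
  DirectSum.toAddMonoid fun n : ℕ =>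
    (DirectSum.of (fun z : ℤ => zgrade 𝒩 z) (n : ℤ) : (zgrade 𝒩 (n : ℤ)) →+ _)

theorem zemb_of (n : ℕ) (y : 𝒩 n) :
    zemb 𝒩 (DirectSum.of (fun n : ℕ => 𝒩 n) n y) =
      DirectSum.of (fun z : ℤ => zgrade 𝒩 z) (n : ℤ) y :=
  DirectSum.toAddMonoid_of _ _ _

noncomputable instance zgradeDecomposition : DirectSum.Decomposition (zgrade 𝒩) :=
  DirectSum.Decomposition.ofAddHom (zgrade 𝒩)
    ((zemb 𝒩).comp (DirectSum.decomposeAddEquiv 𝒩).toAddMonoidHom)
    (by
      have h1 : (DirectSum.coeAddMonoidHom (zgrade 𝒩)).comp (zemb 𝒩) =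
          DirectSum.coeAddMonoidHom 𝒩 := by
        refine DirectSum.addHom_ext fun n y => ?_
        rw [AddMonoidHom.comp_apply, zemb_of, DirectSum.coeAddMonoidHom_of,
          DirectSum.coeAddMonoidHom_of]
      ext x
      rw [← AddMonoidHom.comp_assoc, h1]
      exact DirectSum.Decomposition.left_inv x)
    (by
      refine DirectSum.addHom_ext fun z y => ?_
      rw [AddMonoidHom.comp_apply, DirectSum.coeAddMonoidHom_of, AddMonoidHom.id_apply,
        AddMonoidHom.comp_apply]
      cases z with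
      | ofNat n =>
        have : (DirectSum.decomposeAddEquiv 𝒩).toAddMonoidHom (y : N) =
            DirectSum.of (fun n : ℕ => 𝒩 n) n y := DirectSum.decompose_coe 𝒩 (i := n) y
        rw [this]
        exact zemb_of 𝒩 n y
      | negSucc n =>
        have hy : y = 0 := Subsingleton.elim (α := (⊥ : Submodule R N)) y 0
        rw [hy]
        simp)

end ZGrade

section Poly

variable (k : Type u) [Field k] (r : ℕ)
  {N : Type u} [AddCommGroup N] [Module k N]
  [Module (MvPolynomial (Fin (r + 1)) k) N] [IsScalarTower k (MvPolynomial (Fin (r + 1)) k) N]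
  (𝒩 : ℕ → Submodule k N) [DirectSum.Decomposition 𝒩]
  [SetLike.GradedSMul (CohB1.polyGrading r k) 𝒩]

instance zgrade_gradedSMul : SetLike.GradedSMul (GrSyz.stdGr k (Fin (r + 1))) (zgrade 𝒩) where
  smul_mem := by
    intro i j a x ha hx
    rw [vadd_eq_add]
    by_cases hi : i < 0
    · rw [stdGr_neg k r i hi] at ha
      rw [(Submodule.mem_bot _).1 ha, zero_smul]
      exact zero_mem _
    by_cases hj : j < 0
    · rw [zgrade_neg 𝒩 j hj] at hx
      rw [(Submodule.mem_bot _).1 hx, smul_zero]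
      exact zero_mem _
    obtain ⟨i', rfl⟩ := Int.eq_ofNat_of_zero_le (not_lt.1 hi)
    obtain ⟨j', rfl⟩ := Int.eq_ofNat_of_zero_le (not_lt.1 hj)
    rw [stdGr_natCast] at ha
    have := SetLike.GradedSMul.smul_mem ha (show x ∈ 𝒩 j' from hx)
    rw [vadd_eq_add] at this
    rw [← Nat.cast_add]
    exact this

open Groth.Agent.Lib.Helper77.GLC in
/-- a finitely generated graded module has a regular associated sheaf -/
theorem exists_isMRegular_tilde [Module.Finite (MvPolynomial (Fin (r + 1)) k) N] :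
    ∃ d : ℤ, Curv2.IsMRegular k r (GrTilde.tilde (CohB1.polyGrading r k) 𝒩 0) d := by
  classical
  obtain ⟨F, hF⟩ := Groth.Agent.S15416.result k r N (zgrade 𝒩)
  have hrk : ∀ i, r + 1 < i → F.rk i = 0 := fun i hi => rk_eq_zero_of_minimal k r F hF i hi
  obtain ⟨d, hd⟩ : ∃ d : ℤ, F.IsGenLE d := by
    let S : Finset ℤ := (Finset.range (r + 2)).biUnion fun i =>
      Finset.univ.image fun b : Fin (F.rk i) => F.deg i b - i
    obtain ⟨d, hd⟩ := S.exists_le
    refine ⟨d, fun i b => ?_⟩
    by_cases hi : i < r + 2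
    · have := hd (F.deg i b - i) (Finset.mem_biUnion.2 ⟨i, Finset.mem_range.2 hi,
        Finset.mem_image.2 ⟨b, Finset.mem_univ _, rfl⟩⟩)
      omega
    · have h0 := hrk i (by omega)
      exact (Fin.elim0 (h0 ▸ b))
  have : SetLike.GradedSMul (CohB1.polyGrading r k) (fun n : ℕ => zgrade 𝒩 (n : ℤ)) :=
    ‹SetLike.GradedSMul (CohB1.polyGrading r k) 𝒩›
  exact ⟨d, Groth.Agent.S15434.result k r N (zgrade 𝒩) d ⟨F, hF, hd⟩⟩

open Groth.Agent.Lib.QCoh in
/-- every coherent module on `P^r_k` is `d`-regular for some `d` -/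
theorem exists_isMRegular (F : (CohB1.ProjSpace r k).Modules) (hF : Coh.IsCoh F) :
    ∃ d : ℤ, Curv2.IsMRegular k r F d := by
  obtain ⟨N, i1, i2, i3, i4, 𝒩, i5, i6, hfin, ⟨e⟩⟩ :=
    Groth.Agent.S3551.result (CohB1.polyGrading r k) (xvars k r) (xvars_mem k r)
      (irrelevant_eq_span_xvars k r) F hF.1 hF.2
  obtain ⟨d, hd⟩ := exists_isMRegular_tilde k r 𝒩
  refine ⟨d, fun i hi hir => ?_⟩
  have := hd i hi hir
  exact (subsingleton_HH_iff_of_iso (tensorModCongr e (Iso.refl _)) i).1 this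

/-- **Serre vanishing** on `P^r_k` -/
theorem serre_vanishing (F : (CohB1.ProjSpace r k).Modules) (hF : Coh.IsCoh F) :
    ∃ d₀ : ℤ, ∀ t : ℤ, d₀ ≤ t → ∀ i : ℕ, 1 ≤ i →
      Subsingleton (Coh.HH (CohB1.ProjSpace r k)
        (CohB1.tensorMod F (Twist.twistProjSpace r k t)) i) := by
  obtain ⟨d, hd⟩ := exists_isMRegular k r F hF
  refine ⟨d, fun t ht i hi => ?_⟩
  have := regular_all k r F hF d hd (t - d + i).toNat i hi
  rwa [show d + ((t - d + i).toNat : ℤ) - i = t by
    rw [Int.toNat_of_nonneg (by omega)]; ring] at this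

end Poly

end Groth.Agent.Lib.Helper77.TM
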