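import Mathlib
import Groth.Prelude.Def_CohB1
import Groth.Agent.Lib.QCoh.Tensor
import Groth.Agent.Lib.QCoh.TensorColim
import Groth.Agent.Lib.Helper77.TwEx
import Groth.Agent.Lib.Cohomology.helper5_HHLES

/-!
MR1 (helper77): sections of `A ⊗ L → B ⊗ L` over `⊤`.

* `surjective_app_of_W` : a locally bijective map to a sheaf is surjective on `U` as soon as
  `toSheafify` of the source is.
* `surjective_hmap_zero_tensorModMap` : if `H^0(A) → H^0(B)` is surjective and
  `Γ(B) ⊗ Γ(L) → Γ(B ⊗ L)` is surjective then `H^0(A ⊗ L) → H^0(B ⊗ L)` is surjective.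
-/

set_option autoImplicit false
universe u
open CategoryTheory CategoryTheory.Limits AlgebraicGeometry Opposite TopologicalSpace MonoidalCategory

namespace Groth.Agent.Lib.Helper77.MR

open Groth.Agent.Lib.QCoh Groth.Agent.Lib.Cohomology.HHLES CohB1

/-- converse of `surjective_toSheafify_app` -/
theorem surjective_app_of_W {X : Scheme.{u}}
    {P Q : (Opens X)ᵒᵖ ⥤ AddCommGrpCat.{u}} (f : P ⟶ Q)
    (hW : (Opens.grothendieckTopology X).W f)
    (hQ : Presheaf.IsSheaf (Opens.grothendieckTopology X) Q) (U : (Opens X)ᵒᵖ)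
    (hs : Function.Surjective ((toSheafify (Opens.grothendieckTopology X) P).app U)) :
    Function.Surjective (f.app U) := by
  have nat := toSheafify_naturality (Opens.grothendieckTopology X) f
  have i1 : IsIso (sheafifyMap (Opens.grothendieckTopology X) f) := by
    have := (GrothendieckTopology.W_iff (J := Opens.grothendieckTopology X) f).1 hW
    exact inferInstanceAs (IsIso ((sheafToPresheaf _ _).map
      ((presheafToSheaf (Opens.grothendieckTopology X) AddCommGrpCat.{u}).map f)))
  have i2 : IsIso (toSheafify (Opens.grothendieckTopology X) Q) :=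
    isIso_toSheafify (Opens.grothendieckTopology X) hQ
  have i1' : IsIso ((sheafifyMap (Opens.grothendieckTopology X) f).app U) := inferInstance
  have i2' : IsIso ((toSheafify (Opens.grothendieckTopology X) Q).app U) := inferInstance
  have b1 := ConcreteCategory.bijective_of_isIso
    ((sheafifyMap (Opens.grothendieckTopology X) f).app U)
  have b2 := ConcreteCategory.bijective_of_isIso
    ((toSheafify (Opens.grothendieckTopology X) Q).app U)
  intro y
  obtain ⟨w, hw⟩ := b1.2 ((toSheafify (Opens.grothendieckTopology X) Q).app U y)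
  obtain ⟨x, hx⟩ := hs w
  refine ⟨x, b2.1 ?_⟩
  have := congr(($nat).app U x)
  refine Eq.trans this ?_
  exact Eq.trans (congrArg (fun z => (sheafifyMap (Opens.grothendieckTopology X) f).app U z) hx) hw

variable {X : Scheme.{u}}

/-- the map on global sections -/
noncomputable abbrev gmap {F G : X.Modules} (φ : F ⟶ G) :
    (Coh.toAb F).obj.obj (op ⊤) → (Coh.toAb G).obj.obj (op ⊤) :=
  fun x => ((SheafOfModules.toSheaf X.ringCatSheaf).map φ).hom.app (op ⊤) x

theorem surjective_hmap_zero_iff {F G : X.Modules} (φ : F ⟶ G) :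
    Function.Surjective (hmap φ 0) ↔ Function.Surjective (gmap φ) := by
  have nat : ∀ x, gmap φ (Sheaf.H.equiv₀ (Coh.toAb F) isTerminalTop x) =
      Sheaf.H.equiv₀ (Coh.toAb G) isTerminalTop (hmap φ 0 x) := fun x =>
    Sheaf.H.equiv₀_naturality (f := (SheafOfModules.toSheaf X.ringCatSheaf).map φ) isTerminalTop x
  constructor
  · intro h y
    obtain ⟨x, hx⟩ := h ((Sheaf.H.equiv₀ (Coh.toAb G) isTerminalTop).symm y)
    refine ⟨Sheaf.H.equiv₀ (Coh.toAb F) isTerminalTop x, ?_⟩
    rw [nat, hx, AddEquiv.apply_symm_apply]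
  · intro h y
    obtain ⟨x, hx⟩ := h (Sheaf.H.equiv₀ (Coh.toAb G) isTerminalTop y)
    refine ⟨(Sheaf.H.equiv₀ (Coh.toAb F) isTerminalTop).symm x, ?_⟩
    apply (Sheaf.H.equiv₀ (Coh.toAb G) isTerminalTop).injective
    rw [← nat, AddEquiv.apply_symm_apply, hx]

open scoped TensorProduct in
/-- if `Γ(A) → Γ(B)` is surjective and `Γ(B) ⊗ Γ(L) → Γ(B ⊗ L)` is surjective then
`Γ(A ⊗ L) → Γ(B ⊗ L)` is surjective -/
theorem surjective_gmap_tensorModMap {A B : X.Modules} (b : A ⟶ B) (L : X.Modules)
    (hb : Function.Surjective (gmap b))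
    (hmul : Function.Surjective
      ((toSheafify (Opens.grothendieckTopology X) (CohB1.tensorPre B L).presheaf).app (op ⊤))) :
    Function.Surjective (gmap (tensorModMap b (𝟙 L))) := by
  let PA : PM X := (incl X).obj A ⊗ (incl X).obj L
  let PB : PM X := (incl X).obj B ⊗ (incl X).obj L
  let f : PA ⟶ PB := (incl X).map b ▷ (incl X).obj L
  have hnat : f ≫ (shfAdj X).unit.app PB = (shfAdj X).unit.app PA ≫ (incl X).map ((shf X).map f) :=
    (shfAdj X).unit.naturality f
  have hWB : WX X ((shfAdj X).unit.app PB) := WX_unit PB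
  have hW := (GrothendieckTopology.W_iff_isLocallyBijective
    (J := Opens.grothendieckTopology X)
    ((PresheafOfModules.toPresheaf X.ringCatSheaf.obj).map ((shfAdj X).unit.app PB))).2 hWB
  have hsB : Function.Surjective
      (((PresheafOfModules.toPresheaf X.ringCatSheaf.obj).map ((shfAdj X).unit.app PB)).app (op ⊤)) :=
    surjective_app_of_W _ hW (tensorMod B L).isSheaf (op ⊤) hmul
  have hf : ∀ z : (((incl X).obj B).obj (op ⊤) : Type u) ⊗[(X.presheaf.obj (op ⊤) : Type u)]
      (((incl X).obj L).obj (op ⊤) : Type u),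
      ∃ w : (((incl X).obj A).obj (op ⊤) : Type u) ⊗[(X.presheaf.obj (op ⊤) : Type u)]
        (((incl X).obj L).obj (op ⊤) : Type u), (f.app (op ⊤)).hom w = z := by
    intro z
    induction z using TensorProduct.induction_on with
    | zero => exact ⟨0, map_zero _⟩
    | tmul x y =>
      obtain ⟨a, ha⟩ := hb x
      refine ⟨a ⊗ₜ[(X.presheaf.obj (op ⊤) : Type u)] y, ?_⟩
      exact congrArg (· ⊗ₜ[(X.presheaf.obj (op ⊤) : Type u)] y) ha
    | add z1 z2 h1 h2 =>
      obtain ⟨w1, hw1⟩ := h1
      obtain ⟨w2, hw2⟩ := h2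
      exact ⟨w1 + w2, (map_add _ w1 w2).trans (congrArg₂ (· + ·) hw1 hw2)⟩
  intro σ
  obtain ⟨z, hz⟩ := hsB σ
  obtain ⟨w, hw⟩ := hf z
  refine ⟨(((shfAdj X).unit.app PA).app (op ⊤)).hom w, ?_⟩
  rw [Groth.Agent.Lib.Helper77.TwEx.tensorModMap_id_right]
  have h1 := congr((($hnat).app (op ⊤)).hom w)
  refine Eq.trans ?_ hz
  refine Eq.trans h1.symm ?_
  exact congrArg (fun t => (((shfAdj X).unit.app PB).app (op ⊤)).hom t) hw

end Groth.Agent.Lib.Helper77.MR
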