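import Mathlib
import Groth.Prelude.Def_CohB1
import Groth.Prelude.Def_Curv2
import Groth.Prelude.Def_Canon
import Groth.Agent.Lib.Helper77.MR1
import Groth.Agent.Lib.Helper77.MF8
import Groth.Agent.Lib.Helper77.MF10
import Groth.Agent.Lib.QCoh.TensorQCoh
import Groth.Agent.Lib.QCoh.CohKernel
import Groth.Agent.Lib.Proj.Helper3_PnCoh
import Groth.Agent.S0038

/-!
MR2 (helper77): Mumford's bound for the regularity of `F` in `0 → F(-1) → F → G → 0`.
-/

set_option autoImplicit false
set_option linter.unusedSectionVars false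
universe u
open CategoryTheory CategoryTheory.Limits AlgebraicGeometry Opposite TopologicalSpace MonoidalCategory

namespace Groth.Agent.Lib.Helper77.MR

open Groth.Agent.Lib.QCoh Groth.Agent.Lib.Cohomology.HHLES CohB1
open Groth.Agent.Lib.Helper77.TwEx Groth.Agent.Lib.Helper77.TM Twist

variable (k : Type u) [Field k] (n : ℕ)

/-- `(- ⊗ O(a)) ⊗ O(b) ≅ - ⊗ O(c)`, naturally -/
noncomputable def twTwIso (a b c : ℤ) (h : c = a + b) :
    tensorRightFunctor (twistProjSpace n k a) ⋙ tensorRightFunctor (twistProjSpace n k b) ≅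
      tensorRightFunctor (twistProjSpace n k c) :=
  tensorRightCompIso _ _ ≪≫ tensorRightCongr (twistProjSpaceMulIso n k a b c h)

theorem isCoh_tw (F : (CohB1.ProjSpace n k).Modules) (hF : Coh.IsCoh F) (j : ℤ) :
    Coh.IsCoh (tensorMod F (twistProjSpace n k j)) := by
  have hinv := Groth.Agent.Lib.Proj.isInvertible_twist (𝒜 := CohB1.polyGrading n k)
    (Groth.Agent.Lib.Proj.PnCoh.iSup_deg_one n k) j
  have hq1 : F.IsQuasicoherent := hF.1
  have hq2 : F.IsFiniteType := hF.2
  have hq3 : (Twist.twistProjSpace n k j).IsQuasicoherent :=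
    Groth.Agent.Lib.QCoh.isQuasicoherent_of_isInvertible hinv
  have hq4 : (Twist.twistProjSpace n k j).IsFiniteType :=
    Groth.Agent.Lib.QCoh.isFiniteType_of_isInvertible hinv
  exact ⟨Groth.Agent.Lib.QCoh.isQuasicoherent_tensorMod _ _,
    Groth.Agent.Lib.QCoh.isFiniteType_tensorMod _ _⟩

/-- cohomology of isomorphic modules, as `k`-vector spaces -/
noncomputable def hhEquiv {F G : (CohB1.ProjSpace n k).Modules} (e : F ≅ G) (i : ℕ) :
    Coh.HH (CohB1.ProjSpace n k) F i ≃ₗ[k] Coh.HH (CohB1.ProjSpace n k) G i :=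
  LinearEquiv.ofLinear (Canon.HHlin k e.hom i) (Canon.HHlin k e.inv i)
    (by
      ext x
      show hmap e.hom i (hmap e.inv i x) = x
      rw [← hmap_comp, e.inv_hom_id, hmap_id])
    (by
      ext x
      show hmap e.inv i (hmap e.hom i x) = x
      rw [← hmap_comp, e.hom_inv_id, hmap_id])

section Main

variable {k n}
variable {F : (CohB1.ProjSpace n k).Modules}
  (ι : tensorMod F (twistProjSpace n k (-1)) ⟶ F)

/-- the basic short complex -/
noncomputable abbrev S₀ : ShortComplex (CohB1.ProjSpace n k).Modules :=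
  ShortComplex.mk ι (cokernel.π ι) (cokernel.condition ι)

theorem hS₀ [Mono ι] : (S₀ ι).ShortExact :=
  { exact := ShortComplex.exact_cokernel ι
    mono_f := inferInstanceAs (Mono ι)
    epi_g := inferInstanceAs (Epi (cokernel.π ι)) }

/-- the twisted short complexes -/
noncomputable abbrev T (j : ℤ) : ShortComplex (CohB1.ProjSpace n k).Modules :=
  (S₀ ι).map (tensorRightFunctor (twistProjSpace n k j))

theorem hT [Mono ι] (j : ℤ) : (T ι j).ShortExact :=
  shortExact_twistProjSpace n k j (hS₀ ι)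

/-- `F(-1)(j) ≅ F(c)` for `c = j - 1` -/
noncomputable def αIso (j c : ℤ) (h : c = -1 + j) :
    (T ι j).X₁ ≅ tensorMod F (twistProjSpace n k c) :=
  (twTwIso k n (-1) j c h).app F

variable [Mono ι]

/-- `H^i(G(j)) = 0` gives injectivity of `H^{i+1}(F(-1)(j)) → H^{i+1}(F(j))` -/
theorem injective_f_succ (j : ℤ) (i : ℕ)
    (h : Subsingleton (Coh.HH (CohB1.ProjSpace n k)
      (tensorMod (cokernel ι) (twistProjSpace n k j)) i)) :
    Function.Injective (hmap (T ι j).f (i + 1)) := by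
  rw [injective_iff_map_eq_zero]
  intro x hx
  obtain ⟨y, rfl⟩ := exact₁ (hT ι j) i x hx
  have : y = 0 := h.elim _ _
  rw [this, map_zero]

/-- `H^i(G(j)) = 0` gives surjectivity of `H^i(F(-1)(j)) → H^i(F(j))` -/
theorem surjective_f (j : ℤ) (i : ℕ)
    (h : Subsingleton (Coh.HH (CohB1.ProjSpace n k)
      (tensorMod (cokernel ι) (twistProjSpace n k j)) i)) :
    Function.Surjective (hmap (T ι j).f i) := by
  intro x
  exact exact₂ (hT ι j) i x (h.elim _ _)

/-- injectivity of `H^i(F(-1)(j)) → H^i(F(j))` transports vanishing downwards -/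
theorem subsingleton_pred (j c : ℤ) (hc : c = -1 + j) (i : ℕ)
    (hinj : Function.Injective (hmap (T ι j).f i))
    (h : Subsingleton (Coh.HH (CohB1.ProjSpace n k) (tensorMod F (twistProjSpace n k j)) i)) :
    Subsingleton (Coh.HH (CohB1.ProjSpace n k) (tensorMod F (twistProjSpace n k c)) i) := by
  have h1 : Subsingleton (Coh.HH (CohB1.ProjSpace n k) (T ι j).X₁ i) :=
    ⟨fun x y => hinj (h.elim _ _)⟩
  exact (subsingleton_HH_iff_of_iso (αIso ι j c hc) i).1 h1

/-- `P j`: `H^0(F(j)) → H^0(G(j))` is surjective -/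
def PSurj (j : ℤ) : Prop := Function.Surjective (hmap (T ι j).g 0)

theorem injective_f_one_of_PSurj (j : ℤ) (h : PSurj ι j) :
    Function.Injective (hmap (T ι j).f 1) := by
  rw [injective_iff_map_eq_zero]
  intro x hx
  obtain ⟨y, rfl⟩ := exact₁ (hT ι j) 0 x hx
  obtain ⟨z, rfl⟩ := h y
  exact δ_hmap_g (hT ι j) 0 z

theorem PSurj_of_injective (j : ℤ) (h : Function.Injective (hmap (T ι j).f 1)) :
    PSurj ι j := by
  intro y
  refine exact₃ (hT ι j) 0 y (h ?_)
  rw [map_zero]
  exact hmap_f_δ (hT ι j) 0 y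

/-- the multiplication argument: `P j → P (j+1)` for `j ≥ m` -/
theorem PSurj_succ (hF : Coh.IsCoh F) (m : ℤ) (hG : Curv2.IsMRegular k n (cokernel ι) m)
    (j : ℤ) (hj : m ≤ j) (h : PSurj ι j) : PSurj ι (j + 1) := by
  have hGcoh : Coh.IsCoh (cokernel ι) :=
    Groth.Agent.Lib.QCoh.isCoh_cokernel (isCoh_tw k n F hF (-1)) hF ι
  have hmul := surjective_toSheafify_tensorPre_gen k n (cokernel ι) hGcoh m j hj hG 1
  have hb : Function.Surjective
      (gmap ((tensorRightFunctor (twistProjSpace n k j)).map (cokernel.π ι))) :=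
    (surjective_hmap_zero_iff _).1 h
  have h2 := surjective_gmap_tensorModMap
    ((tensorRightFunctor (twistProjSpace n k j)).map (cokernel.π ι))
    (twistProjSpace n k ((1 : ℕ) : ℤ)) hb hmul
  rw [← tensorRightFunctor_map] at h2
  have h3 := (surjective_hmap_zero_iff _).2 h2
  let β := twTwIso k n j ((1 : ℕ) : ℤ) (j + 1) (by push_cast; ring)
  have hnat := β.hom.naturality (cokernel.π ι)
  -- `hmap (R_{j+1} π) ∘ hmap (β F) = hmap (β G) ∘ hmap ((R_j ⋙ R_1) π)`
  intro y
  obtain ⟨x, hx⟩ := h3 (hmap (β.inv.app (cokernel ι)) 0 y)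
  refine ⟨hmap (β.hom.app F) 0 x, ?_⟩
  show hmap ((tensorRightFunctor (twistProjSpace n k (j + 1))).map (cokernel.π ι)) 0
    (hmap (β.hom.app F) 0 x) = y
  rw [← hmap_comp, ← hnat, hmap_comp]
  show hmap (β.hom.app (cokernel ι)) 0
    (hmap ((tensorRightFunctor (twistProjSpace n k ((1 : ℕ) : ℤ))).map
      ((tensorRightFunctor (twistProjSpace n k j)).map (cokernel.π ι))) 0 x) = y
  refine Eq.trans (congrArg (hmap (β.hom.app (cokernel ι)) 0) hx) ?_
  rw [← hmap_comp, Iso.inv_hom_id_app, hmap_id]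

theorem isCoh_cokernel_ι (hF : Coh.IsCoh F) : Coh.IsCoh (cokernel ι) :=
  Groth.Agent.Lib.QCoh.isCoh_cokernel (isCoh_tw k n F hF (-1)) hF ι

/-- the vanishing given by the regularity of `G` -/
theorem subsingleton_G (hF : Coh.IsCoh F) (m : ℤ) (hG : Curv2.IsMRegular k n (cokernel ι) m)
    (i : ℕ) (hi : 1 ≤ i) (j : ℤ) (hj : m - i ≤ j) :
    Subsingleton (Coh.HH (CohB1.ProjSpace n k)
      (tensorMod (cokernel ι) (twistProjSpace n k j)) i) := by
  have := regular_all k n (cokernel ι) (isCoh_cokernel_ι ι hF) m hG (j - m + i).toNat i hi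
  rwa [show m + ((j - m + i).toNat : ℤ) - i = j by
    rw [Int.toNat_of_nonneg (by omega)]; ring] at this

omit [Mono ι] in
/-- downward induction from Serre vanishing -/
theorem subsingleton_of_step (hF : Coh.IsCoh F) (i : ℕ) (hi : 1 ≤ i) (j0 : ℤ)
    (step : ∀ j : ℤ, j0 ≤ j →
      Subsingleton (Coh.HH (CohB1.ProjSpace n k) (tensorMod F (twistProjSpace n k (j + 1))) i) →
      Subsingleton (Coh.HH (CohB1.ProjSpace n k) (tensorMod F (twistProjSpace n k j)) i)) :
    ∀ j : ℤ, j0 ≤ j →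
      Subsingleton (Coh.HH (CohB1.ProjSpace n k) (tensorMod F (twistProjSpace n k j)) i) := by
  obtain ⟨d0, hd0⟩ := serre_vanishing k n F hF
  have key : ∀ N : ℕ, ∀ j : ℤ, j0 ≤ j → d0 - N ≤ j →
      Subsingleton (Coh.HH (CohB1.ProjSpace n k) (tensorMod F (twistProjSpace n k j)) i) := by
    intro N
    induction N with
    | zero =>
      intro j _ hj
      exact hd0 j (by simpa using hj) i hi
    | succ N ih =>
      intro j hj0 hj
      exact step j hj0 (ih (j + 1) (by omega) (by push_cast at hj ⊢; omega))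
  intro j hj
  exact key (d0 - j).toNat j hj (by omega)

/-- (i) -/
theorem part_i (hF : Coh.IsCoh F) (m : ℤ) (hG : Curv2.IsMRegular k n (cokernel ι) m)
    (i : ℕ) (j : ℤ) (hi : 2 ≤ i) (hj : m - i ≤ j) :
    Subsingleton (Coh.HH (CohB1.ProjSpace n k) (tensorMod F (twistProjSpace n k j)) i) := by
  refine subsingleton_of_step hF i (by omega) (m - i) ?_ j hj
  intro j' hj' hsub
  obtain ⟨i', rfl⟩ : ∃ i', i = i' + 1 := ⟨i - 1, by omega⟩
  have hGv := subsingleton_G ι hF m hG i' (by omega) (j' + 1) (by push_cast at hj' ⊢; omega)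
  exact subsingleton_pred ι (j' + 1) j' (by ring) (i' + 1) (injective_f_succ ι (j' + 1) i' hGv) hsub

/-- the `k`-linear map `H^1(F(c)) → H^1(F(j))`, `c = j - 1` -/
noncomputable def aLin (j c : ℤ) (hc : c = -1 + j) :
    Coh.HH (CohB1.ProjSpace n k) (tensorMod F (twistProjSpace n k c)) 1 →ₗ[k]
      Coh.HH (CohB1.ProjSpace n k) (tensorMod F (twistProjSpace n k j)) 1 :=
  (Canon.HHlin k (T ι j).f 1) ∘ₗ (hhEquiv k n (αIso ι j c hc) 1).symm.toLinearMap

theorem aLin_surjective (j c : ℤ) (hc : c = -1 + j)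
    (h : Function.Surjective (hmap (T ι j).f 1)) : Function.Surjective (aLin ι j c hc) := by
  intro y
  obtain ⟨x, hx⟩ := h y
  refine ⟨hhEquiv k n (αIso ι j c hc) 1 x, ?_⟩
  show hmap (T ι j).f 1 ((hhEquiv k n (αIso ι j c hc) 1).symm (hhEquiv k n (αIso ι j c hc) 1 x)) = y
  rw [LinearEquiv.symm_apply_apply]
  exact hx

theorem injective_of_aLin_injective (j c : ℤ) (hc : c = -1 + j)
    (h : Function.Injective (aLin ι j c hc)) : Function.Injective (hmap (T ι j).f 1) := by
  intro x y hxy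
  have : aLin ι j c hc (hhEquiv k n (αIso ι j c hc) 1 x) =
      aLin ι j c hc (hhEquiv k n (αIso ι j c hc) 1 y) := by
    show hmap (T ι j).f 1 ((hhEquiv k n (αIso ι j c hc) 1).symm (hhEquiv k n (αIso ι j c hc) 1 x)) =
      hmap (T ι j).f 1 ((hhEquiv k n (αIso ι j c hc) 1).symm (hhEquiv k n (αIso ι j c hc) 1 y))
    rw [LinearEquiv.symm_apply_apply, LinearEquiv.symm_apply_apply]
    exact hxy
  exact (hhEquiv k n (αIso ι j c hc) 1).injective (h this)

theorem finite_HH (hF : Coh.IsCoh F) (j : ℤ) (i : ℕ) :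
    Module.Finite k (Coh.HH (CohB1.ProjSpace n k) (tensorMod F (twistProjSpace n k j)) i) :=
  Groth.Agent.S0038.result n k _ (isCoh_tw k n F hF j) i

/-- (ii) -/
theorem part_ii (hF : Coh.IsCoh F) (m : ℤ) (hG : Curv2.IsMRegular k n (cokernel ι) m)
    (j : ℤ) (hj : m - 1 ≤ j) :
    Module.finrank k (Coh.HH (CohB1.ProjSpace n k) (tensorMod F (twistProjSpace n k j)) 1) ≤
      Module.finrank k (Coh.HH (CohB1.ProjSpace n k)
        (tensorMod F (twistProjSpace n k (j - 1))) 1) := by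
  have hGv := subsingleton_G ι hF m hG 1 le_rfl j (by simpa using hj)
  have hsurj := aLin_surjective ι j (j - 1) (by ring) (surjective_f ι j 1 hGv)
  have hfin := finite_HH hF (j - 1) 1
  have h1 := LinearMap.finrank_range_le (aLin ι j (j - 1) (by ring))
  rwa [LinearMap.range_eq_top.2 hsurj, finrank_top] at h1

/-- if `P j0` for some `j0 ≥ m` then `H^1(F(j)) = 0` for `j ≥ j0 - 1` -/
theorem subsingleton_of_PSurj (hF : Coh.IsCoh F) (m : ℤ)
    (hG : Curv2.IsMRegular k n (cokernel ι) m) (j0 : ℤ) (hj0 : m ≤ j0) (h : PSurj ι j0) :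
    ∀ j : ℤ, j0 - 1 ≤ j →
      Subsingleton (Coh.HH (CohB1.ProjSpace n k) (tensorMod F (twistProjSpace n k j)) 1) := by
  have hP : ∀ e : ℕ, PSurj ι (j0 + e) := by
    intro e
    induction e with
    | zero => simpa using h
    | succ e ih =>
      have := PSurj_succ ι hF m hG (j0 + e) (by omega) ih
      rwa [show j0 + (e : ℤ) + 1 = j0 + ((e + 1 : ℕ) : ℤ) by push_cast; ring] at this
  refine subsingleton_of_step hF 1 le_rfl (j0 - 1) ?_
  intro j hj hsub
  have hPj : PSurj ι (j + 1) := by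
    have := hP (j + 1 - j0).toNat
    rwa [show j0 + ((j + 1 - j0).toNat : ℤ) = j + 1 by
      rw [Int.toNat_of_nonneg (by omega)]; ring] at this
  exact subsingleton_pred ι (j + 1) j (by ring) 1 (injective_f_one_of_PSurj ι (j + 1) hPj) hsub

/-- `h^1(F(m-1+t)) ≤ h^1(F(m-1)) - t` -/
theorem h1_bound (hF : Coh.IsCoh F) (m : ℤ) (hG : Curv2.IsMRegular k n (cokernel ι) m) (t : ℕ) :
    Module.finrank k (Coh.HH (CohB1.ProjSpace n k)
        (tensorMod F (twistProjSpace n k (m - 1 + t))) 1) ≤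
      Module.finrank k (Coh.HH (CohB1.ProjSpace n k)
        (tensorMod F (twistProjSpace n k (m - 1))) 1) - t := by
  induction t with
  | zero =>
    rw [Nat.cast_zero, add_zero, Nat.sub_zero]
  | succ t ih =>
    have hc : m - 1 + (t : ℤ) = -1 + (m - 1 + ((t + 1 : ℕ) : ℤ)) := by push_cast; ring
    have hjm : m ≤ m - 1 + ((t + 1 : ℕ) : ℤ) := by push_cast; omega
    have hGv := subsingleton_G ι hF m hG 1 le_rfl (m - 1 + ((t + 1 : ℕ) : ℤ))
      (by push_cast; omega)
    have hsurj := aLin_surjective ι (m - 1 + ((t + 1 : ℕ) : ℤ)) (m - 1 + (t : ℤ)) hc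
      (surjective_f ι _ 1 hGv)
    have hfin1 := finite_HH hF (m - 1 + (t : ℤ)) 1
    have hfin2 := finite_HH hF (m - 1 + ((t + 1 : ℕ) : ℤ)) 1
    have hle : Module.finrank k (Coh.HH (CohB1.ProjSpace n k)
        (tensorMod F (twistProjSpace n k (m - 1 + ((t + 1 : ℕ) : ℤ)))) 1) ≤
        Module.finrank k (Coh.HH (CohB1.ProjSpace n k)
        (tensorMod F (twistProjSpace n k (m - 1 + (t : ℤ)))) 1) := by
      have h1 := LinearMap.finrank_range_le (aLin ι (m - 1 + ((t + 1 : ℕ) : ℤ)) (m - 1 + (t : ℤ)) hc)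
      rwa [LinearMap.range_eq_top.2 hsurj, finrank_top] at h1
    rcases hle.lt_or_eq with hlt | heq
    · omega
    · have hinj : Function.Injective (aLin ι (m - 1 + ((t + 1 : ℕ) : ℤ)) (m - 1 + (t : ℤ)) hc) :=
        (LinearMap.injective_iff_surjective_of_finrank_eq_finrank heq.symm).2 hsurj
      have hP := PSurj_of_injective ι _ (injective_of_aLin_injective ι _ _ hc hinj)
      have hsub := subsingleton_of_PSurj ι hF m hG _ hjm hP (m - 1 + ((t + 1 : ℕ) : ℤ)) (by omega)
      rw [Module.finrank_zero_of_subsingleton]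
      exact Nat.zero_le _

/-- (iii) -/
theorem part_iii (hF : Coh.IsCoh F) (m : ℤ) (hG : Curv2.IsMRegular k n (cokernel ι) m) (j : ℤ)
    (hj : m - 1 + (Module.finrank k (Coh.HH (CohB1.ProjSpace n k)
      (tensorMod F (twistProjSpace n k (m - 1))) 1) : ℤ) ≤ j) :
    Subsingleton (Coh.HH (CohB1.ProjSpace n k) (tensorMod F (twistProjSpace n k j)) 1) := by
  have hb := h1_bound ι hF m hG (j - (m - 1)).toNat
  rw [show m - 1 + ((j - (m - 1)).toNat : ℤ) = j by
    rw [Int.toNat_of_nonneg (by omega)]; ring] at hb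
  have h0 : Module.finrank k (Coh.HH (CohB1.ProjSpace n k)
      (tensorMod F (twistProjSpace n k j)) 1) = 0 := by
    omega
  have hfin := finite_HH hF j 1
  exact Module.finrank_zero_iff.1 h0

/-- (iv) -/
theorem part_iv (hF : Coh.IsCoh F) (m : ℤ) (hG : Curv2.IsMRegular k n (cokernel ι) m) :
    Curv2.IsMRegular k n F (m + Module.finrank k (Coh.HH (CohB1.ProjSpace n k)
      (tensorMod F (twistProjSpace n k (m - 1))) 1)) := by
  intro i hi1 hin
  rcases Nat.lt_or_ge i 2 with h | h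
  · obtain rfl : i = 1 := by omega
    exact part_iii ι hF m hG _ (by push_cast; omega)
  · exact part_i ι hF m hG i _ h (by omega)

end Main

end Groth.Agent.Lib.Helper77.MR
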