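import Mathlib
import Groth.Prelude.Def_GrMod2
import Groth.Prelude.Def_GrSyz
import Groth.Prelude.Def_CohB1
import Groth.Agent.Lib.Helper77.TM5

/-!
SY1 (helper77): the complex of sheaves on `P^r_k` associated with a graded free resolution, and
its exactness.
-/

set_option autoImplicit false
set_option linter.unusedSectionVars false
universe u
open CategoryTheory CategoryTheory.Limits AlgebraicGeometry Opposite TopologicalSpace

namespace Groth.Agent.Lib.Helper77.TM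

open GrLC DirectSum GrSyz MvPolynomial Groth.Agent.Lib.Helper77.GLC

/-- an abstract exactness lemma: `B ↠ Z' ↪ A ↠ Z'' ↪ C` -/
theorem exact_of_shortExact_epi_mono {V : Type*} [Category V] [Abelian V]
    {B Z' A Z'' C : V} (e : B ⟶ Z') (i' : Z' ⟶ A) (p' : A ⟶ Z'') (m : Z'' ⟶ C)
    (w : i' ≫ p' = 0) (hS : (ShortComplex.mk i' p' w).ShortExact) [Epi e] [Mono m] :
    (ShortComplex.mk (e ≫ i') (p' ≫ m) (by rw [Category.assoc, reassoc_of% w, zero_comp, comp_zero])).Exact := by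
  have hmid : (ShortComplex.mk (e ≫ i') p' (by rw [Category.assoc, w, comp_zero])).Exact := by
    let φ : ShortComplex.mk (e ≫ i') p' (by rw [Category.assoc, w, comp_zero]) ⟶
        ShortComplex.mk i' p' w :=
      { τ₁ := e, τ₂ := 𝟙 _, τ₃ := 𝟙 _
        comm₁₂ := by simp
        comm₂₃ := by simp }
    have h1 : Epi φ.τ₁ := inferInstanceAs (Epi e)
    have h2 : IsIso φ.τ₂ := inferInstanceAs (IsIso (𝟙 A))
    have h3 : Mono φ.τ₃ := inferInstanceAs (Mono (𝟙 Z''))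
    exact (ShortComplex.exact_iff_of_epi_of_isIso_of_mono φ).2 hS.exact
  let ψ : ShortComplex.mk (e ≫ i') p' (by rw [Category.assoc, w, comp_zero]) ⟶
      ShortComplex.mk (e ≫ i') (p' ≫ m)
        (by rw [Category.assoc, reassoc_of% w, zero_comp, comp_zero]) :=
    { τ₁ := 𝟙 _, τ₂ := 𝟙 _, τ₃ := m
      comm₁₂ := by simp
      comm₂₃ := by simp }
  have h1 : Epi ψ.τ₁ := inferInstanceAs (Epi (𝟙 B))
  have h2 : IsIso ψ.τ₂ := inferInstanceAs (IsIso (𝟙 A))
  have h3 : Mono ψ.τ₃ := inferInstanceAs (Mono m)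
  exact (ShortComplex.exact_iff_of_epi_of_isIso_of_mono ψ).1 hmid

theorem exact_of_shortExact_epi_mono' {V : Type*} [Category V] [Abelian V]
    {B Z' A Z'' C : V} (e : B ⟶ Z') (i' : Z' ⟶ A) (p' : A ⟶ Z'') (m : Z'' ⟶ C)
    (w : i' ≫ p' = 0) (hS : (ShortComplex.mk i' p' w).ShortExact) [Epi e] [Mono m]
    (f : B ⟶ A) (g : A ⟶ C) (hf : e ≫ i' = f) (hg : p' ≫ m = g) (zero : f ≫ g = 0) :
    (ShortComplex.mk f g zero).Exact := by
  subst hf hg
  exact exact_of_shortExact_epi_mono e i' p' m w hS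

variable (k : Type u) [Field k] (r : ℕ)

section SES

variable {K : Type u} [AddCommGroup K] [Module (MvPolynomial (Fin (r + 1)) k) K] [Module k K]
  [IsScalarTower k (MvPolynomial (Fin (r + 1)) k) K]
  {M : Type u} [AddCommGroup M] [Module (MvPolynomial (Fin (r + 1)) k) M] [Module k M]
  [IsScalarTower k (MvPolynomial (Fin (r + 1)) k) M]
  {N : Type u} [AddCommGroup N] [Module (MvPolynomial (Fin (r + 1)) k) N] [Module k N]
  [IsScalarTower k (MvPolynomial (Fin (r + 1)) k) N]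
  {𝒦 : ℤ → AddSubgroup K} [SetLike.GradedSMul (sg k (r + 1)) 𝒦]
  {ℳ : ℤ → AddSubgroup M} [SetLike.GradedSMul (sg k (r + 1)) ℳ]
  {𝒩 : ℤ → AddSubgroup N} [SetLike.GradedSMul (sg k (r + 1)) 𝒩]
  [Decomposition 𝒦] [Decomposition ℳ] [Decomposition 𝒩]

/-- graded maps in the `GLC` form are graded for the non-negative pieces -/
theorem isGr_nrA {f : K →ₗ[MvPolynomial (Fin (r + 1)) k] M} (hf : IsGrHom 𝒦 ℳ f) :
    IsGr (nrA k r 𝒦) (nrA k r ℳ) f := fun j x hx => hf j x hx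

/-- the sheaf map of a graded map -/
noncomputable abbrev shMap (f : K →ₗ[MvPolynomial (Fin (r + 1)) k] M) (hf : IsGrHom 𝒦 ℳ f) (t : ℤ) :
    Sh k r 𝒦 t ⟶ Sh k r ℳ t :=
  tildeMap (𝒜 := CohB1.polyGrading r k) f (isGr_nrA k r hf) t

theorem shMap_comp (f : K →ₗ[MvPolynomial (Fin (r + 1)) k] M) (hf : IsGrHom 𝒦 ℳ f)
    (g : M →ₗ[MvPolynomial (Fin (r + 1)) k] N) (hg : IsGrHom ℳ 𝒩 g)
    (h : K →ₗ[MvPolynomial (Fin (r + 1)) k] N) (hh : IsGrHom 𝒦 𝒩 h) (e : g.comp f = h) (t : ℤ) :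
    shMap k r f hf t ≫ shMap k r g hg t = shMap k r h hh t := by
  exact (tildeMap_comp (𝒜 := CohB1.polyGrading r k) f (isGr_nrA k r hf) g (isGr_nrA k r hg) t).symm.trans
    (tildeMap_congr e _ _ t)

theorem shMap_comp_eq_zero (f : K →ₗ[MvPolynomial (Fin (r + 1)) k] M) (hf : IsGrHom 𝒦 ℳ f)
    (g : M →ₗ[MvPolynomial (Fin (r + 1)) k] N) (hg : IsGrHom ℳ 𝒩 g) (e : g.comp f = 0) (t : ℤ) :
    shMap k r f hf t ≫ shMap k r g hg t = 0 :=
  tildeMap_comp_eq_zero f _ g _ e t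

/-- the short exact sequence of sheaves of a graded short exact sequence -/
theorem shortExact_of_gses {f : K →ₗ[MvPolynomial (Fin (r + 1)) k] M}
    {p : M →ₗ[MvPolynomial (Fin (r + 1)) k] N} (S : GSES 𝒦 ℳ 𝒩 f p) (t : ℤ)
    (w : shMap k r f S.f_gr t ≫ shMap k r p S.p_gr t = 0) :
    (ShortComplex.mk (shMap k r f S.f_gr t) (shMap k r p S.p_gr t) w).ShortExact := by
  have hzero : p.comp f = 0 := by
    ext x
    have : f x ∈ LinearMap.ker p := by rw [S.exact]; exact ⟨x, rfl⟩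
    exact this
  exact tilde_shortExact (𝒜 := CohB1.polyGrading r k) f (isGr_nrA k r S.f_gr) p
    (isGr_nrA k r S.p_gr) S.f_inj hzero
    (fun j m hm hpm => GSES.exists_piece_lift_left k r S j m hm hpm)
    (fun j n hn => GSES.exists_piece_lift_right k r S j n hn) (homAnn_nrA k r 𝒩) t

end SES

section Complex

variable {M : Type u} [AddCommGroup M] [Module k M] [Module (MvPolynomial (Fin (r + 1)) k) M]
  [IsScalarTower k (MvPolynomial (Fin (r + 1)) k) M]
  {ℳ : ℤ → Submodule k M} [Decomposition ℳ] [SetLike.GradedSMul (stdGr k (Fin (r + 1))) ℳ]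
  (F : FreeRes (stdGr k (Fin (r + 1))) ℳ)

/-- the terms -/
noncomputable abbrev CX (j : ℕ) : (CohB1.ProjSpace r k).Modules := Sh k r (Fp k r F j) 0

/-- the differentials -/
noncomputable abbrev Cd (j : ℕ) : CX k r F (j + 1) ⟶ CX k r F j :=
  shMap k r (F.dLin j) (dLin_gr k r F j) 0

theorem dLin_comp (j : ℕ) : (F.dLin j).comp (F.dLin (j + 1)) = 0 := by
  refine LinearMap.ext fun x => ?_
  have : F.dLin (j + 1) x ∈ LinearMap.ker (F.dLin j) := by
    rw [F.exact_succ j]; exact ⟨x, rfl⟩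
  exact this

theorem Cd_comp (j : ℕ) : Cd k r F (j + 1) ≫ Cd k r F j = 0 :=
  shMap_comp_eq_zero k r _ _ _ _ (dLin_comp k r F j) 0

/-- the complex -/
noncomputable def CC : ChainComplex (CohB1.ProjSpace r k).Modules ℕ :=
  ChainComplex.of (CX k r F) (Cd k r F) (Cd_comp k r F)

/-- the augmentation -/
noncomputable abbrev Cπ : CX k r F 0 ⟶ Sh k r (flat ℳ) 0 :=
  shMap k r F.augLin (augLin_gr k r F) 0

theorem subtype_comp_dCo (j : ℕ) : (GrPD.Zc F j).subtype.comp (GrPD.dCo F j) = F.dLin j := by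
  ext1 x
  rfl

/-- the syzygy sheaves -/
noncomputable abbrev CZ (j : ℕ) : (CohB1.ProjSpace r k).Modules := Sh k r (Zp k r F j) 0

noncomputable abbrev Ce (j : ℕ) : CX k r F (j + 1) ⟶ CZ k r F j :=
  shMap k r (GrPD.dCo F j) (gses_syz k r F j).p_gr 0

noncomputable abbrev Ci (j : ℕ) : CZ k r F j ⟶ CX k r F j :=
  shMap k r (GrPD.Zc F j).subtype (fun _ _ hx => hx) 0

theorem Ce_Ci (j : ℕ) : Ce k r F j ≫ Ci k r F j = Cd k r F j :=
  shMap_comp k r _ _ _ _ _ _ (subtype_comp_dCo k r F j) 0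

instance Ci_mono (j : ℕ) : Mono (Ci k r F j) :=
  tildeMap_mono (𝒜 := CohB1.polyGrading r k) _ _ Subtype.val_injective 0

theorem Ci_Ce_zero (j : ℕ) : Ci k r F (j + 1) ≫ Ce k r F j = 0 := by
  refine shMap_comp_eq_zero k r _ _ _ _ ?_ 0
  ext1 x
  have : (GrPD.Zc F (j + 1)).subtype x ∈ LinearMap.ker (GrPD.dCo F j) := by
    rw [← GrPD.ker_dCo]; exact x.2
  exact this

theorem shortExact_syz (j : ℕ) :
    (ShortComplex.mk (Ci k r F (j + 1)) (Ce k r F j) (Ci_Ce_zero k r F j)).ShortExact :=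
  shortExact_of_gses k r (gses_syz k r F j) 0 _

instance Ce_epi (j : ℕ) : Epi (Ce k r F j) := (shortExact_syz k r F j).epi_g

theorem Ci_Cπ_zero : Ci k r F 0 ≫ Cπ k r F = 0 := by
  refine shMap_comp_eq_zero k r _ _ _ _ ?_ 0
  ext1 x
  exact x.2

theorem shortExact_aug :
    (ShortComplex.mk (Ci k r F 0) (Cπ k r F) (Ci_Cπ_zero k r F)).ShortExact :=
  shortExact_of_gses k r (gses_aug k r F) 0 _

instance Cπ_epi : Epi (Cπ k r F) := (shortExact_aug k r F).epi_g

theorem Cd_Cπ_zero : Cd k r F 0 ≫ Cπ k r F = 0 := by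
  rw [← Ce_Ci, Category.assoc, Ci_Cπ_zero, comp_zero]

/-- exactness at `C_0` -/
theorem exact_zero :
    (ShortComplex.mk (Cd k r F 0) (Cπ k r F) (Cd_Cπ_zero k r F)).Exact := by
  exact exact_of_shortExact_epi_mono' (Ce k r F 0) (Ci k r F 0) (Cπ k r F) (𝟙 _)
    (Ci_Cπ_zero k r F) (shortExact_aug k r F) _ _ (Ce_Ci k r F 0) (Category.comp_id _) _

/-- exactness at `C_{j+1}` -/
theorem exact_succ (j : ℕ) :
    (ShortComplex.mk (Cd k r F (j + 1)) (Cd k r F j) (Cd_comp k r F j)).Exact := by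
  exact exact_of_shortExact_epi_mono' (Ce k r F (j + 1)) (Ci k r F (j + 1)) (Ce k r F j)
    (Ci k r F j) (Ci_Ce_zero k r F j) (shortExact_syz k r F j) _ _ (Ce_Ci k r F (j + 1))
    (Ce_Ci k r F j) _

theorem CC_d (j : ℕ) : (CC k r F).d (j + 1) j = Cd k r F j :=
  ChainComplex.of_d _ _ _

theorem isZero_homology_CC (i : ℕ) (hi : 1 ≤ i) : IsZero ((CC k r F).homology i) := by
  obtain ⟨j, rfl⟩ : ∃ j, i = j + 1 := ⟨i - 1, by omega⟩
  rw [← HomologicalComplex.exactAt_iff_isZero_homology,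
    HomologicalComplex.exactAt_iff' (CC k r F) (j + 1 + 1) (j + 1) j
      (ChainComplex.prev ℕ (j + 1)) (ChainComplex.next_nat_succ j)]
  have h := exact_succ k r F j
  have e : (CC k r F).sc' (j + 1 + 1) (j + 1) j ≅
      ShortComplex.mk (Cd k r F (j + 1)) (Cd k r F j) (Cd_comp k r F j) :=
    ShortComplex.isoMk (Iso.refl _) (Iso.refl _) (Iso.refl _)
      ((Category.id_comp _).trans (((CC_d k r F (j + 1)).symm).trans (Category.comp_id _).symm))
      ((Category.id_comp _).trans (((CC_d k r F j).symm).trans (Category.comp_id _).symm))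
  exact (ShortComplex.exact_iff_of_iso e).2 h

theorem isZero_CX (j : ℕ) (h : F.rk j = 0) : IsZero (CX k r F j) := by
  have : Subsingleton (Fin (F.rk j) → MvPolynomial (Fin (r + 1)) k) := by
    rw [h]; infer_instance
  exact isZero_tilde_of_subsingleton 0

end Complex

end Groth.Agent.Lib.Helper77.TM
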