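import Mathlib
import Groth.Prelude.Def_GrMod2
import Groth.Prelude.Def_GrSyz
import Groth.Prelude.Def_CohB1
import Groth.Agent.Lib.Helper77.TM5

/-!
SY2 (helper77): the sheaf of a finite free graded module `⊕ S(-d_b)` on `P^r_k` is `∐ O(t - d_b)`.
-/

set_option autoImplicit false
set_option linter.unusedSectionVars false
universe u
open CategoryTheory CategoryTheory.Limits AlgebraicGeometry Opposite TopologicalSpace

namespace Groth.Agent.Lib.Helper77.TM

open GrLC DirectSum GrSyz MvPolynomial Groth.Agent.Lib.Helper77.GLC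

variable (k : Type u) [Field k] (r : ℕ) {n : ℕ} (dg : Fin n → ℤ)

theorem nonempty_Sh_fgr_iso (t : ℤ) :
    Nonempty (Sh k r (fgr (sg k (r + 1)) dg) t ≅
      ∐ fun b : Fin n => Twist.twistProjSpace r k (t - dg b)) := by
  classical
  let inc : ∀ b : Fin n, MvPolynomial (Fin (r + 1)) k →ₗ[MvPolynomial (Fin (r + 1)) k]
      (Fin n → MvPolynomial (Fin (r + 1)) k) := fun b => LinearMap.single (MvPolynomial (Fin (r + 1)) k)
        (fun _ : Fin n => MvPolynomial (Fin (r + 1)) k) b
  let prj : ∀ b : Fin n, (Fin n → MvPolynomial (Fin (r + 1)) k) →ₗ[MvPolynomial (Fin (r + 1)) k]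
      MvPolynomial (Fin (r + 1)) k := fun b => LinearMap.proj b
  have hinc : ∀ b, IsGr (nrA k r (shA k r (dg b))) (nrA k r (fgr (sg k (r + 1)) dg)) (inc b) := by
    intro b j x hx
    exact single_mem_fgr (sg k (r + 1)) dg b hx
  have hprj : ∀ b, IsGr (nrA k r (fgr (sg k (r + 1)) dg)) (nrA k r (shA k r (dg b))) (prj b) := by
    intro b j v hv
    exact hv b
  have hsum : ∑ b, (inc b).comp (prj b) = LinearMap.id := by
    refine LinearMap.ext fun v => ?_
    rw [LinearMap.sum_apply]
    exact Finset.univ_sum_single v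
  have hid : ∑ b, tildeMap (𝒜 := CohB1.polyGrading r k) (prj b) (hprj b) t ≫
      tildeMap (𝒜 := CohB1.polyGrading r k) (inc b) (hinc b) t = 𝟙 _ := by
    have h1 : ∀ b, tildeMap (𝒜 := CohB1.polyGrading r k) (prj b) (hprj b) t ≫
        tildeMap (𝒜 := CohB1.polyGrading r k) (inc b) (hinc b) t =
        tildeMap (𝒜 := CohB1.polyGrading r k) ((inc b).comp (prj b)) ((hinc b).comp (hprj b)) t :=
      fun b => (tildeMap_comp _ _ _ _ t).symm
    rw [Finset.sum_congr rfl fun b _ => h1 b,
      ← tildeMap_sum Finset.univ (fun b => (inc b).comp (prj b)) (fun b => (hinc b).comp (hprj b)) t,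
      tildeMap_congr hsum _ IsGr.id t, tildeMap_id]
  have hsame : ∀ b, tildeMap (𝒜 := CohB1.polyGrading r k) (inc b) (hinc b) t ≫
      tildeMap (𝒜 := CohB1.polyGrading r k) (prj b) (hprj b) t = 𝟙 _ := by
    intro b
    rw [← tildeMap_comp]
    have e : (prj b).comp (inc b) = LinearMap.id := by
      refine LinearMap.ext fun x => ?_
      show (Pi.single b x : Fin n → MvPolynomial (Fin (r + 1)) k) b = x
      exact Pi.single_eq_same (M := fun _ : Fin n => MvPolynomial (Fin (r + 1)) k) b x
    rw [tildeMap_congr e _ IsGr.id t, tildeMap_id]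
  have hne : ∀ b c, b ≠ c → tildeMap (𝒜 := CohB1.polyGrading r k) (inc b) (hinc b) t ≫
      tildeMap (𝒜 := CohB1.polyGrading r k) (prj c) (hprj c) t = 0 := by
    intro b c hbc
    rw [← tildeMap_comp]
    have e : (prj c).comp (inc b) = 0 := by
      refine LinearMap.ext fun x => ?_
      show (Pi.single b x : Fin n → MvPolynomial (Fin (r + 1)) k) c = 0
      exact Pi.single_eq_of_ne (M := fun _ : Fin n => MvPolynomial (Fin (r + 1)) k) (Ne.symm hbc) x
    rw [tildeMap_congr e _ IsGr.zero t, tildeMap_zero]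
  let B : Bicone (fun b : Fin n => Sh k r (shA k r (dg b)) t) :=
    { pt := Sh k r (fgr (sg k (r + 1)) dg) t
      π := fun b => tildeMap (𝒜 := CohB1.polyGrading r k) (prj b) (hprj b) t
      ι := fun b => tildeMap (𝒜 := CohB1.polyGrading r k) (inc b) (hinc b) t
      ι_π := by
        intro b c
        by_cases hbc : b = c
        · subst hbc
          rw [dif_pos rfl]
          exact hsame b
        · rw [dif_neg hbc]
          exact hne b c hbc }
  have hB : B.IsBilimit := isBilimitOfTotal B hid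
  have e1 : (∐ fun b : Fin n => Sh k r (shA k r (dg b)) t) ≅ Sh k r (fgr (sg k (r + 1)) dg) t :=
    (colimit.isColimit _).coconePointUniqueUpToIso hB.isColimit
  have e2 : (∐ fun b : Fin n => Sh k r (shA k r (dg b)) t) ≅
      ∐ fun b : Fin n => Twist.twistProjSpace r k (t - dg b) :=
    Sigma.mapIso fun b => (nonempty_Sh_shA_iso k r (dg b) t).some
  exact ⟨e1.symm ≪≫ e2⟩

end Groth.Agent.Lib.Helper77.TM
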