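import Mathlib
import Groth.Prelude.Def_GrMod2
import Groth.Prelude.Def_GrSyz
import Groth.Prelude.Def_CohB1
import Groth.Agent.Lib.Helper77.SY1
import Groth.Agent.Lib.Helper77.SY2
import Groth.Agent.Lib.Helper77.MF10

/-!
SY3 (helper77): Hilbert's syzygy theorem for coherent sheaves on `P^r_k`.
-/

set_option autoImplicit false
set_option linter.unusedSectionVars false
universe u
open CategoryTheory CategoryTheory.Limits AlgebraicGeometry Opposite TopologicalSpace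

namespace Groth.Agent.Lib.Helper77.TM

open GrLC DirectSum GrSyz MvPolynomial Groth.Agent.Lib.Helper77.GLC

variable (k : Type u) [Field k] (r : ℕ)

theorem exists_syzygy_resolution (F : (CohB1.ProjSpace r k).Modules) (hF : Coh.IsCoh F) :
    ∃ (C : ChainComplex (CohB1.ProjSpace r k).Modules ℕ) (π : C.X 0 ⟶ F) (w : C.d 1 0 ≫ π = 0),
      (∀ i : ℕ, r + 1 < i → IsZero (C.X i)) ∧
      (∀ i : ℕ, ∃ (m : ℕ) (d : Fin m → ℤ),
        Nonempty (C.X i ≅ ∐ fun j : Fin m => Twist.twistProjSpace r k (d j))) ∧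
      (∀ i : ℕ, 1 ≤ i → IsZero (C.homology i)) ∧ Epi π ∧
        (ShortComplex.mk (C.d 1 0) π w).Exact := by
  classical
  obtain ⟨N, i1, i2, i3, i4, 𝒩, i5, i6, hfin, ⟨e⟩⟩ :=
    Groth.Agent.S3551.result (CohB1.polyGrading r k) (xvars k r) (xvars_mem k r)
      (irrelevant_eq_span_xvars k r) F hF.1 hF.2
  obtain ⟨Fr, hFr⟩ := Groth.Agent.S15416.result k r N (zgrade 𝒩)
  have hrk : ∀ i, r + 1 < i → Fr.rk i = 0 := fun i hi => rk_eq_zero_of_minimal k r Fr hFr i hi
  let e' : Sh k r (flat (zgrade 𝒩)) 0 ≅ F := e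
  let π : (CC k r Fr).X 0 ⟶ F := Cπ k r Fr ≫ e'.hom
  have w : (CC k r Fr).d 1 0 ≫ π = 0 := by
    have h1 : (CC k r Fr).d 1 0 = Cd k r Fr 0 := CC_d k r Fr 0
    have h2 : Cd k r Fr 0 ≫ (Cπ k r Fr ≫ e'.hom) = 0 := by
      rw [← Category.assoc, Cd_Cπ_zero, zero_comp]
    exact (congrArg (fun f => f ≫ π) h1).trans h2
  refine ⟨CC k r Fr, π, w, ?_, ?_, ?_, ?_, ?_⟩
  · intro i hi
    exact isZero_CX k r Fr i (hrk i hi)
  · intro i
    exact ⟨Fr.rk i, fun j => 0 - Fr.deg i j, nonempty_Sh_fgr_iso k r (Fr.deg i) 0⟩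
  · intro i hi
    exact isZero_homology_CC k r Fr i hi
  · haveI : Epi (Cπ k r Fr) := Cπ_epi k r Fr
    exact epi_comp (Cπ k r Fr) e'.hom
  · have h := exact_zero k r Fr
    have eS : ShortComplex.mk ((CC k r Fr).d 1 0) π w ≅
        ShortComplex.mk (Cd k r Fr 0) (Cπ k r Fr) (Cd_Cπ_zero k r Fr) :=
      ShortComplex.isoMk (Iso.refl _) (Iso.refl _) e'.symm
        ((Category.id_comp _).trans (((CC_d k r Fr 0).symm).trans (Category.comp_id _).symm))
        (by
          show 𝟙 _ ≫ Cπ k r Fr = (Cπ k r Fr ≫ e'.hom) ≫ e'.inv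
          rw [Category.id_comp, Category.assoc, Iso.hom_inv_id, Category.comp_id])
    exact (ShortComplex.exact_iff_of_iso eS).2 h

end Groth.Agent.Lib.Helper77.TM
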