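import Groth.Agent.Lib.QCoh.Tensor
import Groth.Agent.Lib.QCoh.Helper18_Stalk

/-!
# Support of a tensor product (helper77)

* `subsingleton_stalk_shf` : stalks of the sheafification of a presheaf of modules vanishing on all
  small opens near `x`
* `support_tensorMod_subset` : `Supp (M ⊗ N) ⊆ Supp M` for `M` of finite type
-/

set_option autoImplicit false
universe u
open CategoryTheory CategoryTheory.Limits MonoidalCategory AlgebraicGeometry Opposite TopologicalSpace

namespace Groth.Agent.Lib.Helper77.TwSupp

open Groth.Agent.Lib.QCoh CohB1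

variable {X : Scheme.{u}}

theorem subsingleton_stalk_shf (P : PM X) (x : X) (U : X.Opens) (hx : x ∈ U)
    (hP : ∀ V : X.Opens, V ≤ U → Subsingleton (P.obj (op V))) :
    Subsingleton (((shf X).obj P).presheaf.stalk x) := by
  have hsurj : Presheaf.IsLocallySurjective (Opens.grothendieckTopology X)
      ((PresheafOfModules.toPresheaf _).map ((shfAdj X).unit.app P)) := (WX_unit P).2
  refine subsingleton_of_forall_eq 0 fun a => ?_
  obtain ⟨W, hxW, s, rfl⟩ := TopCat.Presheaf.exists_germ_eq ((shf X).obj P).presheaf a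
  have hloc := Presheaf.imageSieve_mem (Opens.grothendieckTopology X)
    ((PresheafOfModules.toPresheaf _).map ((shfAdj X).unit.app P)) (U := op W) s
  obtain ⟨V, i, ⟨t, ht⟩, hxV⟩ := hloc x hxW
  let j : V ⊓ U ⟶ V := homOfLE inf_le_left
  have hsub : Subsingleton (P.obj (op (V ⊓ U))) := hP (V ⊓ U) inf_le_right
  have hnat := congr($(((PresheafOfModules.toPresheaf _).map ((shfAdj X).unit.app P)).naturality
    j.op) t)
  rw [ConcreteCategory.comp_apply, ConcreteCategory.comp_apply] at hnat
  have ht0 : (ConcreteCategory.hom (((PresheafOfModules.toPresheaf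
      (X.presheaf ⋙ forget₂ CommRingCat RingCat)).obj ((𝟭 (PM X)).obj P)).map j.op)) t = 0 :=
    hsub.elim _ _
  rw [ht0, map_zero, ht] at hnat
  have hx' : x ∈ V ⊓ U := ⟨hxV, hx⟩
  rw [← TopCat.Presheaf.germ_res_apply ((shf X).obj P).presheaf (j ≫ i) x hx' s]
  have h0 : (ConcreteCategory.hom (((shf X).obj P).presheaf.map (j ≫ i).op)) s = 0 := by
    rw [op_comp, Functor.map_comp, ConcreteCategory.comp_apply]
    exact hnat.symm
  rw [h0, map_zero]

theorem subsingleton_sections_of_disjoint_support (M : X.Modules) (V : X.Opens)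
    (h : ∀ y ∈ V, y ∉ CohB1.support M) : Subsingleton (M.presheaf.obj (op V)) := by
  constructor
  intro s t
  refine TopCat.Presheaf.section_ext (⟨M.presheaf, M.isSheaf⟩ : TopCat.Sheaf Ab X) V s t
    fun y hy => ?_
  have : Subsingleton (M.presheaf.stalk y) := not_not.1 (h y hy)
  exact Subsingleton.elim _ _

theorem support_tensorMod_subset (M N : X.Modules) (hM : CohB1.IsFT M) :
    CohB1.support (tensorMod M N) ⊆ CohB1.support M := by
  intro x hx
  by_contra hxM
  apply hx
  have hcl := isClosed_support_of_isFT M hM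
  let U : X.Opens := ⟨(CohB1.support M)ᶜ, hcl.isOpen_compl⟩
  have hxU : x ∈ U := hxM
  refine subsingleton_stalk_shf ((incl X).obj M ⊗ (incl X).obj N) x U hxU fun V hVU => ?_
  have hMV : Subsingleton (M.presheaf.obj (op V)) :=
    subsingleton_sections_of_disjoint_support M V (fun y hy => hVU hy)
  have hMV' : Subsingleton (((incl X).obj M).obj (op V)) := hMV
  refine ⟨fun a b => ?_⟩
  have h0 : ∀ c : TensorProduct (X.presheaf.obj (op V)) (((incl X).obj M).obj (op V))
      (((incl X).obj N).obj (op V)), c = 0 := by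
    intro c
    induction c using TensorProduct.induction_on with
    | zero => rfl
    | tmul m n => rw [Subsingleton.elim m 0, TensorProduct.zero_tmul]
    | add a b ha hb => rw [ha, hb, add_zero]
  exact (h0 a).trans (h0 b).symm

end Groth.Agent.Lib.Helper77.TwSupp
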