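import Mathlib
import Groth.Agent.Lib.Helper33.PdLocus
import Groth.Agent.Lib.Helper33.DepthZeroFree
import Groth.Agent.Lib.Helper33.ChangeOfRings

/-!
# Vasconcelos (part 1): an ideal of finite projective dimension contained in an associated prime
is locally zero there (helper77)
-/

set_option autoImplicit false
universe u
open CategoryTheory

namespace Groth.Agent.Lib.Helper77.Vasc

/-- projective dimension localizes. -/
theorem hasProjectiveDimensionLT_localizedModule (A : Type u) [CommRing A] (S : Submonoid A) (n : ℕ) :
    ∀ (M : Type u) [AddCommGroup M] [Module A M],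
      HasProjectiveDimensionLT (ModuleCat.of A M) (n + 1) →
      HasProjectiveDimensionLT (ModuleCat.of (Localization S) (LocalizedModule S M)) (n + 1) := by
  induction n with
  | zero =>
    intro M _ _ h
    rw [zero_add, ← projective_iff_hasProjectiveDimensionLT_one,
      ← IsProjective.iff_projective] at h ⊢
    infer_instance
  | succ n ih =>
    intro M _ _ h
    obtain ⟨F, _, _, _, π, hπ⟩ := Groth.Agent.Lib.Helper33.exists_free_presentation A M
    have S_exact := LinearMap.shortExact_shortComplexKer hπ
    have proj : Projective π.shortComplexKer.X₂ :=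
      (IsProjective.iff_projective (R := A) (P := F)).mp inferInstance
    have hK : HasProjectiveDimensionLT (ModuleCat.of A (LinearMap.ker π)) (n + 1) :=
      (S_exact.hasProjectiveDimensionLT_X₃_iff n proj).mp h
    have ihK := ih (LinearMap.ker π) hK
    exact (Groth.Agent.Lib.Helper33.PdLocus.hasProjectiveDimensionLT_localized_step A S
      (LinearMap.ker π).subtype π (Submodule.injective_subtype _)
      (LinearMap.exact_subtype_ker_map π) hπ n).mpr ihK

/-- An ideal of finite projective dimension contained in an associated prime `q` of a Noetherian
ring is zero locally at `q`. -/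
theorem exists_mul_eq_zero_of_le_ass (R : Type u) [CommRing R] [IsNoetherianRing R] (I : Ideal R)
    (n : ℕ) (hpd : HasProjectiveDimensionLT (ModuleCat.of R I) (n + 1)) (q : Ideal R)
    (hq : q ∈ associatedPrimes R R) (hIq : I ≤ q) (z : R) (hz : z ∈ I) :
    ∃ u, u ∉ q ∧ u * z = 0 := by
  have : q.IsPrime := hq.isPrime
  have hassA : IsLocalRing.maximalIdeal (Localization.AtPrime q) ∈
      associatedPrimes (Localization.AtPrime q) (Localization.AtPrime q) := by
    apply Module.associatedPrimes.mem_associatedPrimes_of_comap_mem_associatedPrimes_of_isLocalizedModule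
      q.primeCompl (Algebra.linearMap R (Localization.AtPrime q))
    have := Localization.AtPrime.under_maximalIdeal (I := q)
    rw [Ideal.under] at this
    rw [this]
    exact hq
  have hpdA := hasProjectiveDimensionLT_localizedModule R q.primeCompl n I hpd
  have hproj : Module.Projective (Localization.AtPrime q) (LocalizedModule q.primeCompl I) :=
    Groth.Agent.Lib.Helper33.projective_of_maximalIdeal_mem_ass (Localization.AtPrime q) hassA n
      (LocalizedModule q.primeCompl I) hpdA
  have hfree : Module.Free (Localization.AtPrime q) (LocalizedModule q.primeCompl I) :=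
    Module.free_of_flat_of_isLocalRing
  rw [AssociatedPrimes.mem_iff, isAssociatedPrime_iff] at hassA
  obtain ⟨_, t, ht⟩ := hassA
  have ht0 : t ≠ 0 := by
    intro h0
    have : (1 : Localization.AtPrime q) ∈ IsLocalRing.maximalIdeal (Localization.AtPrime q) := by
      rw [ht, Submodule.mem_colon_singleton, h0, smul_zero]
      exact Submodule.zero_mem _
    exact (IsLocalRing.maximalIdeal.isMaximal _).ne_top ((Ideal.eq_top_iff_one _).mpr this)
  have hmt : ∀ a ∈ IsLocalRing.maximalIdeal (Localization.AtPrime q), a * t = 0 := by
    intro a ha
    rw [ht, Submodule.mem_colon_singleton] at ha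
    simpa using ha
  have hsub : Subsingleton (LocalizedModule q.primeCompl I) := by
    refine Groth.Agent.Lib.Helper33.subsingleton_of_free_of_smul_eq_zero _ t ht0 ?_
    intro y
    apply LocalizedModule.map_injective q.primeCompl I.subtype (Submodule.injective_subtype _)
    rw [map_smul, map_zero]
    induction y using LocalizedModule.induction_on with
    | h m s =>
      rw [LocalizedModule.map_mk]
      have h1 : (LocalizedModule.mk (I.subtype m) s : LocalizedModule q.primeCompl R) =
          (Localization.mk (m : R) s : Localization.AtPrime q) •
            (LocalizedModule.mk (1 : R) (1 : q.primeCompl)) := by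
        rw [LocalizedModule.mk_smul_mk]
        simp
      rw [h1, smul_smul, mul_comm, hmt, zero_smul]
      rw [Localization.mk_eq_mk',
        IsLocalization.AtPrime.mk'_mem_maximal_iff (Localization.AtPrime q) q]
      exact hIq m.2
  have h0 : (LocalizedModule.mk (⟨z, hz⟩ : I) (1 : q.primeCompl)) =
      (LocalizedModule.mk (0 : I) (1 : q.primeCompl)) := Subsingleton.elim _ _
  rw [LocalizedModule.mk_eq] at h0
  obtain ⟨u, hu⟩ := h0
  refine ⟨u.1, u.2, ?_⟩
  have := congrArg Subtype.val hu
  simpa [Submonoid.smul_def] using this

end Groth.Agent.Lib.Helper77.Vasc
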