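import Mathlib

/-!
# Coset prime avoidance (helper77)
-/

set_option autoImplicit false
universe u

namespace Groth.Agent.Lib.Helper77.Vasc

variable {R : Type u} [CommRing R]

/-- coset prime avoidance for an antichain of primes. -/
theorem exists_add_notMem_of_antichain (S : Finset (Ideal R)) (hS : ∀ p ∈ S, p.IsPrime)
    (hanti : ∀ p ∈ S, ∀ q ∈ S, q ≤ p → q = p)
    (x : R) (J : Ideal R) (h : ∀ p ∈ S, x ∈ p → ¬ J ≤ p) :
    ∃ j ∈ J, ∀ p ∈ S, x + j ∉ p := by
  classical
  set S₁ := S.filter (fun p => x ∈ p) with hS₁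
  set S₂ := S.filter (fun p => x ∉ p) with hS₂
  set K : Ideal R := J * ∏ q ∈ S₂, q with hK
  have key := Ideal.subset_union_prime (R := R) (s := S₁) (f := fun p : Ideal R => p) ⊥ ⊥
    (fun p hp _ _ => hS p (Finset.mem_filter.1 hp).1) (I := K)
  have hnot : ¬ ∃ p ∈ S₁, K ≤ p := by
    rintro ⟨p, hp, hKp⟩
    rw [Finset.mem_filter] at hp
    have hpp := hS p hp.1
    rw [hK, hpp.mul_le] at hKp
    rcases hKp with hJ | hprod
    · exact h p hp.1 hp.2 hJ
    · rw [hpp.prod_le] at hprod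
      obtain ⟨q, hq, hqp⟩ := hprod
      rw [Finset.mem_filter] at hq
      have := hanti p hp.1 q hq.1 hqp
      exact hq.2 (this ▸ hp.2)
  rw [← key, Set.not_subset] at hnot
  obtain ⟨j, hjK, hj⟩ := hnot
  have hjJ' : j ∈ J := by
    have : K ≤ J := Ideal.mul_le_left
    exact this hjK
  refine ⟨j, hjJ', fun p hp hmem => ?_⟩
  by_cases hx : x ∈ p
  · apply hj
    simp only [Set.mem_iUnion, Finset.mem_coe]
    refine ⟨p, Finset.mem_filter.2 ⟨hp, hx⟩, ?_⟩
    have := p.sub_mem hmem hx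
    rwa [add_sub_cancel_left] at this
  · apply hx
    have hjp : j ∈ p := by
      have h1 : K ≤ ∏ q ∈ S₂, q := Ideal.mul_le_right
      have h2 : ∏ q ∈ S₂, q ≤ p :=
        Ideal.le_of_dvd (Finset.dvd_prod_of_mem (fun q => q) (Finset.mem_filter.2 ⟨hp, hx⟩))
      exact h2 (h1 hjK)
    have := p.sub_mem hmem hjp
    rwa [add_sub_cancel_right] at this

/-- coset prime avoidance: if for each of finitely many primes `p` either `x ∉ p` or `J ⊄ p`,
then some element of `x + J` avoids all of them. -/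
theorem exists_add_notMem (S : Finset (Ideal R)) (hS : ∀ p ∈ S, p.IsPrime)
    (x : R) (J : Ideal R) (h : ∀ p ∈ S, x ∈ p → ¬ J ≤ p) :
    ∃ j ∈ J, ∀ p ∈ S, x + j ∉ p := by
  classical
  set T := S.filter (fun p => Maximal (· ∈ S) p) with hT
  have hTS : ∀ p ∈ T, p ∈ S := fun p hp => (Finset.mem_filter.1 hp).1
  obtain ⟨j, hj, hjT⟩ := exists_add_notMem_of_antichain T (fun p hp => hS p (hTS p hp))
    (fun p hp q hq hqp => by
      have hq' := (Finset.mem_filter.1 hq).2
      exact le_antisymm hqp (hq'.2 (hTS p hp) hqp))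
    x J (fun p hp => h p (hTS p hp))
  refine ⟨j, hj, fun p hp hmem => ?_⟩
  obtain ⟨b, hpb, hb⟩ := S.exists_le_maximal hp
  exact hjT b (Finset.mem_filter.2 ⟨hb.1, hb⟩) (hpb hmem)

end Groth.Agent.Lib.Helper77.Vasc
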