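import Mathlib
import Groth.Agent.Lib.Helper33.ChangeOfRings

/-!
# Vasconcelos (part 3): change of rings for an ideal with a split conormal element (helper77)
-/

set_option autoImplicit false
universe u
open CategoryTheory

namespace Groth.Agent.Lib.Helper77.Vasc

open Pointwise

section
variable {R : Type u} [CommRing R] (I : Ideal R) (y : R) (hy : y ∈ I)

/-- the reduction map `I → I(R/y)`. -/
noncomputable def rho : I →ₗ[R] (I.map (Ideal.Quotient.mk (Ideal.span {y}))) where
  toFun z := ⟨Ideal.Quotient.mk _ z.1, Ideal.mem_map_of_mem _ z.2⟩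
  map_add' a b := by
    ext
    simp
  map_smul' a b := by
    ext
    simp [Algebra.smul_def]

theorem rho_surjective : Function.Surjective (rho I y) := by
  rintro ⟨w, hw⟩
  obtain ⟨z, hz, rfl⟩ := (Ideal.mem_map_iff_of_surjective _ Ideal.Quotient.mk_surjective).1 hw
  exact ⟨⟨z, hz⟩, rfl⟩

include hy in
theorem mem_ker_rho (z : I) (hz : z ∈ LinearMap.ker (rho I y)) : ∃ a : R, z = a • ⟨y, hy⟩ := by
  rw [LinearMap.mem_ker] at hz
  have h1 : Ideal.Quotient.mk (Ideal.span {y}) z.1 = 0 := congrArg Subtype.val hz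
  rw [Ideal.Quotient.eq_zero_iff_mem, Ideal.mem_span_singleton'] at h1
  obtain ⟨a, ha⟩ := h1
  exact ⟨a, Subtype.ext (by simpa using ha.symm)⟩

/-- `R/I → I/yI`, `a ↦ [a y]`. -/
noncomputable def tau : (R ⧸ I) →ₗ[R] QuotSMulTop y I :=
  Submodule.liftQ I (LinearMap.toSpanSingleton R (QuotSMulTop y I)
    (Submodule.Quotient.mk ⟨y, hy⟩)) (by
      intro a ha
      rw [LinearMap.mem_ker, LinearMap.toSpanSingleton_apply, ← Submodule.Quotient.mk_smul,
        Submodule.Quotient.mk_eq_zero]
      have : a • (⟨y, hy⟩ : I) = y • (⟨a, ha⟩ : I) := Subtype.ext (by simp [mul_comm])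
      rw [this]
      exact Submodule.smul_mem_pointwise_smul _ _ _ Submodule.mem_top)

theorem tau_mk (a : R) : tau I y hy (Ideal.Quotient.mk I a) =
    a • (Submodule.Quotient.mk ⟨y, hy⟩ : QuotSMulTop y I) := rfl

variable (φ : I →ₗ[R] R ⧸ I) (hφ : φ ⟨y, hy⟩ = 1)

/-- the splitting map before passing to the quotient. -/
noncomputable def sigma : I →ₗ[R] QuotSMulTop y I :=
  Submodule.mkQ _ - (tau I y hy) ∘ₗ φ

include hφ in
theorem sigma_y : sigma I y hy φ ⟨y, hy⟩ = 0 := by
  rw [sigma, LinearMap.sub_apply, LinearMap.comp_apply, hφ]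
  have : (1 : R ⧸ I) = Ideal.Quotient.mk I 1 := rfl
  rw [this, tau_mk, one_smul, Submodule.mkQ_apply, sub_self]

include hφ in
theorem ker_rho_le : LinearMap.ker (rho I y) ≤ LinearMap.ker (sigma I y hy φ) := by
  intro z hz
  obtain ⟨a, rfl⟩ := mem_ker_rho I y hy z hz
  rw [LinearMap.mem_ker, map_smul, sigma_y I y hy φ hφ, smul_zero]

/-- the section `I(R/y) → I/yI`. -/
noncomputable def sec0 : (I.map (Ideal.Quotient.mk (Ideal.span {y}))) →ₗ[R] QuotSMulTop y I :=
  (Submodule.liftQ _ (sigma I y hy φ) (ker_rho_le I y hy φ hφ)) ∘ₗ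
    ((rho I y).quotKerEquivOfSurjective (rho_surjective I y)).symm.toLinearMap

theorem sec0_rho (z : I) : sec0 I y hy φ hφ (rho I y z) = sigma I y hy φ z := by
  rw [sec0, LinearMap.comp_apply, LinearEquiv.coe_coe,
    LinearMap.quotKerEquivOfSurjective_symm_apply]
  rfl

/-- the retraction `I/yI → I(R/y)`. -/
noncomputable def ret0 : QuotSMulTop y I →ₗ[R] (I.map (Ideal.Quotient.mk (Ideal.span {y}))) :=
  Submodule.liftQ _ (rho I y) (by
    intro z hz
    obtain ⟨w, -, rfl⟩ := (Submodule.mem_smul_pointwise_iff_exists _ _ _).1 hz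
    rw [LinearMap.mem_ker, map_smul]
    apply Subtype.ext
    have : Ideal.Quotient.mk (Ideal.span {y}) y = 0 :=
      Ideal.Quotient.eq_zero_iff_mem.2 (Ideal.mem_span_singleton_self y)
    simp [Algebra.smul_def, this])

theorem ret0_mk (z : I) : ret0 I y (Submodule.Quotient.mk z) = rho I y z := rfl

include hy in
theorem rho_y : rho I y ⟨y, hy⟩ = 0 := by
  apply Subtype.ext
  exact Ideal.Quotient.eq_zero_iff_mem.2 (Ideal.mem_span_singleton_self y)

theorem ret0_tau (a : R ⧸ I) : ret0 I y (tau I y hy a) = 0 := by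
  obtain ⟨a, rfl⟩ := Ideal.Quotient.mk_surjective a
  rw [tau_mk, map_smul, ret0_mk, rho_y I y hy, smul_zero]

theorem ret0_sec0 (w : I.map (Ideal.Quotient.mk (Ideal.span {y}))) :
    ret0 I y (sec0 I y hy φ hφ w) = w := by
  obtain ⟨z, rfl⟩ := rho_surjective I y w
  rw [sec0_rho, sigma, LinearMap.sub_apply, map_sub, LinearMap.comp_apply, ret0_tau, sub_zero,
    Submodule.mkQ_apply, ret0_mk]

include hy hφ in
/-- Change of rings for an ideal `I` of finite projective dimension, along a regular element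
`y ∈ I` which splits off from the conormal module. -/
theorem hasProjectiveDimensionLT_map_quotient (hyreg : IsSMulRegular R y) (n : ℕ)
    (hpd : HasProjectiveDimensionLT (ModuleCat.of R I) (n + 1)) :
    HasProjectiveDimensionLT (ModuleCat.of (R ⧸ Ideal.span {y})
      (I.map (Ideal.Quotient.mk (Ideal.span {y})))) (n + 1) := by
  have hreg : IsSMulRegular I y := hyreg.submodule _ y
  have h1 := Groth.Agent.Lib.Helper33.hasProjectiveDimensionLT_quotSMulTop R y hyreg n I hreg hpd
  let s : (I.map (Ideal.Quotient.mk (Ideal.span {y}))) →ₗ[R ⧸ Ideal.span {y}] QuotSMulTop y I :=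
    (sec0 I y hy φ hφ).extendScalarsOfSurjective Ideal.Quotient.mk_surjective
  let r : QuotSMulTop y I →ₗ[R ⧸ Ideal.span {y}] (I.map (Ideal.Quotient.mk (Ideal.span {y}))) :=
    (ret0 I y).extendScalarsOfSurjective Ideal.Quotient.mk_surjective
  have retr : Retract (ModuleCat.of (R ⧸ Ideal.span {y})
      (I.map (Ideal.Quotient.mk (Ideal.span {y}))))
      (ModuleCat.of (R ⧸ Ideal.span {y}) (QuotSMulTop y I)) :=
    { i := ModuleCat.ofHom s
      r := ModuleCat.ofHom r
      retract := by
        ext w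
        exact congrArg Subtype.val (ret0_sec0 I y hy φ hφ w) }
  exact retr.hasProjectiveDimensionLT (n + 1)

end

end Groth.Agent.Lib.Helper77.Vasc
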