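import Mathlib
import Groth.Agent.Lib.Helper77.Vasc1
import Groth.Agent.Lib.Helper77.Vasc2
import Groth.Agent.Lib.Helper77.Vasc3
import Groth.Agent.Lib.Helper77.QuasiRegReg
import Groth.Agent.Lib.Helper77.QuasiRegGen

/-!
# Vasconcelos (part 4): the local theorem in elementwise form (helper77)

If `x_1, …, x_c` lie in the Jacobson radical of a Noetherian ring, the ideal `I = (x)` has finite
projective dimension and every syzygy of `x` has coefficients in `I` (i.e. `I/I²` is free on the
classes of the `x_i`), then `x` is a regular sequence.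
-/

set_option autoImplicit false
universe u
open CategoryTheory

namespace Groth.Agent.Lib.Helper77.Vasc

open Groth.Agent.Lib.Helper77.QuasiReg

/-- all syzygies of `x` have coefficients in the ideal generated by `x`. -/
def SyzIn {R : Type u} [CommRing R] {c : ℕ} (x : Fin c → R) : Prop :=
  ∀ a : Fin c → R, ∑ j, a j * x j = 0 → ∀ j, a j ∈ Ideal.span (Set.range x)

section
variable {R : Type u} [CommRing R]

/-- from the syzygy condition: the functional "first coordinate". -/
theorem exists_functional {c : ℕ} (x : Fin (c + 1) → R) (hx : SyzIn x) :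
    ∃ φ : Ideal.span (Set.range x) →ₗ[R] R ⧸ Ideal.span (Set.range x),
      φ ⟨x 0, Ideal.subset_span ⟨0, rfl⟩⟩ = 1 := by
  set I := Ideal.span (Set.range x) with hI
  let v : Fin (c + 1) → I := fun j => ⟨x j, Ideal.subset_span ⟨j, rfl⟩⟩
  let ε : (Fin (c + 1) → R) →ₗ[R] I := Fintype.linearCombination R v
  have hεval : ∀ a, ((ε a : I) : R) = ∑ j, a j * x j := by
    intro a
    simp [ε, v, Fintype.linearCombination_apply]
  have hε : Function.Surjective ε := by
    rintro ⟨z, hz⟩
    obtain ⟨a, ha⟩ := Ideal.mem_span_range_iff_exists_fun.1 hz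
    exact ⟨a, Subtype.ext (by rw [hεval, ha])⟩
  let ψ : (Fin (c + 1) → R) →ₗ[R] R ⧸ I := (Submodule.mkQ I) ∘ₗ (LinearMap.proj 0)
  have hker : LinearMap.ker ε ≤ LinearMap.ker ψ := by
    intro a ha
    rw [LinearMap.mem_ker] at ha ⊢
    have h0 : ∑ j, a j * x j = 0 := by rw [← hεval, ha]; rfl
    have := hx a h0 0
    simp only [ψ, LinearMap.comp_apply, LinearMap.proj_apply, Submodule.mkQ_apply]
    exact (Submodule.Quotient.mk_eq_zero _).2 this
  refine ⟨(Submodule.liftQ _ ψ hker) ∘ₗ (ε.quotKerEquivOfSurjective hε).symm.toLinearMap, ?_⟩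
  have h1 : (⟨x 0, Ideal.subset_span ⟨0, rfl⟩⟩ : I) = ε (Pi.single 0 1) := by
    apply Subtype.ext
    rw [hεval]
    simp [Pi.single_apply]
  rw [h1, LinearMap.comp_apply, LinearEquiv.coe_coe, LinearMap.quotKerEquivOfSurjective_symm_apply]
  change ψ (Pi.single 0 1) = 1
  simp [ψ]

/-- lifting a weakly regular sequence from the quotient by a regular element. -/
theorem isWeaklyRegular_cons_of_quot {c : ℕ} (y : R) (g : Fin c → R) (hy : IsSMulRegular R y)
    (h : RingTheory.Sequence.IsWeaklyRegular (R ⧸ Ideal.span {y})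
      (List.ofFn fun i : Fin c => Ideal.Quotient.mk (Ideal.span {y}) (g i))) :
    RingTheory.Sequence.IsWeaklyRegular R (List.ofFn (Fin.cons y g : Fin (c + 1) → R)) := by
  rw [List.ofFn_succ, RingTheory.Sequence.isWeaklyRegular_cons_iff]
  refine ⟨by simpa using hy, ?_⟩
  have h2 : List.ofFn (fun i : Fin c => Ideal.Quotient.mk (Ideal.span {y}) (g i)) =
      (List.ofFn g).map (algebraMap R (R ⧸ Ideal.span {y})) := by
    rw [List.map_ofFn]; rfl
  rw [h2, RingTheory.Sequence.isWeaklyRegular_map_algebraMap_iff] at h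
  simp only [Fin.cons_succ]
  exact (LinearEquiv.isWeaklyRegular_congr
    (Submodule.quotEquivOfEq _ _ (span_singleton_eq_smul_top y)) _).1 h

/-- the span of `cons y g` when `y - x ∈ span g`. -/
theorem span_cons_eq {c : ℕ} (x y : R) (g : Fin c → R)
    (h : y - x ∈ Ideal.span (Set.range g)) :
    Ideal.span (Set.range (Fin.cons y g : Fin (c + 1) → R)) =
      Ideal.span (Set.range (Fin.cons x g : Fin (c + 1) → R)) := by
  have key : ∀ (x y : R), y - x ∈ Ideal.span (Set.range g) →
      Ideal.span (Set.range (Fin.cons y g : Fin (c + 1) → R)) ≤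
        Ideal.span (Set.range (Fin.cons x g : Fin (c + 1) → R)) := by
    intro x y h
    rw [Ideal.span_le]
    rintro _ ⟨i, rfl⟩
    refine Fin.cases ?_ (fun i => ?_) i
    · rw [Fin.cons_zero]
      have h1 : y = (y - x) + x := by ring
      rw [h1]
      exact Ideal.add_mem _ (span_le_span_cons g x h) (mem_span_cons g x)
    · rw [Fin.cons_succ]
      exact span_le_span_cons g x (Ideal.subset_span ⟨i, rfl⟩)
  refine le_antisymm (key x y h) (key y x ?_)
  have : x - y = -(y - x) := by ring
  rw [this]
  exact Ideal.neg_mem_iff _ |>.2 h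

/-- **Vasconcelos, local elementwise form.** -/
theorem isWeaklyRegular_of_syzIn : ∀ (c : ℕ) (R : Type u) [CommRing R] [IsNoetherianRing R]
    (x : Fin c → R), (∀ j, x j ∈ (⊥ : Ideal R).jacobson) → ∀ (n : ℕ),
    HasProjectiveDimensionLT (ModuleCat.of R (Ideal.span (Set.range x))) (n + 1) → SyzIn x →
    RingTheory.Sequence.IsWeaklyRegular R (List.ofFn x) := by
  intro c
  induction c with
  | zero =>
    intro R _ _ x _ _ _ _
    rw [List.ofFn_zero]
    exact RingTheory.Sequence.IsWeaklyRegular.nil R R
  | succ c ih =>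
    intro R _ _ x hrad n hpd hsyz
    classical
    set I := Ideal.span (Set.range x) with hI
    set g : Fin c → R := fun i => x i.succ with hg
    have hxcons : x = Fin.cons (x 0) g := by
      funext i
      refine Fin.cases ?_ (fun i => ?_) i
      · rw [Fin.cons_zero]
      · rw [Fin.cons_succ]
    set J := Ideal.span (Set.range g) with hJ
    have hJI : J ≤ I := by
      rw [hJ, Ideal.span_le]
      rintro _ ⟨i, rfl⟩
      exact Ideal.subset_span ⟨i.succ, rfl⟩
    -- step 1: `I` is not contained in an associated prime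
    have hfin := associatedPrimes.finite R R
    have havoid : ∀ p ∈ hfin.toFinset, x 0 ∈ p → ¬ J ≤ p := by
      intro p hp hx0 hJp
      rw [Set.Finite.mem_toFinset] at hp
      have hIp : I ≤ p := by
        rw [hI, Ideal.span_le]
        rintro _ ⟨i, rfl⟩
        refine Fin.cases hx0 (fun i => ?_) i
        exact hJp (Ideal.subset_span ⟨i, rfl⟩)
      obtain ⟨u, hu, hu0⟩ := exists_mul_eq_zero_of_le_ass R I n hpd p hp hIp (x 0)
        (Ideal.subset_span ⟨0, rfl⟩)
      have := hsyz (Pi.single 0 u) (by
        rw [Finset.sum_eq_single 0]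
        · simpa using hu0
        · intro b _ hb
          rw [Pi.single_eq_of_ne hb, zero_mul]
        · intro h; exact absurd (Finset.mem_univ _) h) 0
      rw [Pi.single_eq_same] at this
      exact hu (hIp this)
    obtain ⟨j, hjJ, hj⟩ := exists_add_notMem hfin.toFinset
      (fun p hp => ((Set.Finite.mem_toFinset hfin).1 hp).isPrime) (x 0) J havoid
    set y := x 0 + j with hy
    -- `y` is a nonzerodivisor
    have hyreg : IsSMulRegular R y := by
      have hmem : y ∈ nonZeroDivisors R := by
        by_contra hcon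
        have h1 : y ∈ (nonZeroDivisors R : Set R)ᶜ := hcon
        rw [← biUnion_associatedPrimes_eq_compl_nonZeroDivisors] at h1
        simp only [Set.mem_iUnion] at h1
        obtain ⟨p, hp, hyp⟩ := h1
        exact hj p ((Set.Finite.mem_toFinset hfin).2 hp) hyp
      exact (isRegular_iff_mem_nonZeroDivisors.2 hmem).left.isSMulRegular
    -- the modified sequence
    set x' : Fin (c + 1) → R := Fin.cons y g with hx'
    have hx'0 : x' 0 = y := by rw [hx', Fin.cons_zero]
    have hspan : Ideal.span (Set.range x') = I := by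
      rw [hx', span_cons_eq (x 0) y g (by rw [hy, add_sub_cancel_left]; exact hjJ), ← hxcons]
    obtain ⟨b, hb⟩ := Ideal.mem_span_range_iff_exists_fun.1 hjJ
    have hsyz' : SyzIn x' := by
      intro a ha k
      rw [hspan]
      rw [Fin.sum_univ_succ] at ha
      simp only [hx', Fin.cons_zero, Fin.cons_succ] at ha
      have h1 := hsyz (Fin.cons (a 0) (fun i => a i.succ + a 0 * b i)) (by
        rw [Fin.sum_univ_succ]
        simp only [Fin.cons_zero, Fin.cons_succ]
        have h3 : ∑ i : Fin c, (a i.succ + a 0 * b i) * x i.succ =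
            ∑ i, a i.succ * g i + a 0 * ∑ i, b i * g i := by
          rw [Finset.mul_sum, ← Finset.sum_add_distrib]
          refine Finset.sum_congr rfl fun i _ => ?_
          simp only [hg]; ring
        rw [h3, hb]
        rw [hy] at ha
        linear_combination ha)
      have h0 : a 0 ∈ I := by simpa using h1 0
      refine Fin.cases h0 (fun i => ?_) k
      have h2 := h1 i.succ
      rw [Fin.cons_succ] at h2
      have h4 : a i.succ = (a i.succ + a 0 * b i) - a 0 * b i := by ring
      rw [h4]
      exact Ideal.sub_mem _ h2 (Ideal.mul_mem_right _ _ h0)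
    obtain ⟨φ, hφ⟩ := exists_functional x' hsyz'
    -- change of rings
    have hpd' : HasProjectiveDimensionLT (ModuleCat.of R (Ideal.span (Set.range x'))) (n + 1) := by
      rw [hspan]; exact hpd
    have hyI : y ∈ Ideal.span (Set.range x') := Ideal.subset_span ⟨0, hx'0⟩
    have hpdq := hasProjectiveDimensionLT_map_quotient (Ideal.span (Set.range x')) y hyI φ hφ
      hyreg n hpd'
    set x'' : Fin c → R ⧸ Ideal.span {y} := fun i => Ideal.Quotient.mk (Ideal.span {y}) (g i)
      with hx''
    have hspan'' : Ideal.span (Set.range x'') =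
        (Ideal.span (Set.range x')).map (Ideal.Quotient.mk (Ideal.span {y})) := by
      rw [Ideal.map_span]
      apply le_antisymm
      · rw [Ideal.span_le]
        rintro _ ⟨i, rfl⟩
        exact Ideal.subset_span ⟨g i, ⟨i.succ, by rw [hx', Fin.cons_succ]⟩, rfl⟩
      · rw [Ideal.span_le]
        rintro _ ⟨_, ⟨i, rfl⟩, rfl⟩
        refine Fin.cases ?_ (fun i => ?_) i
        · rw [hx'0]
          have h5 : Ideal.Quotient.mk (Ideal.span {y}) y = 0 :=
            Ideal.Quotient.eq_zero_iff_mem.2 (Ideal.mem_span_singleton_self y)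
          rw [h5]; exact Ideal.zero_mem _
        · rw [hx', Fin.cons_succ]; exact Ideal.subset_span ⟨i, rfl⟩
    have hsyz'' : SyzIn x'' := by
      intro a ha k
      choose a' ha' using fun i => Ideal.Quotient.mk_surjective (a i)
      have h1 : Ideal.Quotient.mk (Ideal.span {y}) (∑ i, a' i * g i) = 0 := by
        rw [map_sum, ← ha]
        refine Finset.sum_congr rfl fun i _ => ?_
        rw [map_mul, ha']
      rw [Ideal.Quotient.eq_zero_iff_mem, Ideal.mem_span_singleton'] at h1
      obtain ⟨b', hb'⟩ := h1
      have h2 := hsyz' (Fin.cons (-b') a') (by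
        rw [Fin.sum_univ_succ]
        simp only [hx', Fin.cons_zero, Fin.cons_succ]
        rw [← hb']; ring) k.succ
      rw [Fin.cons_succ] at h2
      rw [hspan'', ← ha' k]
      exact Ideal.mem_map_of_mem _ h2
    have hrad'' : ∀ i, x'' i ∈ (⊥ : Ideal (R ⧸ Ideal.span {y})).jacobson :=
      fun i => mem_jacobson_quot _ (hrad i.succ)
    have hpd'' : HasProjectiveDimensionLT (ModuleCat.of (R ⧸ Ideal.span {y})
        (Ideal.span (Set.range x''))) (n + 1) := by
      rw [hspan'']; exact hpdq
    have hreg'' := ih (R ⧸ Ideal.span {y}) x'' hrad'' n hpd'' hsyz''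
    have hreg' : RingTheory.Sequence.IsWeaklyRegular R (List.ofFn x') :=
      isWeaklyRegular_cons_of_quot y g hyreg hreg''
    have hq' := isQuasiRegular_of_isWeaklyRegular (c + 1) x' hreg'
    have hq := isQuasiRegular_of_span_eq x' x hq' (by rw [hspan])
    exact isWeaklyRegular_of_isQuasiRegular (c + 1) R x hrad hq

end

end Groth.Agent.Lib.Helper77.Vasc
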