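import Mathlib
import Groth.Agent.Lib.Helper77.QuasiReg

/-!
# Regular sequences in localizations, elementwise (helper77)
-/

set_option autoImplicit false
universe u

namespace Groth.Agent.Lib.Helper77.Vasc

open Groth.Agent.Lib.Helper77.QuasiReg

section
variable {A : Type u} [CommRing A]

/-- the last step of a weakly regular sequence, as an iff. -/
theorem isWeaklyRegular_ofFn_succ_iff {c : ℕ} (f : Fin (c + 1) → A) :
    RingTheory.Sequence.IsWeaklyRegular A (List.ofFn f) ↔
    RingTheory.Sequence.IsWeaklyRegular A (List.ofFn fun i : Fin c => f i.castSucc) ∧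
      ∀ ξ, f (Fin.last c) * ξ ∈ Ideal.span (Set.range fun i : Fin c => f i.castSucc) →
        ξ ∈ Ideal.span (Set.range fun i : Fin c => f i.castSucc) := by
  refine ⟨colon_of_isWeaklyRegular f, fun h => ?_⟩
  rw [List.ofFn_succ', List.concat_eq_append, RingTheory.Sequence.isWeaklyRegular_append_iff,
    RingTheory.Sequence.isWeaklyRegular_singleton_iff]
  refine ⟨h.1, ?_⟩
  rw [ofList_ofFn]
  have hI : (Ideal.span (Set.range fun i : Fin c => f i.castSucc) • ⊤ : Submodule A A) =
      Ideal.span (Set.range fun i : Fin c => f i.castSucc) := by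
    rw [smul_eq_mul, Ideal.mul_top]
  rw [isSMulRegular_iff_right_eq_zero_of_smul]
  intro m hm
  obtain ⟨ξ, rfl⟩ := Submodule.Quotient.mk_surjective _ m
  rw [← Submodule.Quotient.mk_smul, Submodule.Quotient.mk_eq_zero, hI, smul_eq_mul] at hm
  rw [Submodule.Quotient.mk_eq_zero, hI]
  exact h.2 ξ hm

end

section
variable {R : Type u} [CommRing R]

/-- elementwise criterion for `x` to be weakly regular in the localization at `S`. -/
def WRC (S : Submonoid R) : ∀ c : ℕ, (Fin c → R) → Prop
  | 0, _ => True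
  | c + 1, x => WRC S c (fun i => x i.castSucc) ∧
      ∀ r, x (Fin.last c) * r ∈ Ideal.span (Set.range fun i : Fin c => x i.castSucc) →
        ∃ s ∈ S, s * r ∈ Ideal.span (Set.range fun i : Fin c => x i.castSucc)

theorem WRC.mono {S S' : Submonoid R} (h : ∀ s ∈ S, ∃ t, t * s ∈ S') :
    ∀ (c : ℕ) (x : Fin c → R), WRC S c x → WRC S' c x := by
  intro c
  induction c with
  | zero => intro x _; trivial
  | succ c ih =>
    intro x hx
    refine ⟨ih _ hx.1, fun r hr => ?_⟩
    obtain ⟨s, hs, hsr⟩ := hx.2 r hr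
    obtain ⟨t, ht⟩ := h s hs
    refine ⟨t * s, ht, ?_⟩
    rw [mul_assoc]
    exact Ideal.mul_mem_left _ _ hsr

theorem span_range_algebraMap_comp {B : Type u} [CommRing B] [Algebra R B] {c : ℕ}
    (x : Fin c → R) : Ideal.span (Set.range fun i => algebraMap R B (x i)) =
      (Ideal.span (Set.range x)).map (algebraMap R B) := by
  rw [Ideal.map_span]
  congr 1
  ext b
  simp

theorem isWeaklyRegular_iff_WRC (S : Submonoid R) (B : Type u) [CommRing B] [Algebra R B]
    [IsLocalization S B] : ∀ (c : ℕ) (x : Fin c → R),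
    RingTheory.Sequence.IsWeaklyRegular B (List.ofFn fun i => algebraMap R B (x i)) ↔
      WRC S c x := by
  intro c
  induction c with
  | zero =>
    intro x
    rw [List.ofFn_zero]
    exact ⟨fun _ => trivial, fun _ => RingTheory.Sequence.IsWeaklyRegular.nil B B⟩
  | succ c ih =>
    intro x
    rw [isWeaklyRegular_ofFn_succ_iff, ih (fun i => x i.castSucc)]
    change _ ∧ _ ↔ _ ∧ _
    refine and_congr_right fun _ => ?_
    rw [span_range_algebraMap_comp (fun i : Fin c => x i.castSucc)]
    set J := Ideal.span (Set.range fun i : Fin c => x i.castSucc) with hJ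
    constructor
    · intro h r hr
      have h1 := h (algebraMap R B r) (by
        rw [← map_mul]
        exact Ideal.mem_map_of_mem _ hr)
      exact (IsLocalization.algebraMap_mem_map_algebraMap_iff S B J r).1 h1
    · intro h β hβ
      obtain ⟨r, s, rfl⟩ := IsLocalization.exists_mk'_eq S β
      have h1 : algebraMap R B (x (Fin.last c) * r) ∈ J.map (algebraMap R B) := by
        have h2 : algebraMap R B (x (Fin.last c) * r) =
            algebraMap R B s * (algebraMap R B (x (Fin.last c)) * IsLocalization.mk' B r s) := by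
          rw [map_mul, mul_left_comm, IsLocalization.mk'_spec']
        rw [h2]
        exact Ideal.mul_mem_left _ _ hβ
      obtain ⟨t, ht, htr⟩ := (IsLocalization.algebraMap_mem_map_algebraMap_iff S B J _).1 h1
      have h3 : x (Fin.last c) * (t * r) ∈ J := by
        rw [mul_left_comm]; exact htr
      obtain ⟨s', hs', hs'r⟩ := h (t * r) h3
      have h4 : algebraMap R B r ∈ J.map (algebraMap R B) :=
        (IsLocalization.algebraMap_mem_map_algebraMap_iff S B J r).2 ⟨s' * t, S.mul_mem hs' ht, by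
          rw [mul_assoc]; exact hs'r⟩
      rw [← IsLocalization.mk'_spec' B r s] at h4
      exact (Ideal.unit_mul_mem_iff_mem _ (IsLocalization.map_units B s)).1 h4

end

section
variable {R : Type u} [CommRing R] [IsNoetherianRing R]

/-- uniform denominators over a finitely generated ideal. -/
theorem exists_forall_mul_mem (p : Ideal R) [p.IsPrime] (C J : Ideal R)
    (h : ∀ r ∈ C, ∃ s, s ∉ p ∧ s * r ∈ J) : ∃ g, g ∉ p ∧ ∀ r ∈ C, g * r ∈ J := by
  classical
  obtain ⟨T, hT⟩ := (isNoetherianRing_iff_ideal_fg R).1 inferInstance C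
  have hTC : ∀ t ∈ T, t ∈ C := fun t ht => hT ▸ Ideal.subset_span ht
  choose! s hs using h
  refine ⟨∏ t ∈ T, s t, ?_, ?_⟩
  · intro hmem
    obtain ⟨t, ht, hst⟩ := (Ideal.IsPrime.prod_mem_iff).1 hmem
    exact (hs t (hTC t ht)).1 hst
  · intro r hr
    rw [← hT] at hr
    refine Submodule.span_induction ?_ ?_ ?_ ?_ hr
    · intro t ht
      obtain ⟨u, hu⟩ := Finset.dvd_prod_of_mem s ht
      rw [hu, mul_right_comm]
      rw [mul_comm]
      exact Ideal.mul_mem_left _ _ (hs t (hTC t ht)).2
    · rw [mul_zero]; exact Ideal.zero_mem _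
    · intro a b _ _ ha hb
      rw [mul_add]; exact Ideal.add_mem _ ha hb
    · intro a b _ hb
      rw [smul_eq_mul, mul_left_comm]
      exact Ideal.mul_mem_left _ _ hb

theorem WRC.spread (p : Ideal R) [p.IsPrime] : ∀ (c : ℕ) (x : Fin c → R),
    WRC p.primeCompl c x → ∃ g, g ∉ p ∧ WRC (Submonoid.powers g) c x := by
  intro c
  induction c with
  | zero => intro x _; exact ⟨1, fun h => (Ideal.IsPrime.ne_top ‹_›) ((Ideal.eq_top_iff_one _).2 h), trivial⟩
  | succ c ih =>
    intro x hx
    obtain ⟨g₁, hg₁, h₁⟩ := ih _ hx.1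
    set J := Ideal.span (Set.range fun i : Fin c => x i.castSucc) with hJ
    obtain ⟨g₂, hg₂, h₂⟩ := exists_forall_mul_mem p (J.colon {x (Fin.last c)}) J (by
      intro r hr
      rw [Submodule.mem_colon_singleton] at hr
      obtain ⟨s, hs, hsr⟩ := hx.2 r (by rw [mul_comm]; exact hr)
      exact ⟨s, hs, hsr⟩)
    refine ⟨g₁ * g₂, fun hmem => ?_, ?_, ?_⟩
    · rcases (Ideal.IsPrime.mem_or_mem ‹_› hmem) with h | h
      · exact hg₁ h
      · exact hg₂ h
    · refine WRC.mono ?_ c _ h₁
      rintro _ ⟨k, rfl⟩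
      exact ⟨g₂ ^ k, ⟨k, by simp only; rw [mul_pow, mul_comm]⟩⟩
    · intro r hr
      refine ⟨g₁ * g₂, Submonoid.mem_powers _, ?_⟩
      rw [mul_assoc]
      refine Ideal.mul_mem_left _ _ (h₂ r ?_)
      rw [Submodule.mem_colon_singleton, smul_eq_mul, mul_comm]
      exact hr

end

end Groth.Agent.Lib.Helper77.Vasc
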