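import Mathlib

/-!
# Local freeness of a finite projective module, elementwise (helper77)
-/

set_option autoImplicit false
universe u

namespace Groth.Agent.Lib.Helper77.Vasc

/-- A finite projective module is free near a prime `P`: there are `m_1, …, m_c` generating `M`
at `P` with only `P`-locally trivial relations. -/
theorem exists_local_basis (B : Type u) [CommRing B] (M : Type u) [AddCommGroup M] [Module B M]
    [Module.Finite B M] [Module.Projective B M] (P : Ideal B) [P.IsPrime] :
    ∃ (c : ℕ) (m : Fin c → M),
      (∀ z : M, ∃ s, s ∉ P ∧ s • z ∈ Submodule.span B (Set.range m)) ∧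
      (∀ a : Fin c → B, ∑ j, a j • m j = 0 → ∀ j, ∃ s, s ∉ P ∧ s * a j = 0) := by
  have hfree : Module.Free (Localization.AtPrime P) (LocalizedModule P.primeCompl M) :=
    Module.free_of_flat_of_isLocalRing
  let b := Module.finBasis (Localization.AtPrime P) (LocalizedModule P.primeCompl M)
  have hb : ∀ y : LocalizedModule P.primeCompl M, ∃ (mj : M) (sj : P.primeCompl),
      y = LocalizedModule.mk mj sj := fun y => by
    induction y using LocalizedModule.induction_on with
    | h m s => exact ⟨m, s, rfl⟩
  choose m s hms using fun j => hb (b j)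
  refine ⟨_, m, ?_, ?_⟩
  · intro z
    have hle : (⊤ : Submodule (Localization.AtPrime P) (LocalizedModule P.primeCompl M)) ≤
        Submodule.localized' (Localization.AtPrime P) P.primeCompl
          (LocalizedModule.mkLinearMap P.primeCompl M) (Submodule.span B (Set.range m)) := by
      rw [← b.span_eq, Submodule.span_le]
      rintro _ ⟨j, rfl⟩
      rw [hms j]
      exact (Submodule.mem_localized' _ _ _ _ _).2
        ⟨m j, Submodule.subset_span ⟨j, rfl⟩, s j, (IsLocalizedModule.mk_eq_mk' _ _).symm⟩
    have hz := hle (Submodule.mem_top : LocalizedModule.mk z 1 ∈ _)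
    rw [Submodule.mem_localized'] at hz
    obtain ⟨n, hn, t, hnt⟩ := hz
    rw [← IsLocalizedModule.mk_eq_mk', LocalizedModule.mk_eq] at hnt
    obtain ⟨u, hu⟩ := hnt
    refine ⟨u * t, (P.primeCompl.mul_mem u.2 t.2), ?_⟩
    have h1 : ((u : B) * (t : B)) • z = (u : B) • n := by
      have := hu
      simp only [Submonoid.smul_def, one_smul] at this
      rw [mul_smul]
      exact this.symm
    rw [h1]
    exact Submodule.smul_mem _ _ hn
  · intro a ha j
    have h1 : ∑ i, (algebraMap B (Localization.AtPrime P) (a i * (s i : B))) • b i = 0 := by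
      have h2 := congrArg (LocalizedModule.mkLinearMap P.primeCompl M) ha
      rw [map_sum, map_zero] at h2
      rw [← h2]
      refine Finset.sum_congr rfl fun i _ => ?_
      rw [map_smul, LocalizedModule.mkLinearMap_apply, algebraMap_smul, hms i, mul_smul,
        LocalizedModule.smul'_mk, ← Submonoid.smul_def, LocalizedModule.mk_cancel]
    have h3 := Fintype.linearIndependent_iff.1 b.linearIndependent _ h1 j
    rw [IsLocalization.map_eq_zero_iff P.primeCompl] at h3
    obtain ⟨u, hu⟩ := h3
    refine ⟨u * s j, P.primeCompl.mul_mem u.2 (s j).2, ?_⟩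
    rw [mul_assoc, mul_comm (s j : B)]
    exact hu

end Groth.Agent.Lib.Helper77.Vasc
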