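import Mathlib
import Groth.Agent.Lib.Helper77.Vasc4
import Groth.Agent.Lib.Helper77.Vasc5
import Groth.Agent.Lib.Helper77.Vasc6

/-!
# Vasconcelos (part 7): passing to the local ring at a prime (helper77)
-/

set_option autoImplicit false
universe u
open CategoryTheory

namespace Groth.Agent.Lib.Helper77.Vasc

section
variable {R : Type u} [CommRing R] [IsNoetherianRing R] (I : Ideal R)

/-- elementwise local freeness of the conormal module. -/
theorem exists_cotangent_local_basis [Module.Projective (R ⧸ I) I.Cotangent] (p : Ideal R)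
    [p.IsPrime] (hIp : I ≤ p) :
    ∃ (c : ℕ) (x : Fin c → R), (∀ j, x j ∈ I) ∧
      (∀ z ∈ I, ∃ s, s ∉ p ∧ ∃ w ∈ Ideal.span (Set.range x), s * z - w ∈ I ^ 2) ∧
      (∀ a : Fin c → R, ∑ j, a j * x j ∈ I ^ 2 → ∀ j, ∃ s, s ∉ p ∧ s * a j ∈ I) := by
  have : Module.Finite R I := Module.IsNoetherian.finite R I
  have : Module.Finite R I.Cotangent :=
    Module.Finite.of_surjective I.toCotangent I.toCotangent_surjective
  have : Module.Finite (R ⧸ I) I.Cotangent :=
    Module.Finite.of_restrictScalars_finite R (R ⧸ I) I.Cotangent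
  have hP : (p.map (Ideal.Quotient.mk I)).IsPrime :=
    Ideal.map_isPrime_of_surjective Ideal.Quotient.mk_surjective (by rw [Ideal.mk_ker]; exact hIp)
  obtain ⟨c, m, hG, hS⟩ := exists_local_basis (R ⧸ I) I.Cotangent (p.map (Ideal.Quotient.mk I))
  choose x hx using fun j => I.toCotangent_surjective (m j)
  have hmem : ∀ s : R ⧸ I, s ∉ p.map (Ideal.Quotient.mk I) →
      ∃ s' : R, s' ∉ p ∧ Ideal.Quotient.mk I s' = s := by
    intro s hs
    obtain ⟨s', rfl⟩ := Ideal.Quotient.mk_surjective s
    exact ⟨s', fun h => hs (Ideal.mem_map_of_mem _ h), rfl⟩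
  have hsm : ∀ (r : R) (v : I.Cotangent), Ideal.Quotient.mk I r • v = r • v :=
    fun r v => algebraMap_smul (R ⧸ I) r v
  refine ⟨c, fun j => (x j : R), fun j => (x j).2, ?_, ?_⟩
  · intro z hz
    obtain ⟨s, hs, hsz⟩ := hG (I.toCotangent ⟨z, hz⟩)
    obtain ⟨s', hs', rfl⟩ := hmem s hs
    obtain ⟨β, hβ⟩ := (Submodule.mem_span_range_iff_exists_fun _).1 hsz
    choose r hr using fun j => Ideal.Quotient.mk_surjective (β j)
    refine ⟨s', hs', ∑ j, r j * (x j : R), ?_, ?_⟩
    · exact Ideal.sum_mem _ fun j _ => Ideal.mul_mem_left _ _ (Ideal.subset_span ⟨j, rfl⟩)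
    · have h1 : I.toCotangent (s' • ⟨z, hz⟩ - ∑ j, r j • x j) = 0 := by
        rw [map_sub, map_smul, map_sum, sub_eq_zero, ← hsm, ← hβ]
        refine Finset.sum_congr rfl fun j _ => ?_
        rw [map_smul, hx j, ← hr j, hsm]
      rw [Ideal.toCotangent_eq_zero] at h1
      simpa using h1
  · intro a ha j
    have h1 : ∑ i, (Ideal.Quotient.mk I (a i)) • m i = 0 := by
      have h2 : I.toCotangent (∑ i, a i • x i) = 0 := by
        rw [Ideal.toCotangent_eq_zero]
        simpa using ha
      rw [← h2, map_sum]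
      refine Finset.sum_congr rfl fun i _ => ?_
      rw [map_smul, hx i, hsm]
    obtain ⟨s, hs, hsa⟩ := hS _ h1 j
    obtain ⟨s', hs', rfl⟩ := hmem s hs
    refine ⟨s', hs', ?_⟩
    rw [← map_mul, Ideal.Quotient.eq_zero_iff_mem] at hsa
    exact hsa

/-- Vasconcelos at a prime: the ideal becomes generated by a regular sequence in the local ring,
with generators coming from `I`. -/
theorem exists_regular_localization (n : ℕ)
    (hpd : HasProjectiveDimensionLT (ModuleCat.of R I) (n + 1))
    [Module.Projective (R ⧸ I) I.Cotangent] (p : Ideal R) [p.IsPrime] (hIp : I ≤ p) :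
    ∃ (c : ℕ) (x : Fin c → R), (∀ j, x j ∈ I) ∧
      RingTheory.Sequence.IsWeaklyRegular (Localization.AtPrime p)
        (List.ofFn fun j => algebraMap R (Localization.AtPrime p) (x j)) ∧
      (∀ z ∈ I, ∃ s, s ∉ p ∧ s * z ∈ Ideal.span (Set.range x)) := by
  obtain ⟨c, x, hxI, hG, hS⟩ := exists_cotangent_local_basis I p hIp
  have : IsNoetherianRing (Localization.AtPrime p) :=
    IsLocalization.isNoetherianRing p.primeCompl _ inferInstance
  set A := Localization.AtPrime p with hA
  set ξ : Fin c → A := fun j => algebraMap R A (x j) with hξ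
  set 𝔞 := I.map (algebraMap R A) with h𝔞
  have hJ : Ideal.span (Set.range ξ) = (Ideal.span (Set.range x)).map (algebraMap R A) :=
    span_range_algebraMap_comp x
  have hle : Ideal.span (Set.range ξ) ≤ 𝔞 := by
    rw [hJ]
    exact Ideal.map_mono (Ideal.span_le.2 (by rintro _ ⟨j, rfl⟩; exact hxI j))
  have hmax : 𝔞 ≤ IsLocalRing.maximalIdeal A := by
    rw [h𝔞, Ideal.map_le_iff_le_comap]
    intro z hz
    exact (IsLocalization.AtPrime.to_map_mem_maximal_iff A p z).2 (hIp hz)
  have hunit : ∀ s : R, s ∉ p → IsUnit (algebraMap R A s) :=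
    fun s hs => IsLocalization.map_units A (⟨s, hs⟩ : p.primeCompl)
  have hgen : Ideal.span (Set.range ξ) = 𝔞 := by
    refine le_antisymm hle ?_
    have hfg : (𝔞 : Submodule A A).FG := (isNoetherianRing_iff_ideal_fg A).1 inferInstance 𝔞
    refine Submodule.le_of_le_smul_of_le_jacobson_bot hfg (I := 𝔞) ?_ ?_
    · rw [IsLocalRing.jacobson_eq_maximalIdeal ⊥ bot_ne_top]; exact hmax
    · rw [h𝔞, Ideal.map_le_iff_le_comap]
      intro z hz
      obtain ⟨s, hs, w, hw, hq⟩ := hG z hz
      rw [Ideal.mem_comap]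
      have h1 : algebraMap R A s * algebraMap R A z ∈
          Ideal.span (Set.range ξ) ⊔ (Ideal.map (algebraMap R A) I) • (Ideal.map (algebraMap R A) I) := by
        have h2 : algebraMap R A s * algebraMap R A z =
            algebraMap R A w + algebraMap R A (s * z - w) := by
          rw [← map_mul, ← map_add]; congr 1; ring
        rw [h2]
        refine Submodule.add_mem_sup ?_ ?_
        · rw [hJ]; exact Ideal.mem_map_of_mem _ hw
        · rw [smul_eq_mul, ← pow_two, ← Ideal.map_pow]; exact Ideal.mem_map_of_mem _ hq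
      exact (Ideal.unit_mul_mem_iff_mem _ (hunit s hs)).1 h1
  have hsyz : SyzIn ξ := by
    intro α hα j
    rw [hgen]
    obtain ⟨t, ht⟩ := IsLocalization.exist_integer_multiples p.primeCompl
      (Finset.univ : Finset (Fin c)) α
    choose a ha using fun i => ht i (Finset.mem_univ i)
    have h1 : algebraMap R A (∑ i, a i * x i) = 0 := by
      rw [map_sum]
      have h2 : ∀ i, algebraMap R A (a i * x i) = (t : R) • (α i * ξ i) := fun i => by
        rw [map_mul, ha i, smul_mul_assoc]
      simp_rw [h2]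
      rw [← Finset.smul_sum, hα, smul_zero]
    rw [IsLocalization.map_eq_zero_iff p.primeCompl] at h1
    obtain ⟨u, hu⟩ := h1
    have h2 : ∑ i, ((u : R) * a i) * x i ∈ I ^ 2 := by
      have h3 : ∑ i, ((u : R) * a i) * x i = u * ∑ i, a i * x i := by
        rw [Finset.mul_sum]; exact Finset.sum_congr rfl fun i _ => by ring
      rw [h3, hu]; exact Ideal.zero_mem _
    obtain ⟨s, hs, hsa⟩ := hS (fun i => u * a i) h2 j
    have h3 : algebraMap R A (s * u * t) * α j ∈ 𝔞 := by
      have h4 : algebraMap R A (s * u * t) * α j = algebraMap R A (s * (u * a j)) := by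
        rw [map_mul (algebraMap R A) s ((u : R) * a j), map_mul (algebraMap R A) (u : R) (a j),
          ha j, Algebra.smul_def]
        simp only [map_mul]; ring
      rw [h4]; exact Ideal.mem_map_of_mem _ hsa
    exact (Ideal.unit_mul_mem_iff_mem _
      (hunit _ (p.primeCompl.mul_mem (p.primeCompl.mul_mem hs u.2) t.2))).1 h3
  have hpdA : HasProjectiveDimensionLT (ModuleCat.of A (Ideal.span (Set.range ξ))) (n + 1) := by
    have h1 := hasProjectiveDimensionLT_localizedModule R p.primeCompl n I hpd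
    have e₀ : LocalizedModule p.primeCompl I ≃ₗ[R]
        ↥(Submodule.localized' A p.primeCompl (Algebra.linearMap R A) I) :=
      IsLocalizedModule.linearEquiv p.primeCompl (LocalizedModule.mkLinearMap p.primeCompl I)
        (Submodule.toLocalized' A p.primeCompl (Algebra.linearMap R A) I)
    have e₁ := e₀.extendScalarsOfIsLocalization p.primeCompl A
    have heq : Submodule.localized' A p.primeCompl (Algebra.linearMap R A) I =
        Ideal.span (Set.range ξ) := by rw [Ideal.localized'_eq_map, hgen]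
    have e₂ : LocalizedModule p.primeCompl I ≃ₗ[A] ↥(Ideal.span (Set.range ξ)) :=
      e₁.trans (LinearEquiv.ofEq _ _ heq)
    exact hasProjectiveDimensionLT_of_iso e₂.toModuleIso (n + 1)
  have hrad : ∀ j, ξ j ∈ (⊥ : Ideal A).jacobson := fun j => by
    rw [IsLocalRing.jacobson_eq_maximalIdeal ⊥ bot_ne_top]
    exact hmax (Ideal.mem_map_of_mem _ (hxI j))
  have hreg := isWeaklyRegular_of_syzIn c A ξ hrad n hpdA hsyz
  refine ⟨c, x, hxI, hreg, fun z hz => ?_⟩
  have h1 : algebraMap R A z ∈ (Ideal.span (Set.range x)).map (algebraMap R A) := by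
    rw [← hJ, hgen]; exact Ideal.mem_map_of_mem _ hz
  obtain ⟨s, hs, hsz⟩ :=
    (IsLocalization.algebraMap_mem_map_algebraMap_iff p.primeCompl A _ z).1 h1
  exact ⟨s, hs, hsz⟩

end

end Groth.Agent.Lib.Helper77.Vasc
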